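import Cfsg.Agent.Lib.BR.Setup

/-!
# The virtual characters `(1 - λ)^G`
-/

set_option autoImplicit false

namespace Cfsg.Agent.BR

open Subgroup Cfsg.Agent.OO
open scoped ComplexConjugate

universe u

variable {G : Type u} [Group G] {p : ℕ} [hp : Fact p.Prime] {x y : G} {K H : Subgroup G}

/-- the standard additive character -/
noncomputable abbrev ψ (a : ZMod p) : ℂ := ZMod.stdAddChar a

theorem sum_ψ (b : ZMod p) : ∑ i : ZMod p, ψ (b * i) = if b = 0 then (p : ℂ) else 0 := by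
  have := AddChar.sum_mulShift b (ZMod.isPrimitive_stdAddChar p)
  simpa [mul_comm b] using this

theorem conj_ψ (a : ZMod p) : conj (ψ a) = ψ (-a) := (AddChar.map_neg_eq_conj _ _).symm

theorem ψ_add (a b : ZMod p) : ψ (a + b) = ψ a * ψ b := AddChar.map_add_eq_mul _ _ _

theorem sum_units {V : Type*} [AddCommMonoid V] (f : ZMod p → V) :
    ∑ a, f a = f 0 + ∑ a : (ZMod p)ˣ, f a := by
  rw [Fintype.sum_eq_add_sum_subtype_ne f 0]
  congr 1
  exact (Fintype.sum_equiv unitsEquivNeZero _ _ fun _ => rfl).symm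

theorem sum_units_ψ (b : (ZMod p)ˣ) : ∑ a : (ZMod p)ˣ, ψ ((b : ZMod p) * (a : ZMod p)) = -1 := by
  have := sum_ψ (b : ZMod p)
  rw [sum_units, if_neg b.ne_zero] at this
  simp only [mul_zero, AddChar.map_zero_eq_one] at this
  linear_combination this

open Classical in
/-- the `P`-component of an element of `C` -/
noncomputable def idx (p : ℕ) [Fact p.Prime] (x : G) (K : Subgroup G) (g : G) : ZMod p :=
  if h : ∃ i : ZMod p, ∃ k ∈ K, g = xp x i * k then h.choose else 0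

open Classical in
/-- the linear characters of `C / K` -/
noncomputable def lam (x : G) (K : Subgroup G) (a : ZMod p) : G → ℂ :=
  fun g => if g ∈ 𝐂[x] then ψ (a * idx p x K g) else 0

variable [Finite G]

/-- `α_a = (1 - λ_a)^G` -/
noncomputable def al (x : G) (K : Subgroup G) (a : ZMod p) : G → ℂ :=
  cfInd ⊤ 𝐂[x] (cf1 𝐂[x] - lam x K a)

/-- sum over a coset of `K` -/
noncomputable def TT (x : G) (K : Subgroup G) (θ : G → ℂ) (i : ZMod p) : ℂ :=
  ∑ k ∈ elts (K : Set G), θ (xp x i * k)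

theorem DD_eq (θ : G → ℂ) : DD p x K θ = ∑ a : (ZMod p)ˣ, TT x K θ (a : ZMod p) := by
  have h1 := sum_units (TT (p := p) x K θ)
  have h2 : ∑ a : ZMod p, TT x K θ a =
      ∑ i ∈ Finset.range p, ∑ k ∈ elts (K : Set G), θ (x ^ i * k) := by
    refine Finset.sum_bij (fun a _ => a.val) (fun a _ => Finset.mem_range.2 (ZMod.val_lt a))
      (fun a _ b _ h => ZMod.val_injective p h) (fun i hi => ⟨i, Finset.mem_univ _,
        ZMod.val_cast_of_lt (Finset.mem_range.1 hi)⟩) (fun _ _ => rfl)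
  rw [h2, Finset.range_eq_Ico, Finset.sum_eq_sum_Ico_succ_bot hp.out.pos] at h1
  simpa [TT, xp_zero, DD] using h1

namespace Dat
variable (d : Dat p x y K H)
include d

theorem idx_eq (i : ZMod p) {k : G} (hk : k ∈ K) : idx p x K (xp x i * k) = i := by
  have h : ∃ j : ZMod p, ∃ l ∈ K, xp x i * k = xp x j * l := ⟨i, k, hk, rfl⟩
  rw [idx, dif_pos h]
  obtain ⟨l, hl, e⟩ := h.choose_spec
  generalize h.choose = j at e
  have h1 : xp x (-j + i) * k = l := by rw [xp_add d.ord, xp_neg d.ord, mul_assoc, e]; simp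
  exact neg_add_eq_zero.1 ((d.mul_mem_K hk).1 (h1 ▸ hl))

theorem lam_val (a i : ZMod p) {k : G} (hk : k ∈ K) : lam x K a (xp x i * k) = ψ (a * i) := by
  rw [lam, if_pos (d.mem_C.2 ⟨i, k, hk, rfl⟩), d.idx_eq i hk]

theorem lin_lam (a : ZMod p) : IsLinChar 𝐂[x] (lam x K a) := by
  refine isLinChar_of_mul (fun g hg => if_neg hg) ?_ fun g hg h hh => ?_
  · simpa [xp_zero] using d.lam_val a 0 (one_mem K)
  · obtain ⟨i, k, hk, rfl⟩ := d.mem_C.1 hg
    obtain ⟨j, l, hl, rfl⟩ := d.mem_C.1 hh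
    have : xp x i * k * (xp x j * l) = xp x (i + j) * (k * l) := by
      rw [xp_add d.ord, mul_assoc, mul_assoc, ← mul_assoc k, (d.KP hk (xp_mem j)).eq, mul_assoc]
    rw [this, d.lam_val a _ (mul_mem hk hl), d.lam_val a _ hk, d.lam_val a _ hl, mul_add, ψ_add]

theorem sub_val (a i : ZMod p) {k : G} (hk : k ∈ K) :
    (cf1 𝐂[x] - lam x K a) (xp x i * k) = 1 - ψ (a * i) := by
  rw [Pi.sub_apply, d.lam_val a i hk, cf1E (d.mem_C.2 ⟨i, k, hk, rfl⟩)]

theorem sub_CF (a : ZMod p) : cf1 𝐂[x] - lam x K a ∈ CF 𝐂[x] :=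
  sub_mem (cf1_mem_CF _) (d.lin_lam a).mem_CF

theorem sub_supp (a : ZMod p) : cf1 𝐂[x] - lam x K a ∈ suppOn ((𝐂[x] : Set G) \ K) := by
  intro g hg
  by_cases h : g ∈ 𝐂[x]
  · have hk : g ∈ K := by_contra fun h' => hg ⟨h, h'⟩
    simpa [xp_zero] using d.sub_val a 0 hk
  · exact (d.sub_CF a).1 g h

theorem al_vchar (a : ZMod p) : al x K a ∈ ZIrr ⊤ :=
  cfInd_vchar le_top (sub_mem (cf1_vchar _) (char_vchar (d.lin_lam a).isChar))

theorem al_reg (a : ZMod p) {g : G} (hg : ¬ p ∣ orderOf g) : al x K a g = 0 := by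
  refine cfInd_suppOn _ _ (d.sub_supp a) g fun h => hg ?_
  obtain ⟨c, hc, b, -, rfl⟩ := mem_classSupp.1 h
  have h3 : orderOf (b * c * b⁻¹) = orderOf c := (MulAut.conj b).orderOf_eq c
  exact h3 ▸ d.dvd_orderOf hc

theorem al_one (a : ZMod p) : al x K a 1 = 0 :=
  d.al_reg a (by rw [orderOf_one]; exact hp.out.not_dvd_one)

theorem dot_al {θ : G → ℂ} (hθ : θ ∈ CF ⊤) (a : ZMod p) :
    ⟪θ, al x K a⟫[⊤] = ((p : ℂ) * ♯K)⁻¹ * ∑ i, TT x K θ i * (1 - ψ (-a * i)) := by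
  rw [al, cfdot_cfInd_right le_top hθ (d.sub_CF a).1, cfdotE, d.sumC, d.cardC]
  push_cast
  congr 1
  refine Finset.sum_congr rfl fun i _ => ?_
  rw [TT, Finset.sum_mul]
  refine Finset.sum_congr rfl fun k hk => ?_
  rw [d.sub_val a i (mem_elts.1 hk), map_sub, map_one, conj_ψ, neg_mul]

omit [Finite G] in
/-- the image of `N(P)` in `Aut(P)` -/
noncomputable abbrev E : Subgroup (ZMod p)ˣ := (sig d.ord).range

omit [Finite G] in
theorem sum_sig {V : Type*} [AddCommMonoid V] [Fintype d.E] (F : (ZMod p)ˣ → V)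
    [Fintype 𝐍(zpowers x)] :
    ∑ g : 𝐍(zpowers x), F (sig d.ord g) = ♯𝐂[x] • ∑ τ : d.E, F τ := by
  have := sum_comp_of_surjective (sig d.ord).rangeRestrict (sig d.ord).rangeRestrict_surjective
    (fun τ => F τ)
  rw [MonoidHom.ker_rangeRestrict, ker_sig,
    Nat.card_congr (subgroupOfEquivOfLe C_le_N).toEquiv] at this
  exact this

theorem cardN' : ♯𝐍(zpowers x) = ♯𝐂[x] * Nat.card d.E := by
  have := Fintype.ofFinite 𝐍(zpowers x)
  have := Fintype.ofFinite d.E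
  have h := d.sum_sig (fun _ => (1 : ℕ))
  simpa only [Finset.sum_const, Finset.card_univ, smul_eq_mul, mul_one,
    ← Nat.card_eq_fintype_card] using h

theorem al_val [Fintype d.E] (a : ZMod p) {i : ZMod p} (hi : i ≠ 0) {k : G} (hk : k ∈ K) :
    al x K a (xp x i * k) = ∑ τ : d.E, (1 - ψ (a * ((τ : (ZMod p)ˣ) : ZMod p) * i)) := by
  have := Fintype.ofFinite 𝐍(zpowers x)
  have hA := d.mem_A.2 ⟨i, hi, k, hk, rfl⟩
  rw [al, ← cfIndInd' C_le_N le_top (d.sub_CF a), normedTI_Ind_id d.tiA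
    (cfInd_on_of_conj _ d.tiA.conj_mem (d.sub_supp a)) hA (mem_top _), cfIndE' _ _ (C_le_N hA.1),
    sum_elts_subtype, Finset.sum_congr rfl fun g _ => by
      rw [d.conj_mul g, d.sub_val a _ (d.Knorm' g.2 hk), ← mul_assoc],
    d.sum_sig (fun τ => 1 - ψ (a * (τ : ZMod p) * i)), nsmul_eq_mul, inv_mul_cancel_left₀ (cardC_ne_zero _)]

open Classical in
theorem gram (a b : (ZMod p)ˣ) : ⟪al x K (a : ZMod p), al x K (b : ZMod p)⟫[⊤] =
    Nat.card d.E + if a⁻¹ * b ∈ d.E then 1 else 0 := by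
  have := Fintype.ofFinite d.E
  have h1 : ∀ i : ZMod p, TT x K (al x K (a : ZMod p)) i * (1 - ψ (-(b : ZMod p) * i)) =
      ♯K * ∑ τ : d.E, (1 - ψ ((a : ZMod p) * ((τ : (ZMod p)ˣ) : ZMod p) * i) -
        ψ (-(b : ZMod p) * i) + ψ (((a : ZMod p) * ((τ : (ZMod p)ˣ) : ZMod p) - (b : ZMod p)) * i)) := fun i => by
    by_cases hi : i = 0
    · simp [hi]
    rw [TT, Finset.sum_congr rfl fun k hk => d.al_val a hi (mem_elts.1 hk), sum_elts_const,
      nsmul_eq_mul, mul_assoc, Finset.sum_mul]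
    congr 1
    refine Finset.sum_congr rfl fun τ _ => ?_
    rw [sub_eq_add_neg (_ * _ : ZMod p), add_mul, ψ_add]; ring
  have hp0 : (p : ℂ) ≠ 0 := by exact_mod_cast hp.out.ne_zero
  rw [d.dot_al (vchar_mem_CF (d.al_vchar _)), Finset.sum_congr rfl fun i _ => h1 i,
    ← Finset.mul_sum, Finset.sum_comm]
  simp only [Finset.sum_add_distrib, Finset.sum_sub_distrib, sum_ψ]
  have h2 : ∑ τ : d.E, (if (a * (τ : (ZMod p)ˣ) - b : ZMod p) = 0 then (p : ℂ) else 0) =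
      if a⁻¹ * b ∈ d.E then (p : ℂ) else 0 := by
    split_ifs with h
    · rw [Finset.sum_eq_single ⟨_, h⟩, if_pos (by
        rw [sub_eq_zero, ← Units.val_mul, Units.val_inj]; exact mul_inv_cancel_left a b)]
      · intro τ _ hτ
        refine if_neg fun h' => hτ (Subtype.ext ?_)
        rw [sub_eq_zero, ← Units.val_mul, Units.val_inj] at h'
        exact eq_inv_mul_of_mul_eq h'
      · exact fun h => absurd (Finset.mem_univ _) h
    · refine Finset.sum_eq_zero fun τ _ => if_neg fun h' => h ?_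
      rw [sub_eq_zero, ← Units.val_mul, Units.val_inj] at h'
      exact eq_inv_mul_of_mul_eq h' ▸ τ.2
  rw [h2]
  have := cardC_ne_zero K
  simp only [mul_eq_zero, Units.ne_zero, or_self, if_false, neg_eq_zero, Finset.sum_const,
    Finset.card_univ, ZMod.card, smul_zero, sub_zero, nsmul_eq_mul, mul_one,
    Nat.card_eq_fintype_card (α := d.E)]
  split_ifs <;> field_simp
  ring

omit d in
theorem al_zero : al x K (0 : ZMod p) = 0 := by
  have : lam x K (0 : ZMod p) = cf1 𝐂[x] := by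
    ext g; by_cases h : g ∈ 𝐂[x] <;> simp [lam, h, cf1E, cf1_of_not_mem]
  rw [al, this, sub_self, map_zero]

theorem fourier0 {θ : G → ℂ} (hθ : θ ∈ CF ⊤) (j : ZMod p) :
    ♯K * ∑ a : (ZMod p)ˣ, ⟪θ, al x K (a : ZMod p)⟫[⊤] * ψ ((a : ZMod p) * j) =
      (if j = 0 then ∑ i : ZMod p, TT x K θ i else 0) - TT x K θ j := by
  have h1 := sum_units (fun a : ZMod p => ⟪θ, al x K a⟫[⊤] * ψ (a * j))
  rw [al_zero, cfdot0r, zero_mul, zero_add] at h1
  rw [← h1]
  have hp0 : (p : ℂ) ≠ 0 := by exact_mod_cast hp.out.ne_zero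
  have := cardC_ne_zero K
  have h2 : ∀ a : ZMod p, ⟪θ, al x K a⟫[⊤] * ψ (a * j) = ((p : ℂ) * ♯K)⁻¹ *
      ∑ i, TT x K θ i * (ψ (j * a) - ψ ((j - i) * a)) := fun a => by
    rw [d.dot_al hθ, mul_assoc, Finset.sum_mul]
    congr 1
    refine Finset.sum_congr rfl fun i _ => ?_
    rw [show (j - i) * a = -a * i + a * j by ring, ψ_add, mul_comm j]; ring
  rw [Finset.sum_congr rfl fun a _ => h2 a, ← Finset.mul_sum, Finset.sum_comm]
  simp only [← Finset.mul_sum, Finset.sum_sub_distrib, sum_ψ, mul_sub, sub_eq_zero, mul_ite,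
    mul_zero, Finset.sum_ite_eq, Finset.mem_univ, if_true]
  split_ifs
  · rw [← Finset.sum_mul]; field_simp
  · simp; field_simp

theorem fourier {θ : G → ℂ} (hθ : θ ∈ CF ⊤) {j : ZMod p} (hj : j ≠ 0) :
    TT x K θ j = -♯K * ∑ a : (ZMod p)ˣ, ⟪θ, al x K (a : ZMod p)⟫[⊤] * ψ ((a : ZMod p) * j) := by
  have := d.fourier0 hθ j
  rw [if_neg hj] at this
  linear_combination this

theorem DD_dot {θ : G → ℂ} (hθ : θ ∈ CF ⊤) :
    DD p x K θ = ♯K * ∑ a : (ZMod p)ˣ, ⟪θ, al x K (a : ZMod p)⟫[⊤] := by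
  have := d.fourier0 hθ 0
  rw [if_pos rfl, sum_units] at this
  simp only [mul_zero, AddChar.map_zero_eq_one, mul_one] at this
  rw [DD_eq, this]; ring

theorem sum_A (θ : G → ℂ) : ∑ c ∈ elts ((𝐂[x] : Set G) \ K), θ c = DD p x K θ := by
  classical
  have h1 := d.sumC θ
  have h2 : elts (K : Set G) ⊆ elts (𝐂[x] : Set G) := fun k hk => mem_elts.2 (d.KC (mem_elts.1 hk))
  have h3 : elts ((𝐂[x] : Set G) \ K) = elts (𝐂[x] : Set G) \ elts (K : Set G) := by ext; simp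
  rw [← Finset.sum_sdiff h2, sum_units] at h1
  rw [h3, DD_eq]
  simp only [xp_zero, one_mul] at h1
  exact add_left_cancel ((add_comm _ _).trans h1)

theorem mem_B0 {θ : G → ℂ} (hθ : IsIrr ⊤ θ) (h : DD p x K θ ≠ 0) : θ ∈ Blk.B0 p ⊤ := by
  classical
  by_cases h1 : θ = cf1 ⊤
  · exact h1 ▸ Blk.cf1_mem_B0
  refine Blk.mem_B0.2 ⟨hθ, fun h0 => h ?_⟩
  have h2 := hθ.sum_eq_zero h1
  have h3 : elts (Blk.Reg p (⊤ : Subgroup G)) ⊆ elts ((⊤ : Subgroup G) : Set G) := fun g _ => by simp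
  have h4 : elts ((⊤ : Subgroup G) : Set G) \ elts (Blk.Reg p (⊤ : Subgroup G)) =
      elts (classSupp ((𝐂[x] : Set G) \ K) ⊤) := by
    ext g
    simp only [Finset.mem_sdiff, mem_elts, Blk.mem_Reg, coe_top, Set.mem_univ, true_and, mem_top,
      not_not]
    refine ⟨d.exists_conj_A, fun h => ?_⟩
    obtain ⟨c, hc, b, -, rfl⟩ := mem_classSupp.1 h
    have h3 : orderOf (b * c * b⁻¹) = orderOf c := (MulAut.conj b).orderOf_eq c
    exact h3 ▸ d.dvd_orderOf hc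
  rw [← Finset.sum_sdiff h3, h0, add_zero, h4, sum_TI d.tiA hθ.mem_CF, d.sum_A] at h2
  exact (mul_eq_zero.1 h2).resolve_left (by exact_mod_cast index_ne_zero_of_finite)

theorem val_B0 {θ : G → ℂ} (hθ : θ ∈ Blk.B0 p ⊤) {i : ZMod p} (hi : i ≠ 0) {k : G} (hk : k ∈ K) :
    θ (xp x i * k) = θ (xp x i) :=
  Blk.apply_mul_eq_of_mem_B0 (k := 1) (N := K) hθ (mem_top _) (by rw [pow_one, xp_pow_p d.ord])
    (by rw [top_inf_eq, d.cent_xp hi]; exact d.K_normal) d.copK hk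

theorem val_eq {θ : G → ℂ} (hθ : IsIrr ⊤ θ) (h : DD p x K θ ≠ 0) {i : ZMod p} (hi : i ≠ 0) {k : G}
    (hk : k ∈ K) : θ (xp x i * k) =
      -∑ a : (ZMod p)ˣ, ⟪θ, al x K (a : ZMod p)⟫[⊤] * ψ ((a : ZMod p) * i) := by
  have h1 := d.fourier hθ.mem_CF hi
  have h2 := d.mem_B0 hθ h
  rw [TT, Finset.sum_congr rfl fun l hl => d.val_B0 h2 hi (mem_elts.1 hl), sum_elts_const,
    nsmul_eq_mul] at h1
  rw [d.val_B0 h2 hi hk]
  apply mul_left_cancel₀ (cardC_ne_zero K)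
  linear_combination h1

end Dat
end Cfsg.Agent.BR
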