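import Mathlib

/-!
# Divisors of `(p - 1) n` congruent to `± 1` modulo `p`
-/

set_option autoImplicit false

namespace Cfsg.Agent.BR

/-- the exceptional factorisation `n = (p - b)(p + a)`, `p - 1 = a b` -/
structure CaseB (p n a b X : ℕ) : Prop where
  ha : 2 ≤ a
  hab : a ≤ b
  hp : a * b + 1 = p
  hX : X + b = p
  hn : n = X * (p + a)

theorem arith_core {p r u m : ℤ} (hp : 2 ≤ p) (hr : r < p) (hu : 1 ≤ u) (hm : 2 ≤ m)
    (h : (u * p + 1) * (m * p - 1) = (p - 1) * (1 + r * p)) :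
    r = u * m + 1 ∧ (u + 1) * (m - 1) = p - 1 := by
  have h1 : (r - u * m) * (p - 1) = (u + 1) * (m - 1) := by
    apply mul_left_cancel₀ (by omega : p ≠ 0)
    linear_combination -h
  have h2 : 0 < r - u * m := by
    by_contra h3
    have : (r - u * m) * (p - 1) ≤ 0 := mul_nonpos_of_nonpos_of_nonneg (by omega) (by omega)
    have : 0 < (u + 1) * (m - 1) := mul_pos (by omega) (by omega)
    omega
  have h3 : r - u * m < 2 := by
    by_contra h3
    have : 2 * (p - 1) ≤ (r - u * m) * (p - 1) := mul_le_mul_of_nonneg_right (by omega) (by omega)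
    have : m ≤ u * m := by nlinarith
    nlinarith
  have h4 : r - u * m = 1 := by omega
  rw [h4] at h1
  exact ⟨by omega, by omega⟩

theorem arith_pair {p r F F' : ℕ} (hp : 2 ≤ p) (hr : r < p) (h : F * F' = (p - 1) * (1 + r * p))
    (h1 : (p : ℤ) ∣ F - 1) : (F = 1 ∧ F' = (p - 1) * (1 + r * p)) ∨ (F = 1 + r * p ∧ F' = p - 1) ∨
      ∃ a b X, CaseB p (1 + r * p) a b X ∧ F = a * X ∧ F' = b * (p + a) := by
  obtain ⟨u, hu⟩ := h1
  have hz : (F : ℤ) * F' = (p - 1) * (1 + r * p) := by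
    have := congrArg (Nat.cast : ℕ → ℤ) h
    push_cast [Nat.cast_sub (by omega : 1 ≤ p)] at this
    exact this
  have hp' : (2 : ℤ) ≤ p := by exact_mod_cast hp
  have hF : (F : ℤ) = u * p + 1 := by linear_combination hu
  have hm : (F' : ℤ) = (1 + r * p - r - u * F') * p - 1 := by
    rw [hF] at hz; linear_combination hz
  generalize (1 + r * p - r - u * F' : ℤ) = m at hm
  have hu0 : 0 ≤ u := by
    by_contra h3
    have : u * p ≤ -1 * p := mul_le_mul_of_nonneg_right (by omega) (by omega)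
    omega
  have hm0 : 1 ≤ m := by
    by_contra h3
    have : m * p ≤ 0 := mul_nonpos_of_nonpos_of_nonneg (by omega) (by omega)
    omega
  rcases eq_or_lt_of_le hu0 with rfl | hu1
  · have : F = 1 := by omega
    subst this
    exact .inl ⟨rfl, by omega⟩
  rcases eq_or_lt_of_le hm0 with rfl | hm1
  · have : F' = p - 1 := by omega
    subst this
    rw [mul_comm] at h
    exact .inr (.inl ⟨Nat.eq_of_mul_eq_mul_left (by omega) h, rfl⟩)
  rw [hF, hm] at hz
  obtain ⟨h2, h3⟩ := arith_core hp' (by exact_mod_cast hr) hu1 hm1 hz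
  obtain ⟨a, ha⟩ := Int.eq_ofNat_of_zero_le (by omega : 0 ≤ u + 1)
  obtain ⟨b, hb⟩ := Int.eq_ofNat_of_zero_le (by omega : 0 ≤ m - 1)
  obtain rfl : u = a - 1 := by omega
  obtain rfl : m = b + 1 := by omega
  have h4 : (p : ℤ) = a * b + 1 := by linear_combination -h3
  have hr' : (r : ℤ) < p := by exact_mod_cast hr
  have h5 : (a : ℤ) ≤ b := by nlinarith
  have h6 : (b : ℤ) ≤ p := by nlinarith
  obtain ⟨X, hX⟩ := Int.eq_ofNat_of_zero_le (by omega : 0 ≤ (p : ℤ) - b)
  refine .inr (.inr ⟨a, b, X, ⟨by omega, by omega, by exact_mod_cast h4.symm, by omega, ?_⟩, ?_, ?_⟩)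
  · zify; rw [← hX, h2, h4]; ring
  · zify; rw [← hX, hF, h4]; ring
  · zify; rw [hm, h4]; ring

theorem arith_pos {p r F : ℕ} (hp : 2 ≤ p) (hr : r < p) (h : F ∣ (p - 1) * (1 + r * p))
    (h1 : (p : ℤ) ∣ F - 1) :
    F = 1 ∨ F = 1 + r * p ∨ ∃ a b X, CaseB p (1 + r * p) a b X ∧ F = a * X := by
  obtain ⟨F', h⟩ := h
  rcases arith_pair hp hr h.symm h1 with h | h | ⟨a, b, X, h, h2, -⟩
  exacts [.inl h.1, .inr (.inl h.1), .inr (.inr ⟨a, b, X, h, h2⟩)]

theorem arith_neg {p r F : ℕ} (hp : 2 ≤ p) (hr : r < p) (h : F ∣ (p - 1) * (1 + r * p))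
    (h1 : (p : ℤ) ∣ F + 1) : F = (p - 1) * (1 + r * p) ∨ F = p - 1 ∨
      ∃ a b X, CaseB p (1 + r * p) a b X ∧ F = b * (p + a) := by
  obtain ⟨F', h⟩ := h
  have hz : (F : ℤ) * F' = (p - 1) * (1 + r * p) := by
    have := congrArg (Nat.cast : ℕ → ℤ) h
    push_cast [Nat.cast_sub (by omega : 1 ≤ p)] at this
    exact this.symm
  obtain ⟨m, hm⟩ := h1
  rcases arith_pair hp hr ((mul_comm _ _).trans h.symm)
    ⟨m * F' - (1 + r * p - r), by linear_combination (F' : ℤ) * hm - hz⟩ with h | h | ⟨a, b, X, h, -, h2⟩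
  exacts [.inl h.2, .inr (.inl h.2), .inr (.inr ⟨a, b, X, h, h2⟩)]

theorem CaseB.not_prime_pow {p n a b X : ℕ} (h : CaseB p n a b X) {q k : ℕ} (hq : q.Prime) :
    n ≠ q ^ k := by
  intro e
  obtain ⟨ha, hab, hp, hX, hn⟩ := h
  obtain ⟨i, -, hi⟩ := (Nat.dvd_prime_pow hq).1 (Dvd.intro _ (hn.symm.trans e))
  obtain ⟨j, -, hj⟩ := (Nat.dvd_prime_pow hq).1 (Dvd.intro_left _ (hn.symm.trans e))
  have hb : 2 * b ≤ a * b := Nat.mul_le_mul_right b ha
  have hij : i < j := (Nat.pow_lt_pow_iff_right hq.one_lt).1 (by omega)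
  obtain ⟨c, hc⟩ : X ∣ p + a := hi ▸ hj ▸ pow_dvd_pow q hij.le
  have hc2 : 2 ≤ c := by
    by_contra h
    have : X * c ≤ X * 1 := Nat.mul_le_mul_left X (by omega)
    omega
  have h1 : X * 2 ≤ X * c := Nat.mul_le_mul_left X hc2
  rcases eq_or_lt_of_le ha with rfl | ha3
  · have h2 : X ∣ 2 * X + 1 := ⟨c, by omega⟩
    have := Nat.le_of_dvd one_pos ((Nat.dvd_add_right (dvd_mul_left X 2)).1 h2)
    omega
  · nlinarith

theorem CaseB.bound {p n a b X : ℕ} (h : CaseB p n a b X) : p ^ 2 ≤ 2 * n := by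
  obtain ⟨ha, hab, hp, hX, hn⟩ := h
  have hb : 2 * b ≤ a * b := Nat.mul_le_mul_right b ha
  have : p ≤ 2 * X := by omega
  nlinarith

theorem CaseB.unique {p n a b X a' b' X' : ℕ} (h : CaseB p n a b X) (h' : CaseB p n a' b' X') :
    a = a' ∧ b = b' ∧ X = X' := by
  obtain ⟨ha, hab, hp, hX, hn⟩ := h
  obtain ⟨ha', hab', hp', hX', hn'⟩ := h'
  have e1 : (n : ℤ) = 1 + (p - 1 + a - b) * p := by
    have : (X : ℤ) = p - b := by omega
    have h2 : (p : ℤ) = a * b + 1 := by exact_mod_cast hp.symm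
    rw [hn]; push_cast; rw [this]; linear_combination h2
  have e2 : (n : ℤ) = 1 + (p - 1 + a' - b') * p := by
    have : (X' : ℤ) = p - b' := by omega
    have h2 : (p : ℤ) = a' * b' + 1 := by exact_mod_cast hp'.symm
    rw [hn']; push_cast; rw [this]; linear_combination h2
  have e3 : (a : ℤ) - b = a' - b' := by
    apply mul_right_cancel₀ (by omega : (p : ℤ) ≠ 0)
    linear_combination e2 - e1
  have e4 : a * b = a' * b' := by omega
  have e5 : a = a' := by
    rcases lt_trichotomy a a' with h | h | h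
    · have : a * b < a' * b' := Nat.mul_lt_mul'' h (by omega)
      omega
    · exact h
    · have : a' * b' < a * b := Nat.mul_lt_mul'' h (by omega)
      omega
  omega

end Cfsg.Agent.BR
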