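import Cfsg.Agent.Lib.BR.Struct
import Cfsg.Agent.Lib.BR.Arith
import Cfsg.Agent.Lib.OO.CF8

/-!
# Degrees and values of the characters of the principal block
-/

set_option autoImplicit false

namespace Cfsg.Agent.BR

open Subgroup Cfsg.Agent.OO
open scoped ComplexConjugate

universe u

variable {G : Type u} [Group G] [Finite G] {p : ℕ} [hp : Fact p.Prime] {x y : G} {K H : Subgroup G}

omit hp in
theorem le_cfker_of_dot {χ : G → ℂ} (h : IsChar ⊤ χ) {a : ℕ} (ha : ⟪χ, cf1 K⟫[K] = a) {f : ℕ}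
    (hf : χ 1 = f) (hfa : f ≤ a) : K ≤ cfker ⊤ χ := by
  have h1 := (h.cfRes (le_top (a := K))).sub_constt (isIrr_cf1 K)
  obtain ⟨b, hb⟩ := Cnat_char1 h1
  rw [cfdot_cfRes_left, ha] at h1 hb
  have h2 : (f : ℂ) = a + b := by
    rw [← hb, Pi.sub_apply, cfRes1, hf]; simp [cf1_one]
  have h3 : f = a + b := by exact_mod_cast h2
  have h4 : b = 0 := by omega
  rw [h4, Nat.cast_zero, char1_eq0 h1, sub_eq_zero] at hb
  intro k hk
  refine (cfkerEchar h).2 ⟨mem_top _, ?_⟩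
  have := congrFun hb k
  rw [cfResE _ hk, Pi.smul_apply, cf1E hk] at this
  rw [this, hf, h2, h4]; simp

omit hp in
theorem dvd_of_TI {A : Set G} {N : Subgroup G} (h : NormedTI A ⊤ N) {θ : G → ℂ} (hθ : IsIrr ⊤ θ)
    {f : ℕ} (hf : θ 1 = f) {m : ℤ} (hm : ∑ a ∈ elts A, θ a = m) : (f : ℤ) ∣ N.index * m := by
  have h1 := indicator_mem_CF (H := ⊤) (A := classSupp A ⊤) (fun _ _ => mem_top _)
    (fun g hg a ha => classSupp_conj_mem ha hg) (cf1_mem_CF ⊤)
  have h2 := Aint_central hθ h1.1 (fun g => by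
    by_cases hg : g ∈ classSupp A ⊤
    · rw [Set.indicator_of_mem hg, cf1E (mem_top _)]; exact isIntegral_one
    · rw [Set.indicator_of_notMem hg]; exact isIntegral_zero)
  rw [← sum_elts_subset (A := classSupp A ⊤) (fun _ _ => mem_top _) (fun g _ hg => by
    rw [Set.indicator_of_notMem hg, zero_mul]), Finset.sum_congr rfl fun g hg => by
      rw [Set.indicator_of_mem (mem_elts.1 hg), cf1E (mem_top _), one_mul], sum_TI h hθ.mem_CF,
    hm, hf] at h2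
  refine int_dvd_of_Aint_div (fun h0 => irr1_neq0 hθ ?_) (by push_cast; exact h2)
  rw [hf]; exact_mod_cast h0

omit hp in
theorem odd_of_reg {χ : G → ℂ} (h : IsChar ⊤ χ) (hG : ∀ l, IsLinChar (⊤ : Subgroup G) l → l = cf1 ⊤)
    {e t : ℕ} (he : orderOf y = e) (h1 : χ 1 = t * e) (h2 : ∀ j, ¬ e ∣ j → χ (y ^ j) = 0) :
    Odd e ∨ Even t := by
  have he0 : e ≠ 0 := he ▸ (orderOf_pos y).ne'
  obtain ⟨ζ, hζ⟩ := exists_prim_root he0
  have hE : IsEig χ y (t • (Finset.range e).val.map (ζ ^ ·)) := fun k => by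
    rw [Multiset.map_nsmul, Multiset.sum_nsmul, Multiset.map_map]
    change _ = t • ∑ i ∈ Finset.range e, (ζ ^ i) ^ k
    rw [Finset.sum_congr rfl fun i _ => pow_right_comm ζ i k]
    by_cases hk : e ∣ k
    · rw [(hζ.pow_eq_one_iff_dvd k).2 hk, orderOf_dvd_iff_pow_eq_one.1 (he ▸ hk), h1]; simp
    · rw [h2 k hk]
      have := mul_geom_sum (ζ ^ k) e
      rw [← pow_mul, mul_comm k, pow_mul, hζ.pow_eq_one, one_pow, sub_self, mul_eq_zero,
        sub_eq_zero] at this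
      rw [this.resolve_left fun h => hk ((hζ.pow_eq_one_iff_dvd k).1 h), smul_zero]
  have h3 := cfDetE (mem_top y) hE
  rw [hG _ (cfDet_lin_char h), cf1E (mem_top _), Multiset.prod_nsmul] at h3
  change _ = (∏ i ∈ Finset.range e, ζ ^ i) ^ t at h3
  rw [Finset.prod_pow_eq_pow_sum, eq_comm, ← pow_mul, hζ.pow_eq_one_iff_dvd] at h3
  obtain ⟨c, hc⟩ := h3
  have h4 := congrArg (· * t) (Finset.sum_range_id_mul_two e)
  rw [mul_right_comm, hc, mul_assoc, mul_assoc] at h4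
  have h5 := Nat.eq_of_mul_eq_mul_left (Nat.pos_of_ne_zero he0) h4
  have h6 : Even ((e - 1) * t) := ⟨c, by omega⟩
  rcases Nat.even_mul.1 h6 with ⟨a, h⟩ | h
  · exact .inl ⟨a, by omega⟩
  · exact .inr h

omit hp in
theorem sum_mul_eq_zero {χ : G → ℂ} (h : IsChar ⊤ χ) {P : Subgroup G}
    (h0 : ∑ u ∈ elts (P : Set G), χ u = 0) (g : G) : ∑ u ∈ elts (P : Set G), χ (g * u) = 0 := by
  classical
  obtain ⟨n, ρ, hρ⟩ := h.exists_rep
  let σ : G →* Module.End ℂ (Fin n → ℂ) := ρ.comp (Subgroup.topEquiv.symm : G ≃* _).toMonoidHom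
  have hσ : ∀ g, χ g = LinearMap.trace ℂ _ (σ g) := fun g => hρ ⟨g, mem_top g⟩
  let E : Module.End ℂ (Fin n → ℂ) := (♯P : ℂ)⁻¹ • ∑ u ∈ elts (P : Set G), σ u
  have hE : IsIdempotentElem E := by
    change E * E = E
    simp only [E, smul_mul_smul_comm, Finset.sum_mul, Finset.mul_sum, ← map_mul]
    rw [Finset.sum_congr rfl fun u hu => sum_elts_mul_right (mem_elts.1 hu) (fun g => σ g),
      sum_elts_const, ← Nat.cast_smul_eq_nsmul ℂ, smul_smul, mul_assoc,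
      inv_mul_cancel₀ (cardC_ne_zero P), mul_one]
  have h1 : E = 0 := by
    rw [← LinearMap.IsIdempotentElem.trace_eq_zero_iff hE]
    simp only [E, map_smul, map_sum, ← hσ, h0, smul_zero]
  have h2 := (smul_eq_zero.1 h1).resolve_left (inv_ne_zero (cardC_ne_zero P))
  simp only [hσ, map_mul, ← map_sum, ← Finset.mul_sum, h2, mul_zero, map_zero]

namespace Dat
variable (d : Dat p x y K H)

include d in
theorem sumP' {V : Type*} [AddCommMonoid V] (F : G → V) :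
    ∑ u ∈ elts (zpowers x : Set G), F u = ∑ i : ZMod p, F (xp x i) := by
  symm
  refine Finset.sum_bij (fun i _ => xp x i) (fun i _ => mem_elts.2 (xp_mem i))
    (fun a _ b _ h => xp_inj d.ord h) (fun u hu => ?_) (fun _ _ => rfl)
  obtain ⟨i, rfl⟩ := exists_xp d.ord (mem_elts.1 hu)
  exact ⟨i, Finset.mem_univ _, rfl⟩

include d in
theorem sum_sharpP (F : G → ℂ) :
    ∑ u ∈ elts (sharp (zpowers x)), F u = ∑ a : (ZMod p)ˣ, F (xp x (a : ZMod p)) := by
  classical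
  have h1 := d.sumP' F
  have h2 : elts (sharp (zpowers x)) = (elts (zpowers x : Set G)).erase 1 := by
    ext; simp [mem_sharp, and_comm]
  rw [sum_units, xp_zero, ← Finset.add_sum_erase _ _ (mem_elts.2 (one_mem _))] at h1
  rw [h2]; exact add_left_cancel h1

include d in
theorem exists_r : ∃ r, (𝐍(zpowers x)).index = 1 + r * p := by
  have hP : IsPGroup p (zpowers x) := IsPGroup.of_card (n := 1) (by rw [d.cardP, pow_one])
  have h1 := (hP.toSylow d.not_dvd_index).card_eq_index_normalizer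
  have h2 := card_sylow_modEq_one p G
  rw [h1] at h2
  obtain ⟨r, hr⟩ := (Nat.modEq_iff_dvd' (Nat.pos_of_ne_zero index_ne_zero_of_finite)).1 h2.symm
  refine ⟨r, ?_⟩
  have : 0 < (𝐍(zpowers x)).index := Nat.pos_of_ne_zero index_ne_zero_of_finite
  change (𝐍(zpowers x)).index - 1 = _ at hr
  rw [mul_comm]; omega

include d in
theorem card_sylow : Nat.card (Sylow p G) = (𝐍(zpowers x)).index :=
  ((IsPGroup.of_card (n := 1) (by rw [d.cardP, pow_one])).toSylow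
    d.not_dvd_index).card_eq_index_normalizer

include d in
theorem index_C : (𝐂[x]).index = Nat.card d.E * (𝐍(zpowers x)).index := by
  apply Nat.eq_of_mul_eq_mul_left (Nat.card_pos (α := 𝐂[x]))
  rw [← mul_assoc, ← d.cardN', card_mul_index, card_mul_index]

include d in
theorem cardG : Nat.card G = p * ♯K * (Nat.card d.E * (𝐍(zpowers x)).index) := by
  rw [← d.index_C, ← d.cardC, card_mul_index]

include d in
theorem cardH : ♯H = ♯K * Nat.card d.E := by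
  have h := d.cardN
  rw [d.cardN', d.cardC, mul_assoc, mul_comm] at h
  exact (Nat.eq_of_mul_eq_mul_right hp.out.pos h).symm

include d in
theorem deg_facts {θ : G → ℂ} (hθ : IsIrr ⊤ θ) {m : ℤ} (hm : DD p x K θ = ♯K * m) (h0 : m ≠ 0)
    {f : ℕ} (hf : θ 1 = f) : ∑ a : (ZMod p)ˣ, θ (xp x (a : ZMod p)) = m ∧
      (f : ℤ) ∣ (𝐍(zpowers x)).index * m ∧ (p : ℤ) ∣ f + m ∧
      (m < 0 → f ≤ -m → K ≤ cfker ⊤ θ) := by
  have hK := cardC_ne_zero K
  have hB := d.mem_B0 hθ (by rw [hm]; exact mul_ne_zero hK (by exact_mod_cast h0))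
  have h1 : ∑ a : (ZMod p)ˣ, θ (xp x (a : ZMod p)) = m := by
    apply mul_left_cancel₀ hK
    rw [← hm, DD_eq, Finset.mul_sum]
    refine Finset.sum_congr rfl fun a _ => ?_
    rw [TT, Finset.sum_congr rfl fun k hk => d.val_B0 hB a.ne_zero (mem_elts.1 hk), sum_elts_const,
      nsmul_eq_mul]
  have hp0 : (p : ℂ) ≠ 0 := by exact_mod_cast hp.out.ne_zero
  refine ⟨h1, dvd_of_TI d.tiP hθ hf (by rw [d.sum_sharpP, h1]), ?_, fun h2 h3 => ?_⟩
  · obtain ⟨a, ha⟩ := Cnat_cfdot_char (hθ.isChar.cfRes (le_top (a := zpowers x))) (isChar_cf1 _)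
    rw [cfdot_cfRes_left, cfdot_cf1r, d.sumP', sum_units, h1, xp_zero, hf, d.cardP] at ha
    field_simp at ha
    exact ⟨a, by exact_mod_cast ha⟩
  · obtain ⟨a, ha⟩ := Cnat_cfdot_char (hθ.isChar.cfRes (le_top (a := K))) (isChar_cf1 _)
    obtain ⟨b, hb⟩ := Cnat_cfdot_char (hθ.isChar.cfRes (le_top (a := 𝐂[x]))) (isChar_cf1 _)
    rw [cfdot_cfRes_left] at ha hb
    refine le_cfker_of_dot hθ.isChar ha hf ?_
    rw [cfdot_cf1r] at ha hb
    rw [d.sumC, sum_units, d.cardC] at hb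
    change _ * (_ + ∑ a : (ZMod p)ˣ, TT x K θ (a : ZMod p)) = _ at hb
    rw [← DD_eq, hm] at hb
    simp only [xp_zero, one_mul] at hb
    push_cast at hb
    field_simp at ha hb
    have h4 : (a : ℂ) + m = p * b := by
      apply mul_left_cancel₀ hK
      linear_combination hb - ha
    have h5 : (a : ℤ) + m = p * b := by exact_mod_cast h4
    have : (0 : ℤ) ≤ p * b := by positivity
    omega

variable {d} {I : Finset (G → ℂ)} {δ : (G → ℂ) → ℤ} {ξ : d.J → G → ℂ} {δ0 : ℤ}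

namespace Brauer
variable (b : d.Brauer I δ ξ δ0)
include b

theorem dotI {θ : G → ℂ} (h : θ ∈ I) (j : d.J) : ⟪θ, d.aJ j⟫[⊤] = δ θ := by
  rw [cfdot_vchar_comm (irr_vchar (b.irrI θ h)) (d.aJ_vchar j), b.eq, cfdotDl,
    cfdot_sum_smul_irr b.irrI _ h, cfdotZl, cfdot_irr_ne (b.irrξ j) (b.irrI θ h)
      fun e => b.notI j (e ▸ h), mul_zero, add_zero]

open Classical in
theorem dotξ (k j : d.J) : ⟪ξ k, d.aJ j⟫[⊤] = if j = k then (δ0 : ℂ) else 0 := by
  rw [cfdot_vchar_comm (irr_vchar (b.irrξ k)) (d.aJ_vchar j), b.eq, cfdotDl,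
    cfdot_sum_smul_irr_of_not_mem b.irrI _ (b.irrξ k) (b.notI k), cfdotZl,
    cfdot_irr (b.irrξ j) (b.irrξ k)]
  simp [b.inj.eq_iff]

theorem dot0 {θ : G → ℂ} (hθ : IsIrr ⊤ θ) (h : θ ∉ I) (h' : θ ∉ Set.range ξ) (j : d.J) :
    ⟪θ, d.aJ j⟫[⊤] = 0 := by
  rw [cfdot_vchar_comm (irr_vchar hθ) (d.aJ_vchar j), b.eq, cfdotDl,
    cfdot_sum_smul_irr_of_not_mem b.irrI _ hθ h, cfdotZl,
    cfdot_irr_ne (b.irrξ j) hθ fun e => h' ⟨j, e⟩, mul_zero, add_zero]

theorem δ_one : δ (cf1 ⊤) = 1 := by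
  have := b.dotI b.one 1
  rw [d.dot_one] at this
  exact_mod_cast this.symm

theorem DDI {θ : G → ℂ} (h : θ ∈ I) : DD p x K θ = ♯K * (((p - 1 : ℕ) * δ θ : ℤ) : ℂ) := by
  rw [d.DD_J (b.irrI θ h).mem_CF, ← d.e_mul_t]
  simp [b.dotI h, mul_assoc]

theorem DDξ (k : d.J) : DD p x K (ξ k) = ♯K * ((Nat.card d.E * δ0 : ℤ) : ℂ) := by
  classical
  rw [d.DD_J (b.irrξ k).mem_CF]
  simp [b.dotξ]

theorem DD0 {θ : G → ℂ} (hθ : IsIrr ⊤ θ) (h : θ ∉ I) (h' : θ ∉ Set.range ξ) : DD p x K θ = 0 := by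
  rw [d.DD_J hθ.mem_CF]
  simp [b.dot0 hθ h h']

theorem neI {θ : G → ℂ} (h : θ ∈ I) : ((p - 1 : ℕ) * δ θ : ℤ) ≠ 0 := by
  have := hp.out.two_le
  refine mul_ne_zero (by omega) ?_
  rcases b.sign θ h with e | e <;> simp [e]

theorem neξ : (Nat.card d.E * δ0 : ℤ) ≠ 0 := by
  refine mul_ne_zero (by exact_mod_cast Nat.card_pos.ne') ?_
  rcases b.sign0 with e | e <;> simp [e]

theorem valI {θ : G → ℂ} (h : θ ∈ I) {i : ZMod p} (hi : i ≠ 0) {k : G} (hk : k ∈ K) :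
    θ (xp x i * k) = δ θ := by
  rw [d.val_eq (b.irrI θ h) (by
    rw [b.DDI h]; exact mul_ne_zero (cardC_ne_zero K) (by exact_mod_cast b.neI h)) hi hk]
  simp only [d.al_eq, b.dotI h, ← Finset.mul_sum, mul_comm _ i]
  have := sum_units_ψ (Units.mk0 i hi)
  rw [Units.val_mk0] at this
  rw [this]; ring

open Classical in
theorem valξ (j : d.J) {i : ZMod p} (hi : i ≠ 0) {k : G} (hk : k ∈ K) :
    ξ j (xp x i * k) = -δ0 * ∑ a ∈ Finset.univ.filter (fun a : (ZMod p)ˣ => (a : d.J) = j),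
      ψ (Units.val a * i) := by
  rw [d.val_eq (b.irrξ j) (by
    rw [b.DDξ]; exact mul_ne_zero (cardC_ne_zero K) (by exact_mod_cast b.neξ)) hi hk]
  simp only [d.al_eq, b.dotξ, Finset.sum_filter, Finset.mul_sum, ← Finset.sum_neg_distrib]
  refine Finset.sum_congr rfl fun a _ => ?_
  split_ifs <;> ring

theorem reg_eq (j : d.J) {g : G} (hg : ¬ p ∣ orderOf g) :
    ∑ θ ∈ I, δ θ * θ g + δ0 * ξ j g = 0 := by
  have := congrFun (b.eq j) g
  rw [aJ, d.al_reg _ hg] at this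
  simpa using this.symm

theorem deg_eq (j : d.J) : ∑ θ ∈ I, δ θ * θ 1 + δ0 * ξ j 1 = 0 :=
  b.reg_eq j (by rw [orderOf_one]; exact hp.out.not_dvd_one)

theorem degI {θ : G → ℂ} (h : θ ∈ I) {f : ℕ} (hf : θ 1 = f) :
    f ∣ Nat.card d.E * (𝐍(zpowers x)).index ∧ (p : ℤ) ∣ f - δ θ ∧
      (δ θ = -1 → f = p - 1 → K ≤ cfker ⊤ θ) := by
  obtain ⟨-, -, h2, h3⟩ := d.deg_facts (b.irrI θ h) (b.DDI h) (b.neI h) hf
  have hp1 := hp.out.two_le
  refine ⟨?_, ?_, fun e e' => h3 (by rw [e]; omega) (by rw [e, e']; omega)⟩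
  · have hTI : NormedTI {x} ⊤ 𝐂[x] := ⟨⟨x, rfl⟩, le_top, fun g hg a ha => by
      rw [ha, mem_centralizer_singleton_iff.1 hg]; simp, fun g _ a ha h => by
        rw [ha] at h; exact mem_centralizer_singleton_iff.2 (mul_inv_eq_iff_eq_mul.1 h)⟩
    have h4 := dvd_of_TI hTI (b.irrI θ h) hf (m := δ θ) (by
      have : elts ({x} : Set G) = {x} := by ext; simp
      rw [this, Finset.sum_singleton, ← b.valI h one_ne_zero (one_mem K), xp_one, mul_one])
    rw [d.index_C] at h4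
    rcases b.sign θ h with e | e <;> rw [e] at h4
    · exact_mod_cast (mul_one (_ : ℤ)) ▸ h4
    · rw [mul_neg_one, dvd_neg] at h4; exact_mod_cast h4
  · rw [Nat.cast_sub hp.out.one_le] at h2
    have := dvd_sub h2 (dvd_mul_right (p : ℤ) (δ θ))
    rwa [show (f : ℤ) + (p - ((1 : ℕ) : ℤ)) * δ θ - p * δ θ = f - δ θ by push_cast; ring] at this

theorem degξ (j : d.J) {f : ℕ} (hf : ξ j 1 = f) :
    f ∣ Nat.card d.E * (𝐍(zpowers x)).index ∧ (p : ℤ) ∣ f + Nat.card d.E * δ0 ∧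
      (δ0 = -1 → f = Nat.card d.E → K ≤ cfker ⊤ (ξ j)) := by
  obtain ⟨-, h1, h2, h3⟩ := d.deg_facts (b.irrξ j) (b.DDξ j) b.neξ hf
  have : 0 < Nat.card d.E := Nat.card_pos
  refine ⟨?_, h2, fun e e' => h3 (by rw [e]; omega) (by rw [e, e']; omega)⟩
  rw [mul_left_comm, ← mul_assoc] at h1
  rcases b.sign0 with e | e <;> rw [e] at h1
  · exact_mod_cast (mul_one (_ : ℤ)) ▸ h1
  · rw [mul_neg_one, dvd_neg] at h1; exact_mod_cast h1

end Brauer
end Dat
end Cfsg.Agent.BR
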