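import Cfsg.Agent.Lib.BR.Red

/-!
# Fewer than `p ^ 2` Sylow subgroups of order `p`: the centralizers are TI
-/

set_option autoImplicit false

namespace Cfsg.Agent.BR

open Subgroup Cfsg.Agent.OO Finset
open scoped Pointwise

universe u

variable {G : Type u} [Group G] [Finite G] {p : ℕ} [hp : Fact p.Prime]

open Classical in
theorem card_modEq_fix {A X : Type*} [Group A] [MulAction A X] {a : A} (ha : a ^ p = 1)
    (S : Finset X) (hS : ∀ b ∈ S, a • b ∈ S) : #S ≡ #{b ∈ S | a • b = b} [MOD p] := by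
  let f : Function.End S := fun b => ⟨a • b, hS _ b.2⟩
  have h1 : ∀ n (b : S), ((f ^ n) b : X) = a ^ n • (b : X) := fun n => by
    induction n with
    | zero => intro b; rw [pow_zero, pow_zero, one_smul]; rfl
    | succ n ih => intro b; rw [pow_succ', pow_succ', mul_smul, ← ih]; rfl
  have h2 := Equiv.Perm.card_fixedPoints_modEq (f := f) (p := p) (n := 1) (by
    funext b; ext; rw [pow_one, h1, ha, one_smul]; rfl)
  rw [Fintype.card_coe] at h2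
  convert h2 using 1
  rw [Fintype.card_subtype]
  symm
  refine card_bij (fun b _ => b.1) (fun b hb => ?_) (fun _ _ _ _ h => Subtype.ext h) fun b hb => ?_
  · exact mem_filter.2 ⟨b.2, congrArg Subtype.val (mem_filter.1 hb).2⟩
  · exact ⟨⟨b, (mem_filter.1 hb).1⟩, mem_filter.2 ⟨mem_univ _, Subtype.ext (mem_filter.1 hb).2⟩, rfl⟩

/-- the centralizer of a Sylow subgroup -/
abbrev Cs (Q : Sylow p G) : Subgroup G := 𝐂((Q : Subgroup G))

omit [Finite G] hp in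
theorem mem_smul_syl {g c : G} {Q : Sylow p G} :
    c ∈ ((g • Q : Sylow p G) : Subgroup G) ↔ g⁻¹ * c * g ∈ (Q : Subgroup G) := by
  rw [Sylow.coe_subgroup_smul, mem_pointwise_smul_iff_inv_smul_mem]; simp

omit [Finite G] hp in
theorem mem_Cs_smul {g c : G} {Q : Sylow p G} : c ∈ Cs (g • Q) ↔ g⁻¹ * c * g ∈ Cs Q := by
  simp only [mem_centralizer_iff, SetLike.mem_coe, mem_smul_syl]
  constructor
  · intro h u hu
    have := h (g * u * g⁻¹) (by simpa [mul_assoc] using hu)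
    apply mul_left_cancel (a := g); apply mul_right_cancel (b := g⁻¹)
    simpa [mul_assoc] using this
  · intro h u hu
    have := h _ hu
    apply mul_left_cancel (a := g⁻¹); apply mul_right_cancel (b := g)
    simpa [mul_assoc] using this

omit [Finite G] hp in
theorem Cs_smul (g : G) (Q : Sylow p G) : Cs (g • Q) = g •ᶜ Cs Q := by
  ext c; rw [mem_Cs_smul, mem_pointwise_smul_iff_inv_smul_mem]; simp

omit [Finite G] hp in
theorem smul_of_Cs {c : G} {Q : Sylow p G} (h : c ∈ Cs Q) : c • Q = Q :=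
  Sylow.smul_eq_iff_mem_normalizer.2 (centralizer_le_normalizer _ h)

/-- the standing hypotheses -/
structure Sm (p : ℕ) (G : Type u) [Group G] (r : ℕ) : Prop where
  card : ∀ Q : Sylow p G, Nat.card Q = p
  hn : Nat.card (Sylow p G) = 1 + r * p
  hr : r < p

namespace Sm
variable {r : ℕ} (s : Sm p G r)
include s

theorem zp {Q : Sylow p G} {u : G} (hu : u ∈ (Q : Subgroup G)) (h1 : u ≠ 1) :
    zpowers u = Q := by
  refine eq_of_le_of_card_ge (zpowers_le.2 hu) ?_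
  have h := card_dvd_of_le (zpowers_le.2 hu)
  rw [show ♯(Q : Subgroup G) = p from s.card Q] at h ⊢
  refine ((Nat.dvd_prime hp.out).1 h).elim (fun e => absurd ?_ h1) fun e => e.ge
  rwa [Nat.card_zpowers, orderOf_eq_one_iff] at e

omit hp [Finite G] in
theorem pow_p {Q : Sylow p G} {u : G} (hu : u ∈ (Q : Subgroup G)) : u ^ p = 1 :=
  orderOf_dvd_iff_pow_eq_one.1 (s.card Q ▸ orderOf_dvd_natCard _ hu)

omit [Finite G] in
theorem exists_ne (Q : Sylow p G) : ∃ u ∈ (Q : Subgroup G), u ≠ 1 := by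
  have : (Q : Subgroup G) ≠ ⊥ := fun h => hp.out.ne_one (by
    rw [← s.card Q]; exact card_eq_one.2 h)
  exact (bot_or_exists_ne_one _).resolve_left this

theorem mem_Cs {Q : Sylow p G} {u c : G} (hu : u ∈ (Q : Subgroup G)) (h1 : u ≠ 1)
    (h : Commute u c) : c ∈ Cs Q := by
  rw [Cs, ← s.zp hu h1]
  rintro _ ⟨i, rfl⟩
  exact (h.zpow_left i).eq

theorem le_Cs (Q : Sylow p G) : (Q : Subgroup G) ≤ Cs Q := fun u hu => by
  by_cases h : u = 1
  · exact h ▸ one_mem _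
  · exact s.mem_Cs hu h (Commute.refl u)

theorem eq_of_smul {Q R : Sylow p G} {u : G} (hu : u ∈ (Q : Subgroup G)) (h1 : u ≠ 1)
    (h : u • R = R) : R = Q := by
  have h2 := Q.isPGroup'.inf_normalizer_sylow R
  have h3 : u ∈ (Q : Subgroup G) ⊓ R := h2 ▸ ⟨hu, Sylow.smul_eq_iff_mem_normalizer.1 h⟩
  exact Sylow.ext ((s.zp h3.2 h1).symm.trans (s.zp hu h1))

theorem smul_inj {Q R : Sylow p G} (h : R ≠ Q) {u v : G} (hu : u ∈ (Q : Subgroup G))
    (hv : v ∈ (Q : Subgroup G)) (e : u • R = v • R) : u = v := by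
  by_contra h1
  exact h (s.eq_of_smul (mul_mem (inv_mem hv) hu) (fun e => h1 (inv_mul_eq_one.1 e).symm)
    (by rw [mul_smul, e, inv_smul_smul]))

open Classical in
theorem fix_le [Fintype (Sylow p G)] {Q : Sylow p G} {h : G} (h1 : h • Q = Q) (h2 : h ∉ Cs Q) :
    #{R : Sylow p G | h • R = R} ≤ p := by
  have hN := Sylow.smul_eq_iff_mem_normalizer.1 h1
  have h3 : #((({R : Sylow p G | h • R = R} : Finset _).erase Q) ×ˢ elts ((Q : Subgroup G) : Set G)) ≤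
      #((univ : Finset (Sylow p G)).erase Q) := by
    refine card_le_card_of_injOn (fun a => a.2 • a.1) (fun a ha => ?_) fun a ha b hb e => ?_
    · obtain ⟨i1, i2⟩ := mem_product.1 ha
      refine mem_erase.2 ⟨fun e => (mem_erase.1 i1).1 ?_, mem_univ _⟩
      rw [← smul_of_Cs (s.le_Cs Q (mem_elts.1 i2))] at e
      exact smul_left_cancel _ e
    · obtain ⟨R, u⟩ := a
      obtain ⟨R', v⟩ := b
      simp only [coe_product, Set.mem_prod, mem_coe, mem_erase, mem_filter, mem_univ, true_and,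
        mem_elts] at ha hb e
      have hw := mul_mem (inv_mem hb.2) ha.2
      have e' : (v⁻¹ * u) • R = R' := by rw [mul_smul, e, inv_smul_smul]
      have h4 : (h * (v⁻¹ * u) * h⁻¹) = v⁻¹ * u := s.smul_inj ha.1.1
        ((mem_normalizer_iff.1 hN _).1 hw) hw (by
          rw [mul_smul, mul_smul h, inv_smul_eq_iff.2 ha.1.2.symm, e', hb.1.2])
      have h5 : v⁻¹ * u = 1 := by_contra fun h5 =>
        h2 (s.mem_Cs hw h5 (mul_inv_eq_iff_eq_mul.1 h4).symm)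
      rw [h5, one_smul] at e'
      rw [e', inv_mul_eq_one.1 h5]
  rw [card_product, card_elts, show ♯(Q : Subgroup G) = p from s.card Q, card_erase_of_mem
    (mem_univ _), card_univ, ← Nat.card_eq_fintype_card, s.hn, Nat.add_sub_cancel_left,
    card_erase_of_mem (by simpa using h1)] at h3
  have := Nat.le_of_mul_le_mul_right h3 hp.out.pos
  have := s.hr
  omega

theorem Cs_of_smul {Q R : Sylow p G} {k : G} (hk : k ∈ Cs Q) (h : k • R = R) : k ∈ Cs R := by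
  classical
  have := Fintype.ofFinite (Sylow p G)
  by_cases e : R = Q
  · exact e ▸ hk
  by_contra h2
  have h3 := s.fix_le h h2
  have h4 : #((elts ((Q : Subgroup G) : Set G)).image (· • R)) ≤
      #(({R : Sylow p G | k • R = R} : Finset _).erase Q) := by
    refine card_le_card fun _ hS => ?_
    obtain ⟨u, hu, rfl⟩ := mem_image.1 hS
    have hu := mem_elts.1 hu
    refine mem_erase.2 ⟨fun e' => e ?_, mem_filter.2 ⟨mem_univ _, ?_⟩⟩
    · rw [← smul_of_Cs (s.le_Cs Q hu)] at e'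
      exact smul_left_cancel _ e'
    · rw [← mul_smul, ← hk u hu, mul_smul, h]
  rw [card_image_of_injOn fun u hu v hv e' => s.smul_inj e (mem_elts.1 hu) (mem_elts.1 hv) e',
    card_elts, show ♯(Q : Subgroup G) = p from s.card Q,
    card_erase_of_mem (by simpa using smul_of_Cs hk)] at h4
  have := hp.out.pos
  omega

theorem not_dvd {Q R : Sylow p G} (h : Q ≠ R) : ¬ p ∣ ♯(Cs Q ⊓ Cs R) := fun hd => by
  obtain ⟨⟨w, hw⟩, ho⟩ := exists_prime_orderOf_dvd_card' p hd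
  rw [orderOf_mk] at ho
  obtain ⟨S, hS⟩ := (IsPGroup.of_card (G := zpowers w) (n := 1)
    (by rw [Nat.card_zpowers, ho, pow_one])).exists_le_sylow
  have h1 : w ≠ 1 := fun e => hp.out.ne_one (by rw [← ho, e, orderOf_one])
  exact h ((s.eq_of_smul (hS (mem_zpowers w)) h1 (smul_of_Cs hw.1)).trans
    (s.eq_of_smul (hS (mem_zpowers w)) h1 (smul_of_Cs hw.2)).symm)

end Sm

open Classical in
/-- the intersections of maximal order -/
noncomputable def Bl (p : ℕ) (G : Type u) [Group G] [Finite G] (M : ℕ) : Finset (Subgroup G) :=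
  (Set.toFinite {D | (∃ Q R : Sylow p G, Q ≠ R ∧ D = Cs Q ⊓ Cs R) ∧ ♯D = M}).toFinset

open Classical in
/-- the Sylow subgroups centralized by `D` -/
noncomputable def Pt (p : ℕ) [Fact p.Prime] (D : Subgroup G) : Finset (Sylow p G) :=
  (Set.toFinite {Q | D ≤ Cs Q}).toFinset

theorem mem_Pt {D : Subgroup G} {Q : Sylow p G} : Q ∈ Pt p D ↔ D ≤ Cs Q := by simp [Pt]

omit hp in
theorem mem_Bl {D : Subgroup G} {M : ℕ} :
    D ∈ Bl p G M ↔ (∃ Q R : Sylow p G, Q ≠ R ∧ D = Cs Q ⊓ Cs R) ∧ ♯D = M := by simp [Bl]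

theorem smul_mem_Pt {D : Subgroup G} {Q : Sylow p G} (g : G) :
    g • Q ∈ Pt p (g •ᶜ D) ↔ Q ∈ Pt p D := by
  rw [mem_Pt, mem_Pt, Cs_smul, pointwise_smul_le_pointwise_smul_iff]

omit hp in
theorem smul_mem_Bl {D : Subgroup G} {M : ℕ} (g : G) (h : D ∈ Bl p G M) : g •ᶜ D ∈ Bl p G M := by
  obtain ⟨⟨Q, R, h1, h2⟩, h3⟩ := mem_Bl.1 h
  refine mem_Bl.2 ⟨⟨g • Q, g • R, fun e => h1 (smul_left_cancel _ e), ?_⟩, ?_⟩
  · rw [Cs_smul, Cs_smul, h2, smul_inf]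
  · rw [← h3]; exact Nat.card_congr (equivSMul _ D).toEquiv.symm

omit [Finite G] in
theorem smul_of_comm {D : Subgroup G} {u : G} (h : ∀ k ∈ D, Commute u k) : u •ᶜ D = D := by
  refine conj_smul_eq_of_mem_normalizer (centralizer_le_normalizer _ fun k hk => (h k hk).eq.symm)

open Classical in
/-- the blocks through `Q` -/
noncomputable def Th (M : ℕ) (Q : Sylow p G) : Finset (Subgroup G) :=
  {D ∈ Bl p G M | Q ∈ Pt p D}

theorem mem_Th {M : ℕ} {Q : Sylow p G} {D : Subgroup G} :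
    D ∈ Th M Q ↔ D ∈ Bl p G M ∧ Q ∈ Pt p D := by simp [Th]

theorem card_Th (M : ℕ) (Q R : Sylow p G) : #(Th M Q) = #(Th M R) := by
  have key : ∀ Q R : Sylow p G, #(Th M Q) ≤ #(Th M R) := fun Q R => by
    obtain ⟨g, rfl⟩ := MulAction.exists_smul_eq G Q R
    exact card_le_card_of_injOn (fun D => g •ᶜ D) (fun D hD => mem_Th.2
      ⟨smul_mem_Bl g (mem_Th.1 hD).1, (smul_mem_Pt g).2 (mem_Th.1 hD).2⟩)
      fun _ _ _ _ e => smul_left_cancel _ e
  exact (key Q R).antisymm (key R Q)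

namespace Sm
variable {r M : ℕ} (s : Sm p G r) (hM : ∀ Q R : Sylow p G, Q ≠ R → ♯(Cs Q ⊓ Cs R) ≤ M)
  {D D' : Subgroup G} {Q R : Sylow p G}

include hM in
theorem Bl_eq (h : D ∈ Bl p G M) (hQ : Q ∈ Pt p D) (hR : R ∈ Pt p D) (e : Q ≠ R) :
    D = Cs Q ⊓ Cs R :=
  eq_of_le_of_card_ge (le_inf (mem_Pt.1 hQ) (mem_Pt.1 hR)) ((mem_Bl.1 h).2 ▸ hM Q R e)

include hM in
theorem Bl_uniq (h : D ∈ Bl p G M) (h' : D' ∈ Bl p G M) (e : D ≠ D') (hQ : Q ∈ Pt p D)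
    (hQ' : Q ∈ Pt p D') (hR : R ∈ Pt p D) (hR' : R ∈ Pt p D') : Q = R :=
  by_contra fun e' => e ((Bl_eq hM h hQ hR e').trans (Bl_eq hM h' hQ' hR' e').symm)

include s

open Classical in
theorem Pt_mod {u : G} (hu : u ∈ (Q : Subgroup G)) (h1 : u ≠ 1) (h : u •ᶜ D = D) :
    #(Pt p D) ≡ if Q ∈ Pt p D then 1 else 0 [MOD p] := by
  have h2 := card_modEq_fix (s.pow_p hu) (Pt p D) fun R hR => h ▸ (smul_mem_Pt u).2 hR
  convert h2 using 1
  split_ifs with h3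
  · rw [eq_comm, card_eq_one]
    refine ⟨Q, eq_singleton_iff_unique_mem.2 ⟨mem_filter.2 ⟨h3, smul_of_Cs (s.le_Cs Q hu)⟩,
      fun R hR => s.eq_of_smul hu h1 (mem_filter.1 hR).2⟩⟩
  · rw [eq_comm, card_eq_zero, filter_eq_empty_iff]
    exact fun R hR e => h3 (s.eq_of_smul hu h1 e ▸ hR)

theorem Pt_one (h : D ∈ Bl p G M) : #(Pt p D) ≡ 1 [MOD p] ∧ p + 1 ≤ #(Pt p D) := by
  obtain ⟨⟨Q, R, h1, h2⟩, -⟩ := mem_Bl.1 h
  obtain ⟨u, hu, u1⟩ := s.exists_ne Q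
  have hQ : Q ∈ Pt p D := mem_Pt.2 (h2 ▸ inf_le_left)
  have h3 := s.Pt_mod hu u1 (smul_of_comm fun k hk => (mem_Pt.1 hQ hk u hu))
  rw [if_pos hQ] at h3
  have h4 : 1 < #(Pt p D) := one_lt_card.2 ⟨Q, hQ, R, mem_Pt.2 (h2 ▸ inf_le_right), h1⟩
  have := Nat.le_of_dvd (by omega) ((Nat.modEq_iff_dvd' h4.le).1 h3.symm)
  exact ⟨h3, by omega⟩

theorem mem_of_smul (h : D ∈ Bl p G M) {u : G} (hu : u ∈ (Q : Subgroup G)) (h1 : u ≠ 1)
    (e : u •ᶜ D = D) : Q ∈ Pt p D := by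
  by_contra h2
  have h3 := s.Pt_mod hu h1 e
  rw [if_neg h2] at h3
  exact hp.out.not_dvd_one ((Nat.modEq_zero_iff_dvd).1 ((s.Pt_one h).1.symm.trans h3))

theorem Bl_mod (Q : Sylow p G) : #(Bl p G M) ≡ #(Th M Q) [MOD p] := by
  classical
  obtain ⟨u, hu, u1⟩ := s.exists_ne Q
  have h2 := card_modEq_fix (a := MulAut.conj u) (by rw [← map_pow, s.pow_p hu, map_one])
    (Bl p G M) fun D hD => smul_mem_Bl u hD
  convert h2 using 2
  ext D
  rw [mem_Th, mem_filter, and_congr_right_iff]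
  exact fun h => ⟨fun hQ => smul_of_comm fun k hk => (mem_Pt.1 hQ hk u hu),
    s.mem_of_smul h hu u1⟩

theorem count (Q : Sylow p G) : #(Bl p G M) * (p + 1) ≤ (1 + r * p) * #(Th M Q) := by
  classical
  have := Fintype.ofFinite (Sylow p G)
  have h := sum_card_bipartiteAbove_eq_sum_card_bipartiteBelow (s := Bl p G M)
    (t := (univ : Finset (Sylow p G))) (fun D R => R ∈ Pt p D)
  have h2 : ∀ R, #(bipartiteBelow (fun D R => R ∈ Pt p D) (Bl p G M) R) = #(Th M Q) := fun R => by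
    rw [card_Th M Q R]; congr 1
  rw [sum_congr rfl fun R _ => h2 R, sum_const, card_univ, ← Nat.card_eq_fintype_card, s.hn,
    smul_eq_mul] at h
  rw [← h, ← smul_eq_mul]
  refine card_nsmul_le_sum _ _ _ fun D hD => (s.Pt_one hD).2.trans (card_le_card fun R hR => ?_)
  simpa using hR

include hM in
theorem meet (h : D ∈ Bl p G M) (Q : Sylow p G) :
    #(Bl p G M) = #(Th M Q) + (#(Th M Q) - 1) * p ∧ (2 ≤ #(Th M Q) → #(Pt p D) = p + 1) ∧
      ∀ D' ∈ Bl p G M, ∃ R, R ∈ Pt p D ∧ R ∈ Pt p D' := by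
  classical
  let S := (Pt p D).biUnion fun R => (Th M R).erase D
  have h1 : #S = #(Pt p D) * (#(Th M Q) - 1) := by
    rw [card_biUnion, sum_congr rfl fun R hR => by
      rw [card_erase_of_mem (mem_Th.2 ⟨h, hR⟩), card_Th M R Q], sum_const, smul_eq_mul]
    intro R hR R' hR' e
    refine disjoint_left.2 fun E h1 h2 => e ?_
    exact Bl_uniq hM h (mem_Th.1 (mem_of_mem_erase h1)).1 (ne_of_mem_erase h1).symm hR
      (mem_Th.1 (mem_of_mem_erase h1)).2 hR' (mem_Th.1 (mem_of_mem_erase h2)).2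
  have h2 : S ⊆ (Bl p G M).erase D := fun E hE => by
    obtain ⟨R, -, hR⟩ := mem_biUnion.1 hE
    exact mem_erase.2 ⟨ne_of_mem_erase hR, (mem_Th.1 (mem_of_mem_erase hR)).1⟩
  have h3 := card_le_card h2
  have h4 := card_erase_of_mem h
  have h5 := s.count (M := M) Q
  have h6 := (s.Pt_one h).2
  have h7 : #(Th M Q) ≤ #(Bl p G M) := card_le_card fun E hE => (mem_Th.1 hE).1
  obtain ⟨j, hj⟩ := (Nat.modEq_iff_dvd' h7).1 (s.Bl_mod Q).symm
  have h8 : 0 < #(Bl p G M) := card_pos.2 ⟨D, h⟩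
  have hr := s.hr
  have hp := hp.out.pos
  obtain ⟨v, hv⟩ : ∃ v, #(Th M Q) = v + 1 := ⟨#(Th M Q) - 1, by
    rcases Nat.eq_zero_or_pos #(Th M Q) with e | e
    · rw [e, mul_zero] at h5; exact absurd h5 (Nat.mul_pos h8 p.succ_pos).not_ge
    · omega⟩
  have h9 : #(Bl p G M) = v + 1 + p * j := by omega
  rw [hv, Nat.add_sub_cancel] at h1 ⊢
  rw [hv, h9] at h5
  have h10 : j ≤ v := by
    by_contra hc
    have : p * (v + 1) ≤ p * j := Nat.mul_le_mul_left _ (by omega)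
    have : (r + 1) * p ≤ p * p := Nat.mul_le_mul_right _ hr
    nlinarith
  have h11 : (p + 1) * v ≤ #(Pt p D) * v := Nat.mul_le_mul_right _ h6
  have h12 : p * j ≤ p * v := Nat.mul_le_mul_left _ h10
  have h15 : (p + 1) * v = p * v + v := by ring
  have h13 : #(Pt p D) * v = (p + 1) * v := by omega
  refine ⟨by rw [mul_comm v]; omega, fun h => Nat.eq_of_mul_eq_mul_right (by omega) h13, fun E hE => ?_⟩
  by_cases e : E = D
  · obtain ⟨R, hR⟩ := card_pos.1 (by omega : 0 < #(Pt p D))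
    exact ⟨R, hR, e ▸ hR⟩
  have h14 := eq_of_subset_of_card_le h2 (by omega)
  obtain ⟨R, i1, i2⟩ := mem_biUnion.1 (h14 ▸ mem_erase.2 ⟨e, hE⟩ : E ∈ S)
  exact ⟨R, i1, (mem_Th.1 (mem_of_mem_erase i2)).2⟩

include hM

theorem tri_mem {D₁ D₂ : Subgroup G} (h1 : D₁ ∈ Bl p G M) (h2 : D₂ ∈ Bl p G M) (e : D₁ ≠ D₂)
    (q1 : Q ∈ Pt p D₁) (q2 : Q ∈ Pt p D₂) (h : D ∈ Bl p G M) (q : Q ∉ Pt p D) : D₁ ⊓ D₂ ≤ D := by
  obtain ⟨R, i1, i2⟩ := (s.meet hM h Q).2.2 _ h1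
  obtain ⟨S, i3, i4⟩ := (s.meet hM h Q).2.2 _ h2
  have h3 : R ≠ S := fun e' => q (Bl_uniq hM h1 h2 e q1 q2 i2 (e' ▸ i4) ▸ i1)
  rw [Bl_eq hM h i1 i3 h3]
  exact inf_le_inf (mem_Pt.1 i2) (mem_Pt.1 i4)

theorem exists_not_mem (h : D ∈ Bl p G M) (Q : Sylow p G) (h2 : 2 ≤ #(Th M Q)) :
    ∃ E ∈ Bl p G M, Q ∉ Pt p E := by
  by_contra hc
  push Not at hc
  have h3 : #(Bl p G M) ≤ #(Th M Q) := card_le_card fun E hE => mem_Th.2 ⟨hE, hc E hE⟩
  have h4 := (s.meet hM h Q).1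
  have := Nat.mul_pos (by omega : 0 < #(Th M Q) - 1) hp.out.pos
  omega

omit hM in
theorem eq_one_of_all (hs : IsSimpleGroup G) (h : D ∈ Bl p G M) {k : G}
    (hk : ∀ E ∈ Bl p G M, k ∈ E) : k = 1 := by
  have h1 : (⨅ E ∈ Bl p G M, E).Normal := ⟨fun n hn g => by
    simp only [mem_iInf] at hn ⊢
    intro E hE
    have := hn _ (smul_mem_Bl g⁻¹ hE)
    rw [mem_pointwise_smul_iff_inv_smul_mem] at this
    simpa using this⟩
  rcases hs.eq_bot_or_eq_top_of_normal _ h1 with e | e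
  · exact mem_bot.1 (e ▸ by simpa only [mem_iInf] using hk)
  · obtain ⟨⟨Q, R, h2, h3⟩, -⟩ := mem_Bl.1 h
    obtain ⟨u, hu, u1⟩ := s.exists_ne Q
    have h4 : u ∈ ⨅ E ∈ Bl p G M, E := e ▸ mem_top u
    simp only [mem_iInf] at h4
    exact absurd (s.eq_of_smul hu u1 (smul_of_Cs (h3 ▸ h4 D h).2)).symm h2

theorem inf_eq (hs : IsSimpleGroup G) (h : D ∈ Bl p G M) (h' : D' ∈ Bl p G M) (e : D ≠ D')
    {k : G} (hk : k ∈ D) (hk' : k ∈ D') : k = 1 := by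
  obtain ⟨⟨Q⟩⟩ : Nonempty (Nonempty (Sylow p G)) := ⟨inferInstance⟩
  obtain ⟨Q, q1, q2⟩ := (s.meet hM h Q).2.2 _ h'
  obtain ⟨E, hE, q3⟩ := s.exists_not_mem hM h Q (one_lt_card.2
    ⟨D, mem_Th.2 ⟨h, q1⟩, D', mem_Th.2 ⟨h', q2⟩, e⟩)
  have h1 := s.tri_mem hM h h' e q1 q2 hE q3 ⟨hk, hk'⟩
  obtain ⟨R, r1, r2⟩ := (s.meet hM h Q).2.2 _ hE
  refine s.eq_one_of_all hs h fun F hF => ?_
  by_cases q4 : Q ∈ Pt p F
  · by_cases e' : D = F
    · exact e' ▸ hk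
    · exact s.tri_mem hM h hE (fun e => q3 (e ▸ q1)) r1 r2 hF
        (fun r3 => q3 (Bl_uniq hM h hF e' q1 q4 r1 r3 ▸ r2)) ⟨hk, h1⟩
  · exact s.tri_mem hM h h' e q1 q2 hF q4 ⟨hk, hk'⟩

omit hM in
theorem eq_one_of_pow (h : D ∈ Bl p G M) {u : G} (hu : u ∈ (Q : Subgroup G)) (e : u ^ M = 1) :
    u = 1 := by
  obtain ⟨⟨R, S, h1, h2⟩, h3⟩ := mem_Bl.1 h
  have h4 := s.not_dvd h1
  rw [← h2, h3] at h4
  exact (pow_eq_one_iff_of_coprime (hp.out.coprime_iff_not_dvd.2 h4)).1 ⟨s.pow_p hu, e⟩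

theorem mem_of_fix (h : D ∈ Bl p G M) (hD : #(Pt p D) = p + 1) (hR : R ∈ Pt p D) (e : R ≠ Q)
    {c : G} (h1 : c ∈ Cs Q) (h2 : c ∈ Cs R) (h3 : c •ᶜ D = D) : c ∈ D := by
  classical
  obtain ⟨S, hS, e'⟩ := exists_mem_ne (s := Pt p D) (by have := hp.out.pos; omega) R
  have h4 : ∀ g, g • R = R → g •ᶜ D = D → g • S ∈ (Pt p D).erase R := fun g i1 i2 =>
    mem_erase.2 ⟨fun e => e' (smul_left_cancel g (e.trans i1.symm)), i2 ▸ (smul_mem_Pt g).2 hS⟩
  have h5 : (elts ((R : Subgroup G) : Set G)).image (· • S) = (Pt p D).erase R := by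
    refine eq_of_subset_of_card_le (fun _ hT => ?_) ?_
    · obtain ⟨u, hu, rfl⟩ := mem_image.1 hT
      have hu := mem_elts.1 hu
      exact h4 u (smul_of_Cs (s.le_Cs R hu)) (smul_of_comm fun k hk => mem_Pt.1 hR hk u hu)
    · rw [card_image_of_injOn fun u hu v hv e => s.smul_inj e' (mem_elts.1 hu) (mem_elts.1 hv) e,
        card_elts, show ♯(R : Subgroup G) = p from s.card R, card_erase_of_mem hR, hD]; simp
  obtain ⟨u, hu, h6⟩ := mem_image.1 (h5 ▸ h4 c (smul_of_Cs h2) h3)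
  have hu := mem_elts.1 hu
  have h7 := mul_mem (inv_mem (s.le_Cs R hu)) h2
  have h8 : u⁻¹ * c ∈ D := Bl_eq hM h hR hS e'.symm ▸
    ⟨h7, s.Cs_of_smul h7 (by rw [mul_smul, ← h6, inv_smul_smul])⟩
  have h9 : (u⁻¹ * c) ^ M = 1 :=
    orderOf_dvd_iff_pow_eq_one.1 ((mem_Bl.1 h).2 ▸ orderOf_dvd_natCard _ h8)
  have h10 : Commute u⁻¹ c := h2 _ (inv_mem hu)
  rw [h10.mul_pow, inv_pow, inv_mul_eq_one] at h9
  have h11 : u ^ M = 1 := by_contra fun h11 =>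
    e (s.eq_of_smul (pow_mem hu M) h11 (smul_of_Cs (h9 ▸ pow_mem h1 M))).symm
  rwa [s.eq_one_of_pow h hu h11, inv_one, one_mul] at h8

omit hM in
theorem ti (hs : IsSimpleGroup G) (e : Q ≠ R) : Cs Q ⊓ Cs R = ⊥ := by
  classical
  by_contra hc
  obtain ⟨⟨Q', R'⟩, e', hM⟩ := Set.exists_max_image {a : Sylow p G × Sylow p G | a.1 ≠ a.2}
    (fun a => ♯(Cs a.1 ⊓ Cs a.2)) (Set.toFinite _) ⟨(Q, R), e⟩
  replace hM : ∀ Q R : Sylow p G, Q ≠ R → _ ≤ _ := fun Q R h => hM (Q, R) h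
  obtain ⟨M, hD⟩ : ∃ M, ♯(Cs Q' ⊓ Cs R') = M := ⟨_, rfl⟩
  simp only [hD] at hM
  have h : Cs Q' ⊓ Cs R' ∈ Bl p G M := mem_Bl.2 ⟨⟨Q', R', e', rfl⟩, hD⟩
  generalize Cs Q' ⊓ Cs R' = D at h
  have hk : ∀ E ∈ Bl p G M, ∃ k ∈ E, k ≠ 1 := fun E hE =>
    (bot_or_exists_ne_one E).resolve_left fun e1 => hc (card_le_one_iff_eq_bot _ |>.1 (by
      rw [← card_bot (G := G), ← e1, (mem_Bl.1 hE).2]; exact hM Q R e))
  choose! k k1 k2 using hk
  have h1 := (s.meet hM h Q).1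
  have h2 : 2 ≤ #(Th M Q) := by
    by_contra h2
    have h3 : #(Bl p G M) ≤ 1 := by
      rw [h1, show #(Th M Q) - 1 = 0 by omega]; omega
    exact k2 D h (s.eq_one_of_all hs h fun E hE => card_le_one.1 h3 D h E hE ▸ k1 D h)
  obtain ⟨E, hE, q⟩ := s.exists_not_mem hM h Q h2
  obtain ⟨u, hu, u1⟩ := s.exists_ne Q
  have h3 : ∀ c ∈ Cs Q, c •ᶜ E = E → c = 1 := fun c hc h3 => by
    have h4 := smul_mem_Bl u hE
    have h5 : E ≠ u •ᶜ E := fun e => q (s.mem_of_smul hE hu u1 e.symm)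
    have h6 : c •ᶜ (u •ᶜ E) = u •ᶜ E := by
      rw [smul_smul, ← map_mul, ← hc u hu, map_mul, mul_smul, h3]
    obtain ⟨S, i1, i2⟩ := (s.meet hM hE Q).2.2 _ h4
    have h7 : c • S = S := Bl_uniq hM hE h4 h5 (h3 ▸ (smul_mem_Pt c).2 i1)
      (h6 ▸ (smul_mem_Pt c).2 i2) i1 i2
    have h8 : S ≠ Q := fun e => q (e ▸ i1)
    exact s.inf_eq hM hs hE h4 h5
      (s.mem_of_fix hM hE ((s.meet hM hE Q).2.1 h2) i1 h8 hc (s.Cs_of_smul hc h7) h3)
      (s.mem_of_fix hM h4 ((s.meet hM h4 Q).2.1 h2) i2 h8 hc (s.Cs_of_smul hc h7) h6)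
  have h4 : #(elts (Cs Q : Set G)) ≤ #(Bl p G M \ Th M Q) := by
    refine card_le_card_of_injOn (· •ᶜ E) (fun c hc => ?_) fun c hc c' hc' e => ?_
    · refine mem_sdiff.2 ⟨smul_mem_Bl c hE, fun h => q ((smul_mem_Pt c).1 ?_)⟩
      rw [smul_of_Cs (mem_elts.1 hc)]; exact (mem_Th.1 h).2
    · refine (inv_mul_eq_one.1 (h3 _ (mul_mem (inv_mem (mem_elts.1 hc')) (mem_elts.1 hc)) ?_)).symm
      rw [map_mul, mul_smul, show c •ᶜ E = c' •ᶜ E from e, map_inv, inv_smul_smul]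
  have h5 : #(elts ((Q : Subgroup G) : Set G) ×ˢ Th M Q) ≤ #(elts (Cs Q : Set G)) := by
    refine card_le_card_of_injOn (fun a => a.1 * k a.2) (fun a ha => ?_) fun a ha b hb e => ?_
    · obtain ⟨i1, i2⟩ := mem_product.1 ha
      exact mem_elts.2 (mul_mem (s.le_Cs Q (mem_elts.1 i1))
        (mem_Pt.1 (mem_Th.1 i2).2 (k1 _ (mem_Th.1 i2).1)))
    · obtain ⟨v, F⟩ := a
      obtain ⟨w, F'⟩ := b
      simp only [coe_product, Set.mem_prod, mem_coe, mem_elts, mem_Th] at ha hb e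
      have hw := mul_mem (inv_mem hb.1) ha.1
      have i1 : w⁻¹ * v * k F = k F' := by rw [mul_assoc, e, inv_mul_cancel_left]
      have i2 : ∀ F ∈ Bl p G M, k F ^ M = 1 := fun F hF =>
        orderOf_dvd_iff_pow_eq_one.1 ((mem_Bl.1 hF).2 ▸ orderOf_dvd_natCard _ (k1 F hF))
      have i3 := i2 F' hb.2.1
      rw [← i1, Commute.mul_pow (mem_Pt.1 ha.2.2 (k1 F ha.2.1) _ hw), i2 F ha.2.1, mul_one] at i3
      have i4 := s.eq_one_of_pow h hw i3
      rw [i4, one_mul] at i1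
      rw [inv_mul_eq_one.1 i4, by_contra fun e : F ≠ F' => k2 F ha.2.1
        (s.inf_eq hM hs ha.2.1 hb.2.1 e (k1 F ha.2.1) (i1 ▸ k1 F' hb.2.1))]
  rw [card_product, card_elts, show ♯(Q : Subgroup G) = p from s.card Q] at h5
  rw [card_sdiff_of_subset fun E hE => (mem_Th.1 hE).1, h1, Nat.add_sub_cancel_left] at h4
  have := Nat.le_of_mul_le_mul_left ((h5.trans h4).trans_eq (mul_comm _ _)) hp.out.pos
  omega

omit hM in
theorem card_Cs_dvd (hs : IsSimpleGroup G) (Q : Sylow p G) : ♯(Cs Q) ∣ r * p := by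
  let S : SubMulAction (Cs Q) (Sylow p G) := ⟨{R | R ≠ Q}, fun c R h e =>
    h (smul_left_cancel (c : G) (e.trans (smul_of_Cs c.2).symm))⟩
  have h1 := Nat.card_congr (MulAction.selfEquivOrbitsQuotientProd (G := Cs Q) (X := S) fun R =>
    eq_bot_iff.2 fun c hc => Subtype.ext (mem_bot.1 (s.ti hs (Ne.symm R.2) ▸
      ⟨c.2, s.Cs_of_smul c.2 (congrArg Subtype.val hc)⟩)))
  have h2 : Nat.card S = r * p := by
    have := Set.ncard_add_ncard_compl ({Q} : Set (Sylow p G))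
    rw [Set.ncard_singleton, s.hn] at this
    exact Nat.add_left_cancel this
  rw [← h2, h1, Nat.card_prod]
  exact dvd_mul_left _ _

end Sm
end Cfsg.Agent.BR
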