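import Cfsg.Agent.Lib.BR.Loc

/-!
# The Herbrand quotient of a `ℤ_p[C_p]`-lattice
-/

set_option autoImplicit false

namespace Cfsg.Agent.BR

open Module Polynomial LinearMap

variable {p : ℕ} [hp : Fact p.Prime] {M : Type*} [AddCommGroup M] [Module ℤ_[p] M]
  [Module.Free ℤ_[p] M] [Module.Finite ℤ_[p] M]

theorem trace_proj (f : End ℤ_[p] M) (S : Submodule ℤ_[p] M) (h1 : ∀ m, f m ∈ S) (c : ℤ_[p])
    (h2 : ∀ m ∈ S, f m = c • m) : trace ℤ_[p] M f = c * finrank ℤ_[p] S := by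
  rw [← trace_restrict_eq_of_forall_mem S f h1]
  have : f.restrict (fun x _ => h1 x) = c • (1 : End ℤ_[p] S) := by
    ext m; simp [h2 m m.2]
  rw [this, map_smul, trace_one, smul_eq_mul]

theorem index_p : (range ((p : ℤ_[p]) • (1 : End ℤ_[p] M))).toAddSubgroup.index =
    p ^ finrank ℤ_[p] M := by
  classical
  let b := Module.finBasis ℤ_[p] M
  let f : M →+ (Fin (finrank ℤ_[p] M) → ZMod p) :=
    { toFun := fun m i => PadicInt.toZMod (b.repr m i)
      map_zero' := by ext i; simp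
      map_add' := fun a c => by ext i; simp }
  have hk : f.ker = (range ((p : ℤ_[p]) • (1 : End ℤ_[p] M))).toAddSubgroup := by
    ext m
    constructor
    · intro h
      have : ∀ i, ∃ c, b.repr m i = p * c := fun i => by
        have := congrFun (AddMonoidHom.mem_ker.1 h) i
        change PadicInt.toZMod (b.repr m i) = 0 at this
        rw [← RingHom.mem_ker, PadicInt.ker_toZMod, PadicInt.maximalIdeal_eq_span_p,
          Ideal.mem_span_singleton] at this
        exact this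
      choose c hc using this
      refine ⟨b.equivFun.symm c, b.equivFun.injective ?_⟩
      ext i
      simp only [LinearMap.smul_apply, End.one_apply, map_smul, LinearEquiv.apply_symm_apply, Pi.smul_apply,
        smul_eq_mul]
      rw [Basis.equivFun_apply, hc]
    · rintro ⟨a, rfl⟩
      ext i
      simp [f]
  have hs : Function.Surjective f := fun v => by
    refine ⟨b.equivFun.symm fun i => ((v i).val : ℤ_[p]), ?_⟩
    ext i
    change PadicInt.toZMod (b.repr _ i) = _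
    rw [← Basis.equivFun_apply, LinearEquiv.apply_symm_apply]
    simp
  rw [← hk, AddSubgroup.index_ker, AddMonoidHom.range_eq_top.2 hs]
  simp

omit [Module.Free ℤ_[p] M] [Module.Finite ℤ_[p] M] in
theorem relIndex_dvd (S Q : Submodule ℤ_[p] M) {v : M} (hv : v ∈ S) (hpv : (p : ℤ_[p]) • v ∈ Q)
    (h : ∀ m ∈ S, ∃ c : ℤ_[p], m - c • v ∈ Q) : Q.toAddSubgroup.relIndex S.toAddSubgroup ∣ p := by
  let g : ℤ_[p] →+ S.toAddSubgroup ⧸ Q.toAddSubgroup.addSubgroupOf S.toAddSubgroup :=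
    (QuotientAddGroup.mk' _).comp
      { toFun := fun c => ⟨c • v, S.smul_mem c hv⟩
        map_zero' := by ext; simp
        map_add' := fun a b => by ext; simp [add_smul] }
  have hs : Function.Surjective g := fun w => by
    obtain ⟨m, rfl⟩ := QuotientAddGroup.mk_surjective w
    obtain ⟨c, hc⟩ := h m m.2
    refine ⟨c, QuotientAddGroup.eq.2 ?_⟩
    change -(c • v) + (m : M) ∈ Q
    rwa [neg_add_eq_sub]
  have h1 : g.ker.index = Q.toAddSubgroup.relIndex S.toAddSubgroup := by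
    rw [AddSubgroup.index_ker, AddMonoidHom.range_eq_top.2 hs, AddSubgroup.card_top]; rfl
  have h2 := index_p (p := p) (M := ℤ_[p])
  rw [finrank_self, pow_one] at h2
  rw [← h1]
  refine dvd_trans (AddSubgroup.index_dvd_of_le ?_) (dvd_of_eq h2)
  rintro _ ⟨c, rfl⟩
  refine (QuotientAddGroup.eq_zero_iff _).2 ?_
  change ((p : ℤ_[p]) • c) • v ∈ Q
  rw [smul_eq_mul, mul_comm, mul_smul]
  exact Q.smul_mem _ hpv

/-- the norm endomorphism -/
noncomputable def Nm (X : End ℤ_[p] M) : End ℤ_[p] M := ∑ i ∈ Finset.range p, X ^ i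

section
omit [Module.Free ℤ_[p] M] [Module.Finite ℤ_[p] M]

theorem X_Nm {X : End ℤ_[p] M} (hX : X ^ p = 1) (m : M) : X (Nm X m) = Nm X m := by
  have := LinearMap.congr_fun (mul_geom_sum X p) m
  rw [hX, sub_self] at this
  simpa [sub_eq_zero, Nm] using this

theorem Nm_X {X : End ℤ_[p] M} (hX : X ^ p = 1) (m : M) : Nm X (X m) = Nm X m := by
  have := LinearMap.congr_fun (geom_sum_mul X p) m
  rw [hX, sub_self] at this
  simpa [sub_eq_zero, Nm] using this

theorem pow_fixed {X : End ℤ_[p] M} {m : M} (h : X m = m) (i : ℕ) : (X ^ i) m = m := by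
  induction i with
  | zero => rfl
  | succ i ih => rw [pow_succ', End.mul_apply, ih, h]

theorem Nm_fixed {X : End ℤ_[p] M} {m : M} (h : X m = m) : Nm X m = (p : ℤ_[p]) • m := by
  simp [Nm, pow_fixed h, Nat.cast_smul_eq_nsmul]

theorem pow_sub_mem (X : End ℤ_[p] M) (m : M) (i : ℕ) : (X ^ i) m - m ∈ range (X - 1) :=
  ⟨(∑ j ∈ Finset.range i, X ^ j) m, by rw [← End.mul_apply, mul_geom_sum]; rfl⟩

theorem Nm_sub_mem (X : End ℤ_[p] M) (m : M) : Nm X m - (p : ℤ_[p]) • m ∈ range (X - 1) := by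
  have : Nm X m - (p : ℤ_[p]) • m = ∑ i ∈ Finset.range p, ((X ^ i) m - m) := by
    simp [Nm, Nat.cast_smul_eq_nsmul]
  rw [this]
  exact Submodule.sum_mem _ fun i _ => pow_sub_mem X m i

theorem pow_coe {X : End ℤ_[p] M} {S : Submodule ℤ_[p] M} {Y : End ℤ_[p] S}
    (h : ∀ m, (Y m : M) = X m) (i : ℕ) (m : S) : ((Y ^ i) m : M) = (X ^ i) m := by
  induction i with
  | zero => rfl
  | succ i ih => rw [pow_succ', pow_succ', End.mul_apply, End.mul_apply, h, ih]

theorem Nm_coe {X : End ℤ_[p] M} {S : Submodule ℤ_[p] M} {Y : End ℤ_[p] S}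
    (h : ∀ m, (Y m : M) = X m) (m : S) : (Nm Y m : M) = Nm X m := by
  simp only [Nm, LinearMap.sum_apply, Submodule.coe_sum, pow_coe h]

theorem exists_poly2 : ∃ h : ℤ_[p][X], ∑ i ∈ Finset.range p, (X + 1 : ℤ_[p][X]) ^ i =
    X ^ (p - 1) + C (p : ℤ_[p]) * (1 + X * h) := by
  obtain ⟨r, hr⟩ := exists_add_pow_prime_eq hp.out (X : ℤ_[p][X]) 1
  have h1 := mul_geom_sum (X + 1 : ℤ_[p][X]) p
  have hp1 : p - 1 + 1 = p := Nat.sub_add_cancel hp.out.one_le
  have h2 : ∑ i ∈ Finset.range p, (X + 1 : ℤ_[p][X]) ^ i = X ^ (p - 1) + C (p : ℤ_[p]) * r := by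
    apply mul_left_cancel₀ (X_ne_zero (R := ℤ_[p]))
    rw [add_sub_cancel_right] at h1
    rw [h1, hr, mul_add, ← pow_succ', hp1]
    simp; ring
  have h3 := congrArg (eval 0) h2
  have hp2 : p - 1 ≠ 0 := by have := hp.out.two_le; omega
  simp [eval_finsetSum, hp2] at h3
  refine ⟨r.divX, ?_⟩
  rw [h2]
  congr 2
  have h4 : r.coeff 0 = 1 := by
    rw [coeff_zero_eq_eval_zero]
    exact (mul_left_cancel₀ (p_ne (p := p)) (by rw [mul_one]; exact h3)).symm
  conv_lhs => rw [← X_mul_divX_add r, h4]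
  simp [add_comm]

theorem range_pow_eq {Y : End ℤ_[p] M} (h : Nm Y = 0) :
    range ((Y - 1) ^ (p - 1)) = range ((p : ℤ_[p]) • (1 : End ℤ_[p] M)) := by
  obtain ⟨g, hg⟩ := exists_poly2 (p := p)
  have h1 := congrArg (aeval (Y - 1)) hg
  simp only [map_sum, map_pow, map_add, aeval_X, map_one, sub_add_cancel, map_mul,
    aeval_C] at h1
  change Nm Y = _ at h1
  rw [h] at h1
  have h2 : ∀ m, (p : ℤ_[p]) • m = - ((Y - 1) ^ (p - 1)) m -
      (Y - 1) ((p : ℤ_[p]) • aeval (Y - 1) g m) := fun m => by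
    have := LinearMap.congr_fun h1 m
    simp only [LinearMap.zero_apply, LinearMap.add_apply, End.mul_apply, Module.algebraMap_end_apply, End.one_apply,
      smul_add] at this
    rw [map_smul]
    rw [eq_sub_iff_add_eq, eq_neg_iff_add_eq_zero, this]; abel
  apply le_antisymm
  · rintro _ ⟨m, rfl⟩
    refine ⟨-m - (Y - 1) (aeval (Y - 1) g m), ?_⟩
    have := h2 m
    rw [map_smul] at this
    simp only [LinearMap.smul_apply, End.one_apply, smul_sub, smul_neg]
    rw [this]; abel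
  · rintro _ ⟨m, rfl⟩
    have key : ∀ k : ℕ, ∃ a b, (p : ℤ_[p]) • m =
        ((Y - 1) ^ (p - 1)) a + ((Y - 1) ^ k) ((p : ℤ_[p]) • b) := by
      intro k
      induction k with
      | zero => exact ⟨0, m, by simp⟩
      | succ k ih =>
        obtain ⟨a, b, hab⟩ := ih
        refine ⟨a - ((Y - 1) ^ k) b, -aeval (Y - 1) g b, ?_⟩
        rw [hab, h2 b, map_sub, map_sub, map_neg, smul_neg, map_neg, pow_succ, End.mul_apply,
          ← End.mul_apply ((Y - 1) ^ k) ((Y - 1) ^ (p - 1)), ← End.mul_apply ((Y - 1) ^ (p - 1)),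
          (Commute.refl (Y - 1)).pow_pow k (p - 1)]
        abel
    obtain ⟨a, b, hab⟩ := key (p - 1)
    exact ⟨a + (p : ℤ_[p]) • b, by rw [map_add, ← hab]; rfl⟩

theorem index_range_pow {u : End ℤ_[p] M} (hu : Function.Injective u) (k : ℕ) :
    (range (u ^ k)).toAddSubgroup.index = (range u).toAddSubgroup.index ^ k := by
  induction k with
  | zero => simp [End.one_eq_id]
  | succ k ih =>
    have h1 : (range (u ^ (k + 1))).toAddSubgroup =
        (range (u ^ k)).toAddSubgroup.map u.toAddMonoidHom := by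
      ext m
      constructor
      · rintro ⟨a, rfl⟩; exact ⟨(u ^ k) a, ⟨a, rfl⟩, by rw [pow_succ']; rfl⟩
      · rintro ⟨_, ⟨a, rfl⟩, rfl⟩; exact ⟨a, by rw [pow_succ']; rfl⟩
    rw [h1, AddSubgroup.index_map_of_injective _ hu, ih, pow_succ]
    rfl
end

omit [Module.Free ℤ_[p] M] [Module.Finite ℤ_[p] M] in
theorem relIndex_map_subtype (S : Submodule ℤ_[p] M) (T : Submodule ℤ_[p] S) :
    (T.map S.subtype).toAddSubgroup.relIndex S.toAddSubgroup = T.toAddSubgroup.index := by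
  unfold AddSubgroup.relIndex
  congr 1
  ext m
  constructor
  · rintro ⟨a, ha, h⟩
    have : a = m := Subtype.ext h
    exact this ▸ ha
  · intro h; exact ⟨m, h, rfl⟩

theorem herb {X : End ℤ_[p] M} (hX : X ^ p = 1) : ∃ j : ℕ,
    j * (range (Nm X)).toAddSubgroup.relIndex (ker (X - 1)).toAddSubgroup =
      p ^ finrank ℤ_[p] (ker (X - 1)) ∧
    (j * (range (X - 1)).toAddSubgroup.relIndex (ker (Nm X)).toAddSubgroup) ^ (p - 1) =
      p ^ finrank ℤ_[p] (ker (Nm X)) := by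
  have hk : ∀ m, m ∈ ker (X - 1) ↔ X m = m := fun m => by simp [sub_eq_zero]
  refine ⟨(ker (Nm X) ⊔ ker (X - 1)).toAddSubgroup.index, ?_, ?_⟩
  · have h1 := AddSubgroup.relIndex_map_map (Nm X).toAddMonoidHom (ker (X - 1)).toAddSubgroup ⊤
    have h2 : (ker (X - 1)).toAddSubgroup.map (Nm X).toAddMonoidHom =
        ((range ((p : ℤ_[p]) • (1 : End ℤ_[p] (ker (X - 1))))).map
          (ker (X - 1)).subtype).toAddSubgroup := by
      ext m
      constructor
      · rintro ⟨a, ha, rfl⟩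
        exact ⟨(p : ℤ_[p]) • ⟨a, ha⟩, ⟨⟨a, ha⟩, rfl⟩, (Nm_fixed ((hk a).1 ha)).symm⟩
      · rintro ⟨_, ⟨a, rfl⟩, rfl⟩
        exact ⟨a, a.2, Nm_fixed ((hk a).1 a.2)⟩
    rw [← index_p, ← relIndex_map_subtype, ← h2, ← AddSubgroup.relIndex_mul_relIndex
      (AddSubgroup.map _ _) (range (Nm X)).toAddSubgroup]
    · congr 1
      rw [top_sup_eq, AddSubgroup.relIndex_top_right] at h1
      rw [sup_comm, Submodule.sup_toAddSubgroup]
      refine Eq.symm (Eq.trans ?_ h1)
      congr 1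
      ext m; simp
    · rintro _ ⟨a, -, rfl⟩; exact ⟨a, rfl⟩
    · rintro _ ⟨a, rfl⟩; exact (hk _).2 (X_Nm hX a)
  · have hinv : ∀ m ∈ ker (Nm X), X m ∈ ker (Nm X) := fun m hm => by
      rw [mem_ker, Nm_X hX]; exact hm
    let Y : End ℤ_[p] (ker (Nm X)) := X.restrict hinv
    have hY : Nm Y = 0 := by
      ext m
      rw [Nm_coe (Y := Y) (fun _ => rfl)]; exact m.2
    have hinj : Function.Injective (Y - 1 : End ℤ_[p] _) := by
      rw [← ker_eq_bot, eq_bot_iff]
      intro m hm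
      have h1 : X m = m := by
        have := congrArg Subtype.val (mem_ker.1 hm)
        simpa [Y, sub_eq_zero] using this
      have h2 := Nm_fixed h1
      rw [mem_ker.1 m.2] at h2
      have : (m : M) = 0 := p_smul_inj (p := p) (by rw [← h2, smul_zero])
      exact Subtype.ext this
    rw [← index_p, ← range_pow_eq hY, index_range_pow hinj, ← relIndex_map_subtype]
    congr 1
    have h1 := AddSubgroup.relIndex_map_map (X - 1).toAddMonoidHom (ker (Nm X)).toAddSubgroup ⊤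
    have h2 : (ker (Nm X)).toAddSubgroup.map (X - 1).toAddMonoidHom =
        ((range (Y - 1)).map (ker (Nm X)).subtype).toAddSubgroup := by
      ext m
      constructor
      · rintro ⟨a, ha, rfl⟩
        exact ⟨(Y - 1) ⟨a, ha⟩, ⟨⟨a, ha⟩, rfl⟩, rfl⟩
      · rintro ⟨_, ⟨a, rfl⟩, rfl⟩
        exact ⟨a, a.2, rfl⟩
    rw [← h2, ← AddSubgroup.relIndex_mul_relIndex (AddSubgroup.map _ _)
      (range (X - 1)).toAddSubgroup]
    · congr 1
      rw [top_sup_eq, AddSubgroup.relIndex_top_right] at h1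
      rw [Submodule.sup_toAddSubgroup]
      refine Eq.symm (Eq.trans ?_ h1)
      congr 1
      ext m; simp
    · rintro _ ⟨a, -, rfl⟩; exact ⟨a, rfl⟩
    · rintro _ ⟨a, rfl⟩
      change Nm X (X a - a) = 0
      rw [map_sub, Nm_X hX, sub_self]

/-- `(S, Q)` has cyclic quotient -/
def Cyc (S Q : Submodule ℤ_[p] M) : Prop := ∃ v ∈ S, ∀ m ∈ S, ∃ c : ℤ_[p], m - c • v ∈ Q

theorem herb_trace {X : End ℤ_[p] M} (hX : X ^ p = 1)
    (h : (Cyc (ker (X - 1)) (range (Nm X)) ∧ ker (Nm X) ≤ range (X - 1)) ∨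
      (Cyc (ker (Nm X)) (range (X - 1)) ∧ ker (X - 1) ≤ range (Nm X))) :
    ∃ δ : ℤ, (δ = 0 ∨ δ = 1 ∨ δ = -1) ∧ trace ℤ_[p] M (Nm X - 1) = δ * (p - 1) := by
  have hk : ∀ m, m ∈ ker (X - 1) ↔ X m = m := fun m => by simp [sub_eq_zero]
  obtain ⟨j, h1, h2⟩ := herb hX
  have t1 := trace_proj (Nm X) (ker (X - 1)) (fun m => (hk _).2 (X_Nm hX m)) p
    (fun m hm => Nm_fixed ((hk m).1 hm))
  have t2 := trace_proj ((p : ℤ_[p]) • 1 - Nm X) (ker (Nm X)) (fun m => by
    simp [Nm_fixed (X_Nm hX m)]) p (fun m hm => by simp [mem_ker.1 hm])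
  generalize finrank ℤ_[p] (ker (X - 1)) = i at *
  generalize finrank ℤ_[p] (ker (Nm X)) = r at *
  have t3 : trace ℤ_[p] M (Nm X - 1) = ((p - 1) * i - r : ℤ_[p]) := by
    apply mul_left_cancel₀ (p_ne (p := p))
    rw [map_sub, map_smul, smul_eq_mul] at t2
    rw [map_sub]
    linear_combination (p - 1 : ℤ_[p]) * t1 - t2
  have hp1 := hp.out.one_lt
  have hc : ((p - 1 : ℕ) : ℤ_[p]) = p - 1 := by rw [Nat.cast_sub hp1.le, Nat.cast_one]
  rw [t3]
  rcases h with ⟨⟨v, hv, hc1⟩, hb⟩ | ⟨⟨v, hv, hc1⟩, hb⟩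
  · have ha := relIndex_dvd _ (range (Nm X)) hv ⟨v, Nm_fixed ((hk v).1 hv)⟩ hc1
    rw [(AddSubgroup.relIndex_eq_one (K := (ker (Nm X)).toAddSubgroup)).2 hb, mul_one] at h2
    rcases (Nat.dvd_prime hp.out).1 ha with h3 | h3
    · rw [h3, mul_one] at h1
      rw [h1, ← pow_mul] at h2
      have := Nat.pow_right_injective hp1 h2
      exact ⟨0, by simp, by rw [← this]; push_cast [hc]; ring⟩
    · rw [h3] at h1
      have h4 : (j * p) ^ (p - 1) = p ^ (r + (p - 1)) := by rw [mul_pow, h2, pow_add]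
      rw [h1, ← pow_mul] at h4
      have := congrArg (Nat.cast : ℕ → ℤ_[p]) (Nat.pow_right_injective hp1 h4)
      push_cast [hc] at this
      exact ⟨1, by simp, by push_cast; linear_combination this⟩
  · have ha := relIndex_dvd _ _ hv (by
      have := (range (X - 1)).neg_mem (Nm_sub_mem X v)
      rwa [mem_ker.1 hv, zero_sub, neg_neg] at this) hc1
    rw [(AddSubgroup.relIndex_eq_one (K := (ker (X - 1)).toAddSubgroup)).2 hb, mul_one] at h1
    rcases (Nat.dvd_prime hp.out).1 ha with h3 | h3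
    · rw [h3, mul_one, h1, ← pow_mul] at h2
      have := Nat.pow_right_injective hp1 h2
      exact ⟨0, by simp, by rw [← this]; push_cast [hc]; ring⟩
    · rw [h3, h1, ← pow_succ, ← pow_mul] at h2
      have := congrArg (Nat.cast : ℕ → ℤ_[p]) (Nat.pow_right_injective hp1 h2)
      push_cast [hc] at this
      exact ⟨-1, by simp, by push_cast; linear_combination this⟩

end Cfsg.Agent.BR
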