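import Cfsg.Agent.Lib.BR.TIK
import Cfsg.Agent.Lib.OO.BasicH

/-!
# The case of a self-centralizing Sylow subgroup: tools
-/

set_option autoImplicit false

namespace Cfsg.Agent.BR

open Subgroup Cfsg.Agent.OO
open scoped ComplexConjugate Pointwise

universe u

variable {G : Type u} [Group G] [Finite G] {p : ℕ} [hp : Fact p.Prime] {x y : G} {K H : Subgroup G}

omit [Finite G] in
theorem cardN_eq (hx : orderOf x = p) : ∃ k, ♯𝐍(zpowers x) = ♯𝐂[x] * k ∧ k ∣ p - 1 := by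
  refine ⟨Nat.card (sig hx).range, ?_, ?_⟩
  · rw [← (sig hx).ker.card_mul_index, index_ker, ker_sig,
      Nat.card_congr (subgroupOfEquivOfLe C_le_N).toEquiv]
  · rw [← ZMod.card_units p, ← Nat.card_eq_fintype_card]; exact card_subgroup_dvd_card _

omit hp in
theorem mem_N_iff {h g : G} (hh : h ∈ zpowers y) :
    g * h * g⁻¹ ∈ zpowers y ↔ g ∈ 𝐍(zpowers h) := by
  refine ⟨fun h1 => mem_normalizer_fintype ?_, fun h1 =>
    zpowers_le.2 hh ((mem_normalizer_iff.1 h1 h).1 (mem_zpowers h))⟩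
  have h2 : g * h * g⁻¹ ∈ zpowers h := zpowers_le.1 (le_of_isCyclic_of_card_dvd inferInstance
    (zpowers_le.2 h1) (zpowers_le.2 hh) (by rw [Nat.card_zpowers, Nat.card_zpowers, orderOf_conj]))
  rintro _ ⟨i, rfl⟩
  have := zpow_mem h2 i
  rwa [conj_zpow] at this

/-- the permutation character on the Sylow subgroups -/
noncomputable def rho (x : G) : G → ℂ := cfInd ⊤ 𝐍(zpowers x) (cf1 𝐍(zpowers x))

omit hp in
theorem rho_char : IsChar ⊤ (rho x) := (isChar_cf1 _).cfInd le_top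

omit hp in
theorem rho_one : rho x 1 = (𝐍(zpowers x)).index := by
  rw [rho, cfInd1 le_top, cf1_one, relIndex_top_right, mul_one]

omit hp in
theorem exists_conj_N {g : G} (h : rho x g ≠ 0) : ∃ a, a * g * a⁻¹ ∈ 𝐍(zpowers x) := by
  by_contra hn
  push Not at hn
  exact h (cfInd_eq_zero _ fun a _ => cf1_of_not_mem (by simpa using hn a⁻¹))

namespace Dat
variable (d : Dat p x y K H)
include d

theorem sumN' {V : Type*} [AddCommMonoid V] (F : G → V) :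
    ∑ g ∈ elts (𝐍(zpowers x) : Set G), F g =
      ∑ h ∈ elts (H : Set G), ∑ i : ZMod p, F (h * xp x i) := by
  classical
  have := Fintype.ofFinite G
  have h := d.sumN F
  rw [Finset.sum_congr rfl fun g _ => (d.sumP' fun u => F (g * u)).symm, sum_elts_subtype H,
    Finset.sum_congr rfl fun g _ => sum_elts_subtype _ _, ← h]
  congr 1; ext; simp

theorem fix_val {χ : G → ℂ} (h : χ ∈ CF ⊤) {g : G} (hg : g ∈ 𝐍(zpowers x)) :
    fixP (zpowers x) 𝐍(zpowers x) χ g = (p : ℂ)⁻¹ * ∑ i : ZMod p, χ (g * xp x i) := by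
  rw [fixP_apply _ hg, d.sumP', d.cardP]
  simp only [cfun_mul_comm h (mem_top (xp x _))]

theorem fix_N {χ : G → ℂ} (h : χ ∈ CF ⊤) {g : G} (hg : g ∈ 𝐍(zpowers x)) (hg' : g ∉ 𝐂[x]) :
    fixP (zpowers x) 𝐍(zpowers x) χ g = χ g := by
  have hp0 : (p : ℂ) ≠ 0 := by exact_mod_cast hp.out.ne_zero
  simp [d.fix_val h hg, d.val_coset h hg hg', hp0]

theorem fix_mul {χ : G → ℂ} (h : χ ∈ CF ⊤) {g : G} (hg : g ∈ 𝐍(zpowers x)) (i : ZMod p) :
    fixP (zpowers x) 𝐍(zpowers x) χ (g * xp x i) = fixP (zpowers x) 𝐍(zpowers x) χ g := by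
  rw [d.fix_val h hg, d.fix_val h (mul_mem hg (le_normalizer (xp_mem i)))]
  congr 1
  exact Fintype.sum_equiv (Equiv.addLeft i) _ _ fun j => by simp [xp_add d.ord, mul_assoc]

theorem fix_one {χ : G → ℂ} (h : χ ∈ CF ⊤) {c : ℂ}
    (hc : χ 1 + ∑ a : (ZMod p)ˣ, χ (xp x (a : ZMod p)) = p * c) :
    fixP (zpowers x) 𝐍(zpowers x) χ 1 = c := by
  have hp0 : (p : ℂ) ≠ 0 := by exact_mod_cast hp.out.ne_zero
  rw [d.fix_val h (one_mem _), sum_units]
  simp [xp_zero, hc, hp0]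

theorem dot_fix {φ χ : G → ℂ} (h : χ ∈ CF ⊤) (hφ : ∀ g ∈ H, ∀ i : ZMod p, φ (g * xp x i) = φ g) :
    ⟪φ, χ⟫[𝐍(zpowers x)] = ⟪φ, fixP (zpowers x) 𝐍(zpowers x) χ⟫[H] := by
  have hp0 : (p : ℂ) ≠ 0 := by exact_mod_cast hp.out.ne_zero
  rw [cfdotE, cfdotE, d.sumN', d.cardN, Nat.cast_mul, mul_inv, mul_assoc, Finset.mul_sum _ _ (p : ℂ)⁻¹]
  congr 1
  refine Finset.sum_congr rfl fun g hg => ?_
  have hg := mem_elts.1 hg
  simp only [hφ g hg, d.fix_val h (d.norm hg), ← Finset.mul_sum, map_mul, map_sum, map_inv₀,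
    map_natCast]
  ring

omit [Finite G] in
theorem conj_coset {g : G} (hg : g ∈ 𝐍(zpowers x)) (hg' : g ∉ 𝐂[x]) (i : ZMod p) :
    ∃ j : ZMod p, xp x j * g * (xp x j)⁻¹ = g * xp x i := by
  have h1 : (1 : ZMod p) - sig d.ord ⟨g, hg⟩ ≠ 0 := fun e => hg' ((sig_eq_one d.ord ⟨g, hg⟩).1
    (Units.ext (sub_eq_zero.1 e).symm))
  have h2 : ∀ i, g * xp x i * g⁻¹ = _ := conj_xp d.ord ⟨g, hg⟩
  generalize (sig d.ord ⟨g, hg⟩ : ZMod p) = σ at h1 h2
  refine ⟨σ * i / (1 - σ), ?_⟩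
  rw [← xp_neg d.ord, mul_assoc, eq_mul_of_mul_inv_eq (h2 _), eq_mul_of_mul_inv_eq (h2 i),
    ← mul_assoc, ← xp_add d.ord]
  congr 2
  field_simp
  ring

theorem rho_xp {i : ZMod p} (hi : i ≠ 0) : rho x (xp x i) = 1 := by
  have h := le_normalizer (xp_mem (x := x) i)
  rw [rho, cfInd_eq_self le_top (cf1_mem_CF _) (mem_top _) fun g _ hg => cf1_of_not_mem fun h' => ?_,
    cf1E h]
  obtain ⟨a, ha, u, hu, e⟩ := d.gen _ h'
  have h1 : xp x i ≠ 1 := fun e => hi ((xp_eq_one d.ord).1 e)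
  have h2 : (g⁻¹ * xp x i * g) ^ p = 1 := by
    have := _root_.conj_pow (a := g⁻¹) (b := xp x i) (i := p)
    rw [inv_inv] at this
    rw [this, xp_pow_p d.ord]; simp
  have hP : IsPGroup p (zpowers (g⁻¹ * xp x i * g)) := IsPGroup.of_card_dvd_pow
    (n := 1) (by rw [Nat.card_zpowers, pow_one]; exact orderOf_dvd_of_pow_eq_one h2)
  have h3 := hP.inf_normalizer_sylow d.syl
  have h4 : g⁻¹ * xp x i * g ∈ zpowers (g⁻¹ * xp x i * g) ⊓ d.syl := h3 ▸ ⟨mem_zpowers _, h'⟩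
  exact hg (inv_mem_iff.1 (d.mem_norm (xp_mem i) h1 (by rw [inv_inv]; exact h4.2)))

theorem rho_le {r : ℕ} (hn : (𝐍(zpowers x)).index = 1 + r * p) {g : G} (hg : g ∈ 𝐍(zpowers x))
    (hg' : g ∉ 𝐂[x]) : ‖rho x g‖ ≤ r + 1 := by
  have h := char1_ge_norm (fixP_char' (P_normal (x := x)) (rho_char (x := x))) g
  rw [d.fix_N rho_char.mem_CF hg hg', d.fix_one rho_char.mem_CF (c := (r + 1 : ℕ)) (by
    rw [rho_one, hn, Finset.sum_congr rfl fun a _ => d.rho_xp a.ne_zero]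
    simp [Nat.totient_prime hp.out, hp.out.one_le]; ring), Complex.norm_natCast] at h
  exact_mod_cast h

variable (hK : K = ⊥)
include hK

omit [Finite G] hp in
theorem H_eq : H = zpowers y := by
  refine le_antisymm (fun h hh => ?_) (zpowers_le.2 d.yH)
  obtain ⟨j, k, hk, rfl⟩ := d.cyc h hh
  rw [mem_bot.1 (hK.le hk), mul_one]
  exact npow_mem_zpowers y j

theorem cardH' : ♯H = Nat.card d.E := by rw [d.cardH, card_eq_one.2 hK, one_mul]

theorem cardG' : Nat.card G = p * (Nat.card d.E * (𝐍(zpowers x)).index) := by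
  rw [d.cardG, card_eq_one.2 hK, mul_one]

omit [Finite G] in
theorem C_eq : 𝐂[x] = zpowers x := by
  refine le_antisymm (fun c hc => ?_) P_le_C
  obtain ⟨i, k, hk, rfl⟩ := d.mem_C.1 hc
  rw [mem_bot.1 (hK.le hk), mul_one]
  exact xp_mem i

omit hp [Finite G] in
theorem not_C {h : G} (hh : h ∈ H) (h1 : h ≠ 1) : h ∉ 𝐂[x] := fun hc =>
  h1 (mem_bot.1 (hK ▸ d.defK.ge ⟨hh, hc⟩))

omit [Finite G] in
theorem conj_H {g : G} (hg : g ∈ 𝐍(zpowers x)) (hg' : g ∉ zpowers x) :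
    ∃ h ∈ H, h ≠ 1 ∧ IsConj g h := by
  obtain ⟨h, hh, u, hu, rfl⟩ := d.gen g hg
  have h1 : h ≠ 1 := fun e => hg' (by rwa [e, one_mul])
  obtain ⟨i, rfl⟩ := exists_xp d.ord hu
  refine ⟨h, hh, h1, ?_⟩
  obtain ⟨a, ha⟩ := d.conj_coset (d.norm hh) (d.not_C hK hh h1) i
  exact (isConj_iff.2 ⟨_, ha⟩).symm

omit [Finite G] in
theorem reg_N {g : G} (hg : g ∈ 𝐍(zpowers x)) (hg' : g ∉ zpowers x) : ¬ p ∣ orderOf g := by
  obtain ⟨h, hh, -, e⟩ := d.conj_H hK hg hg'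
  obtain ⟨a, rfl⟩ := isConj_iff.1 e
  exact fun h => d.cop (h.trans (orderOf_conj a g ▸ orderOf_dvd_natCard _ hh))

theorem sing {g : G} (hg : p ∣ orderOf g) : ∃ i : ZMod p, i ≠ 0 ∧ IsConj (xp x i) g := by
  obtain ⟨a, ha, b, -, rfl⟩ := mem_classSupp.1 (d.exists_conj_A hg)
  obtain ⟨i, hi, k, hk, rfl⟩ := d.mem_A.1 ha
  rw [mem_bot.1 (hK.le hk), mul_one]
  exact ⟨i, hi, isConj_iff.2 ⟨b, rfl⟩⟩

theorem ord_sing {g : G} (hg : p ∣ orderOf g) : orderOf g = p := by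
  obtain ⟨i, hi, e⟩ := d.sing hK hg
  obtain ⟨a, rfl⟩ := isConj_iff.1 e
  rw [orderOf_conj, orderOf_eq_prime (xp_pow_p d.ord i) fun e => hi ((xp_eq_one d.ord).1 e)]

theorem mem_H {g h : G} (hg : g ∈ 𝐍(zpowers x)) (hh : h ∈ H) (h1 : h ≠ 1)
    (e : g * h * g⁻¹ ∈ H) : g ∈ H := by
  obtain ⟨a, ha, u, hu, rfl⟩ := d.gen g hg
  have h2 : u * h * u⁻¹ * h⁻¹ ∈ H := by
    have := mul_mem (mul_mem (mul_mem (inv_mem ha) e) ha) (inv_mem hh)
    simpa [mul_assoc] using this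
  have h3 : u * h * u⁻¹ * h⁻¹ = 1 := d.eq_one (by
    have := mul_mem hu ((mem_normalizer_iff.1 (d.norm hh) _).1 (inv_mem hu))
    simpa [mul_assoc] using this) h2
  obtain ⟨i, rfl⟩ := exists_xp d.ord hu
  by_cases hi : i = 0
  · rw [hi, xp_zero, mul_one]; exact ha
  · refine absurd ?_ (d.not_C hK hh h1)
    rw [← d.cent_xp hi, mem_centralizer_singleton_iff]
    exact (mul_inv_eq_iff_eq_mul.1 (mul_inv_eq_one.1 h3)).symm

theorem rho_eq {h : G} (hh : h ∈ H) (h1 : h ≠ 1) :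
    Nat.card d.E * rho x h = ♯𝐍(zpowers h) := by
  have h2 : ∀ g, cf1 𝐍(zpowers x) (g * h * g⁻¹) = cfInd 𝐍(zpowers x) H (cf1 H) (g * h * g⁻¹) := by
    intro g
    by_cases hg : g * h * g⁻¹ ∈ 𝐍(zpowers x)
    swap
    · rw [cf1_of_not_mem hg, cfInd_of_not_mem _ _ hg]
    obtain ⟨a, ha, u, hu, e⟩ := d.gen _ hg
    have a1 : a ≠ 1 := fun e' => by
      rw [e', one_mul] at e
      have h3 : orderOf u ∣ ♯H := e ▸ orderOf_conj g h ▸ orderOf_dvd_natCard _ hh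
      refine d.cop (dvd_trans ?_ h3)
      rw [← Nat.card_zpowers, d.zpowers_eq hu fun e' => h1 (conj_eq_one_iff.1 (e.trans e')), d.cardP]
    obtain ⟨i, rfl⟩ := exists_xp d.ord hu
    obtain ⟨b, e'⟩ := d.conj_coset (d.norm ha) (d.not_C hK ha a1) i
    rw [cf1E hg, e, ← e', cfunJ (cfInd_mem_CF _ _ _) (le_normalizer (xp_mem b)), cfInd_eq_self d.norm (cf1_mem_CF _)
      (d.norm ha) fun c hc hc' => cf1_of_not_mem fun h => hc' (inv_mem_iff.1
        (d.mem_H hK (inv_mem hc) ha a1 (by rwa [inv_inv]))), cf1E ha]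
  have h3 := congrFun (cfIndInd' d.norm le_top (cf1_mem_CF H)) h
  rw [cfIndE' _ _ (mem_top h), cfIndE' _ _ (mem_top h), ← Finset.sum_congr rfl fun g _ => h2 g,
    ← cfIndE' _ _ (mem_top h), d.cardH' hK, ← sum_elts_subset (A := 𝐍(zpowers h)) (fun _ _ => mem_top _)
      fun g _ hg => cf1_of_not_mem fun h' => hg ((mem_N_iff (d.H_eq hK ▸ hh)).1 (d.H_eq hK ▸ h')),
    Finset.sum_congr rfl fun g hg => cf1E
      (d.H_eq hK ▸ (mem_N_iff (d.H_eq hK ▸ hh)).2 (mem_elts.1 hg)), sum_elts_const] at h3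
  rw [rho, h3, mul_inv_cancel_left₀ (by exact_mod_cast Nat.card_pos.ne')]
  simp

theorem trick {S : Finset (G → ℂ)} (hS : ∀ θ ∈ S, IsIrr ⊤ θ) {χ : G → ℂ} (hχ : χ ∈ S) {c : ℕ}
    (h1 : ∀ θ ∈ S, θ 1 + ∑ a : (ZMod p)ˣ, θ (xp x (a : ZMod p)) = p * c)
    (h2 : ∀ θ ∈ S, ∀ g, ¬ p ∣ orderOf g → θ g = χ g)
    (h3 : ∑ θ ∈ S, θ 1 = (𝐍(zpowers x)).index) {h : G} (hh : ¬ p ∣ orderOf h) (h0 : h ≠ 1) :
    rho x h * χ h = c * S.card * χ h := by
  have hc := (hS χ hχ).mem_CF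
  have hΦ := fixP_char' (P_normal (x := x)) (hS χ hχ).isChar
  have h4 : ∀ θ ∈ S, ∀ g ∈ H, fixP (zpowers x) 𝐍(zpowers x) θ g =
      fixP (zpowers x) 𝐍(zpowers x) χ g := fun θ hθ g hg => by
    by_cases e : g = 1
    · rw [e, d.fix_one (hS θ hθ).mem_CF (h1 θ hθ), d.fix_one hc (h1 χ hχ)]
    · rw [d.fix_N (hS θ hθ).mem_CF (d.norm hg) (d.not_C hK hg e), d.fix_N hc (d.norm hg)
        (d.not_C hK hg e), h2 θ hθ g fun h => d.cop (h.trans (orderOf_dvd_natCard _ hg))]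
  obtain ⟨m, hm, hm'⟩ := le_norm_of_ab (P := H) (d.H_eq hK ▸ inferInstance) (hΦ.cfRes d.norm)
  rw [dg_of ((cfRes1 _).trans (d.fix_one hc (h1 χ hχ)))] at hm'
  rw [cfdot_cfRes_left, cfdot_cfRes_right] at hm
  have h5 := eq_of_le (hΦ.cfInd le_top) hS (c := c) (fun θ hθ => ⟨m, by
    rw [cfdot_cfInd_left le_top hΦ.mem_CF.1 (hS θ hθ).mem_CF, d.dot_fix (hS θ hθ).mem_CF
      fun g hg i => d.fix_mul hc (d.norm hg) i, ← hm, cfdotE, cfdotE,
      Finset.sum_congr rfl fun g hg => by rw [h4 θ hθ g (mem_elts.1 hg)]], hm'⟩)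
    (by rw [cfInd1 le_top, d.fix_one hc (h1 χ hχ), h3, relIndex_top_right, mul_comm])
  have h6 := congrFun h5 h
  rw [Finset.sum_apply, Finset.sum_congr rfl fun θ hθ => by rw [Pi.smul_apply, h2 θ hθ h hh],
    Finset.sum_const, cfIndE' _ _ (mem_top h)] at h6
  rw [rho, cfIndE' _ _ (mem_top h), mul_assoc, Finset.sum_mul, Finset.sum_congr rfl fun g _ => ?_,
    h6]
  · simp; ring
  by_cases hg : g * h * g⁻¹ ∈ 𝐍(zpowers x)
  · rw [cf1E hg, one_mul, d.fix_N hc hg fun h' => ?_, cfunJ hc (mem_top g)]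
    rw [d.C_eq hK] at h'
    refine hh ?_
    rw [← orderOf_conj g h, ← Nat.card_zpowers, d.zpowers_eq h' fun e => h0 (conj_eq_one_iff.1 e),
      d.cardP]
  · rw [cf1_of_not_mem hg, zero_mul, hΦ.mem_CF.1 _ hg]

theorem dot_N {χ : G → ℂ} (h : IsChar ⊤ χ) {c : ℂ}
    (hc : χ 1 + ∑ a : (ZMod p)ˣ, χ (xp x (a : ZMod p)) = p * c) :
    ∃ m : ℕ, ⟪rho x, χ⟫[⊤] = m ∧
      c + ∑ g ∈ elts (sharp H), χ g = Nat.card d.E * m := by
  classical
  obtain ⟨m, hm⟩ := Cnat_cfdot_char (rho_char (x := x)) h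
  refine ⟨m, hm, ?_⟩
  rw [rho, cfdot_cfInd_left le_top (cf1_mem_CF _).1 h.mem_CF, d.dot_fix h.mem_CF fun g hg i => by
    rw [cf1E (d.norm hg), cf1E (mul_mem (d.norm hg) (le_normalizer (xp_mem i)))],
    ← cfdot_cfRes_left, cfRes_cf1 d.norm, cfdotC, cfdot_cf1r, ← map_natCast (starRingEnd ℂ) m,
    (starRingEnd ℂ).injective.eq_iff, ← Finset.add_sum_erase _ _ (mem_elts.2 (one_mem H)),
    d.fix_one h.mem_CF hc, d.cardH' hK, inv_mul_eq_iff_eq_mul₀ (by exact_mod_cast Nat.card_pos.ne'),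
    show (elts (H : Set G)).erase 1 = elts (sharp H) by ext; simp [mem_sharp, and_comm],
    Finset.sum_congr rfl fun g hg => d.fix_N h.mem_CF (d.norm (mem_elts.1 hg).1)
      (d.not_C hK (mem_elts.1 hg).1 (mem_elts.1 hg).2)] at hm
  exact hm

theorem sum_split {φ : G → ℂ} (h : φ ∈ CF ⊤) :
    ∑ g ∈ elts ((⊤ : Subgroup G) : Set G), φ g = φ 1 + (𝐍(zpowers x)).index *
      ∑ a : (ZMod p)ˣ, φ (xp x (a : ZMod p)) + ∑ g ∈ elts {g | ¬ p ∣ orderOf g ∧ g ≠ 1}, φ g := by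
  classical
  have h1 : elts (classSupp (sharp (zpowers x)) ⊤) = elts {g | p ∣ orderOf g} := by
    ext g
    simp only [mem_elts, mem_classSupp, Set.mem_ofPred_eq]
    refine ⟨?_, fun h => ?_⟩
    · rintro ⟨a, ha, b, -, rfl⟩
      rw [orderOf_conj, ← Nat.card_zpowers, d.zpowers_eq ha.1 ha.2, d.cardP]
    · obtain ⟨i, hi, e⟩ := d.sing hK h
      obtain ⟨a, rfl⟩ := isConj_iff.1 e
      exact ⟨_, ⟨xp_mem i, fun e => hi ((xp_eq_one d.ord).1 e)⟩, a, mem_top a, rfl⟩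
  have h2 : (1 : G) ∈ elts {g : G | ¬ p ∣ orderOf g} := by simpa using hp.out.ne_one
  rw [← d.sum_sharpP, ← sum_TI d.tiP h, h1, add_right_comm,
    show elts {g : G | ¬ p ∣ orderOf g ∧ g ≠ 1} = (elts {g : G | ¬ p ∣ orderOf g}).erase 1 by
      ext; simp [and_comm], Finset.add_sum_erase _ _ h2, add_comm,
    ← Finset.sum_filter_add_sum_filter_not _ fun g => p ∣ orderOf g]
  congr 2 <;> ext <;> simp

omit hK
variable {d} {I : Finset (G → ℂ)} {δ : (G → ℂ) → ℤ} {ξ : d.J → G → ℂ} {δ0 : ℤ}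

namespace Brauer
variable (b : d.Brauer I δ ξ δ0)
include b

theorem sumI {θ : G → ℂ} (h : θ ∈ I) :
    ∑ a : (ZMod p)ˣ, θ (xp x (a : ZMod p)) = (p - 1) * δ θ := by
  rw [(d.deg_facts (b.irrI θ h) (b.DDI h) (b.neI h) (dg_eq (b.irrI θ h).isChar)).1]
  simp [hp.out.one_le]

theorem sumξ (j : d.J) : ∑ a : (ZMod p)ˣ, ξ j (xp x (a : ZMod p)) = Nat.card d.E * δ0 := by
  rw [(d.deg_facts (b.irrξ j) (b.DDξ j) b.neξ (dg_eq (b.irrξ j).isChar)).1]
  simp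

theorem valI' {θ : G → ℂ} (h : θ ∈ I) {i : ZMod p} (hi : i ≠ 0) : θ (xp x i) = δ θ := by
  rw [← b.valI h hi (one_mem K), mul_one]

theorem Xi_val {i : ZMod p} (hi : i ≠ 0) : ∑ j, ξ j (xp x i) = δ0 := by
  classical
  have := sum_units_ψ (Units.mk0 i hi)
  simp only [Units.val_mk0, mul_comm i] at this
  rw [Finset.sum_congr rfl fun j _ => by rw [← mul_one (xp x i), b.valξ j hi (one_mem K)],
    ← Finset.mul_sum, Finset.sum_fiberwise, this]
  ring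

theorem val0 (hK : K = ⊥) {θ : G → ℂ} (hθ : IsIrr ⊤ θ) (h : θ ∉ I) (h' : θ ∉ Set.range ξ)
    {i : ZMod p} (hi : i ≠ 0) : θ (xp x i) = 0 := by
  have := d.fourier hθ.mem_CF hi
  simp only [d.al_eq, b.dot0 hθ h h', zero_mul, Finset.sum_const_zero, mul_zero, TT] at this
  rwa [show elts (K : Set G) = {1} by ext; simp [hK], Finset.sum_singleton, mul_one] at this

theorem γ_zero {θ : G → ℂ} (h : θ ∈ I) (e : δ θ = -1) (h1 : dg θ = p - 1) {g : G}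
    (hg : g ∈ 𝐍(zpowers x)) (hg' : g ∉ 𝐂[x]) : θ g = 0 :=
  d.val_zero (b.irrI θ h).isChar (by
    rw [b.sumI h, dg_eq (b.irrI θ h).isChar, h1, e]; simp [hp.out.one_le]) hg hg'

variable (hK : K = ⊥) {r : ℕ} (hn : (𝐍(zpowers x)).index = 1 + r * p)
include hK hn

theorem trickI {θ : G → ℂ} (h : θ ∈ I) (e : δ θ = 1) (h1 : dg θ = 1 + r * p) {g : G}
    (hg : ¬ p ∣ orderOf g) (h0 : g ≠ 1) (h2 : θ g ≠ 0) : rho x g = r + 1 := by
  have h3 := dg_eq (b.irrI θ h).isChar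
  have := d.trick hK (S := {θ}) (χ := θ) (c := r + 1) (by simpa using b.irrI θ h) (by simp)
    (by simp only [Finset.mem_singleton, forall_eq, b.sumI h, h3, h1, e]; push_cast; ring) (by simp)
    (by simp [h3, h1, hn]) hg h0
  simpa [h2] using this

theorem trickξ (e : δ0 = 1) (h1 : Nat.card d.J * dg (ξ 1) = 1 + r * p) {g : G}
    (hg : ¬ p ∣ orderOf g) (h0 : g ≠ 1) (h2 : ξ 1 g ≠ 0) : rho x g = r + 1 := by
  classical
  obtain ⟨m, hm⟩ : p ∣ dg (ξ 1) + Nat.card d.E := by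
    have := (b.degξ 1 (dg_eq (b.irrξ 1).isChar)).2.1
    rw [e, mul_one] at this; exact_mod_cast this
  have h3 : m * Nat.card d.J = r + 1 := by
    apply Nat.eq_of_mul_eq_mul_left hp.out.pos
    have := d.e_mul_t
    have := hp.out.pos
    rw [← mul_assoc, ← hm, add_mul, mul_comm (dg _), h1, d.e_mul_t, mul_add, mul_comm p]; omega
  have h4 : ∀ j, ξ j 1 = dg (ξ 1) := fun j => by rw [dg_eq (b.irrξ j).isChar, b.dgξ j 1]
  have := d.trick hK (S := Finset.univ.image ξ) (χ := ξ 1) (c := m) (by simpa using b.irrξ)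
    (by simp) (by
      simp only [Finset.mem_image, Finset.mem_univ, true_and, forall_exists_index,
        forall_apply_eq_imp_iff, b.sumξ, h4, e, Int.cast_one, mul_one]
      intro; exact_mod_cast hm)
    (by simpa using fun j g hg => b.ξ_reg j 1 hg)
    (by
      rw [Finset.sum_image fun _ _ _ _ e => b.inj e, hn, ← h1]
      simp [h4]) hg h0
  rw [Finset.card_image_of_injective _ b.inj, Finset.card_univ, ← Nat.card_eq_fintype_card,
    ← Nat.cast_mul, h3] at this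
  simpa [h2] using this

end Brauer
end Dat
end Cfsg.Agent.BR
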