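import Cfsg.Agent.Lib.BR.CaseB
import Cfsg.Agent.Lib.ODD.Zass

/-!
# The case of `p + 1` Sylow subgroups
-/

set_option autoImplicit false

namespace Cfsg.Agent.BR

open Subgroup Cfsg.Agent.OO
open scoped ComplexConjugate Pointwise MatrixGroups

universe u

variable {G : Type u} [Group G] [Finite G] {p : ℕ} [hp : Fact p.Prime] {x y : G} {K H : Subgroup G}

omit hp in
theorem zpowers_eq_of_prime {k w : G} {l : ℕ} (hl : l.Prime) (hk : orderOf k = l)
    (hw : w ∈ zpowers k) (w1 : w ≠ 1) : zpowers w = zpowers k := by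
  refine eq_of_le_of_card_ge (zpowers_le.2 hw) (le_of_eq ?_)
  have := orderOf_dvd_natCard _ hw
  rw [Nat.card_zpowers, hk] at this
  rw [Nat.card_zpowers, Nat.card_zpowers, hk,
    ((Nat.dvd_prime hl).1 this).resolve_left fun e => w1 (orderOf_eq_one_iff.1 e)]

omit hp in
theorem exists_prime_pow {g : G} (g1 : g ≠ 1) : ∃ w ∈ zpowers g, (orderOf w).Prime := by
  obtain ⟨l, hl, hl'⟩ := Nat.exists_prime_and_dvd fun e => g1 (orderOf_eq_one_iff.1 e)
  exact ⟨_, npow_mem_zpowers _ _, (orderOf_pow_orderOf_div (orderOf_pos g).ne' hl').symm ▸ hl⟩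

omit hp in
open scoped IsMulCommutative in
theorem NS.not_le_C (s : NS G) {k : G} (hk : (orderOf k).Prime) (hy : k ∈ zpowers y)
    (hc : ¬ orderOf k ∣ (zpowers y).index) : ¬ 𝐍(zpowers k) ≤ 𝐂[k] := fun h => by
  have h1 := MonoidHom.transfer_eq_pow (MonoidHom.id (zpowers y)) k fun j g hg => by
    by_cases e : k ^ j = 1
    · simp [e]
    have h2 := (mem_N_iff (g := g⁻¹) (pow_mem hy j)).1 (by rwa [inv_inv])
    rw [zpowers_eq_of_prime hk rfl (npow_mem_zpowers k j) e] at h2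
    have h3 : Commute g⁻¹ k := mem_centralizer_singleton_iff.1 (h h2)
    rw [(h3.pow_right j).eq, inv_mul_cancel_right]
  generalize MonoidHom.transfer (MonoidHom.id (zpowers y)) = f at h1
  rcases s.simple.eq_bot_or_eq_top_of_normal f.ker inferInstance with e | e
  · exact s.nc ⟨⟨fun a b => (MonoidHom.ker_eq_bot_iff f).1 e (by rw [map_mul, map_mul, mul_comm])⟩⟩
  · rw [MonoidHom.mem_ker.1 (e.ge (mem_top k))] at h1
    exact hc (orderOf_dvd_of_pow_eq_one (congrArg Subtype.val h1).symm)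

namespace Dat
variable (d : Dat p x y K H) (hK : K = ⊥)
include d hK

theorem cardN_le {r : ℕ} (hn : (𝐍(zpowers x)).index = 1 + r * p) {w : G} (wH : w ∈ H)
    (w1 : w ≠ 1) : ♯𝐍(zpowers w) ≤ Nat.card d.E * (r + 1) := by
  have := d.rho_le hn (d.norm wH) (d.not_C hK wH w1)
  have := mul_le_mul_of_nonneg_left this (Nat.cast_nonneg (Nat.card d.E))
  rw [← Complex.norm_natCast, ← norm_mul, d.rho_eq hK wH w1, Complex.norm_natCast,
    Complex.norm_natCast] at this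
  exact_mod_cast this

omit [Finite G] hp in
theorem H_le_C {w : G} (wH : w ∈ H) : H ≤ 𝐂[w] := fun u hu => by
  rw [d.H_eq hK] at hu wH
  obtain ⟨i, rfl⟩ := hu
  obtain ⟨j, rfl⟩ := wH
  exact mem_centralizer_singleton_iff.2 (zpow_mul_comm y i j)

theorem exists_w (s : NS G) (hn : (𝐍(zpowers x)).index = 1 + 1 * p) (ho : Odd (Nat.card d.E))
    (h2 : 2 ≤ Nat.card d.E) : ∃ w, w ∉ H ∧ w * w = 1 ∧ w * y * w = y⁻¹ := by
  have hH := d.cardH' hK
  have h1 : ∀ k ∈ H, (orderOf k).Prime → ¬ 𝐍(zpowers k) ≤ 𝐂[k] := fun k hk hl => by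
    refine s.not_le_C hl (d.H_eq hK ▸ hk) fun h => ?_
    have i1 := H.card_mul_index
    rw [d.cardG' hK, hH, hn, mul_left_comm, Nat.mul_right_inj (by omega)] at i1
    have i2 := hH ▸ orderOf_dvd_natCard _ hk
    have i3 := d.e_mul_t ▸ i2.mul_right (Nat.card d.J)
    rw [← d.H_eq hK, i1] at h
    have := hp.out.one_le
    rcases hl.dvd_mul.1 h with h | h
    · exact hl.not_dvd_one (by simpa [Nat.sub_sub_self this] using Nat.dvd_sub h i3)
    · have i4 := Nat.dvd_sub h i3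
      rw [show 1 + 1 * p - (p - 1) = 2 by omega, Nat.prime_dvd_prime_iff_eq hl Nat.prime_two] at i4
      exact Nat.not_even_iff_odd.2 ho (even_iff_two_dvd.2 (i4 ▸ i2))
  have h3 : ∀ L : Subgroup G, H ≤ L → ¬ L ≤ H → Nat.card d.E * 2 ≤ ♯L := fun L i1 i2 => by
    rw [← Core.card_mul_relIndex_of_le i1, hH]
    have : H.relIndex L ≠ 0 := FiniteIndex.index_ne_zero
    have : H.relIndex L ≠ 1 := fun e => i2 (relIndex_eq_one.1 e)
    exact Nat.mul_le_mul_left _ (by omega)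
  have y1 : y ≠ 1 := fun e => by
    have := (d.orderOf_y hK).symm.trans (orderOf_eq_one_iff.2 e); omega
  have i0 : ∀ k : G, (orderOf k).Prime → k ≠ 1 := fun k hk e =>
    hk.ne_one (orderOf_eq_one_iff.2 e)
  obtain ⟨k, hk, hl⟩ := exists_prime_pow y1
  rw [← d.H_eq hK] at hk
  have i1 := (d.H_le_C hK hk).trans C_le_N
  have i2 := (d.cardN_le hK hn hk (i0 k hl)).antisymm
    (h3 _ i1 fun h => h1 k hk hl (h.trans (d.H_le_C hK hk)))
  obtain ⟨⟨w, hw⟩, ho'⟩ := exists_prime_orderOf_dvd_card' (G := 𝐍(zpowers k)) 2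
    (i2 ▸ dvd_mul_left _ _)
  rw [← orderOf_coe] at ho'
  have w2 : w * w = 1 := (sq w).symm.trans (orderOf_dvd_iff_pow_eq_one.1 ho'.dvd)
  have wH : w ∉ H := fun h => Nat.not_even_iff_odd.2 ho
    (even_iff_two_dvd.2 (hH ▸ ho' ▸ orderOf_dvd_natCard _ h))
  have i3 : H.relIndex 𝐍(zpowers k) = 2 := by
    have := Core.card_mul_relIndex_of_le i1
    rw [i2, hH] at this
    exact Nat.eq_of_mul_eq_mul_left (by omega) this
  have i4 := (normal_subgroupOf_iff_le_normalizer i1).1 (normal_of_index_eq_two i3)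
  refine ⟨w, wH, w2, ?_⟩
  rw [← Frob.conj_eq_inv_of_fpf w2 (i4 hw) (fun a ha e => by_contra fun a1 => ?_) d.yH,
    inv_eq_of_mul_eq_one_right w2]
  obtain ⟨b, hb, hb'⟩ := exists_prime_pow a1
  have bH := zpowers_le.2 ha hb
  refine h1 b bH hb' (eq_of_le_of_card_ge C_le_N ((d.cardN_le hK hn bH (i0 b hb')).trans
    (h3 _ (d.H_le_C hK bH) fun h => wH (h ?_)))).ge
  obtain ⟨i, rfl⟩ := hb
  exact mem_centralizer_singleton_iff.2 (Commute.zpow_right e i)

theorem psl2 (hn : (𝐍(zpowers x)).index = 1 + 1 * p) (ht : Nat.card d.J = 2)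
    (h2 : 2 ≤ Nat.card d.E) {w : G} (wH : w ∉ H) (w2 : w * w = 1) (hw : w * y * w = y⁻¹) :
    ∃ (F : Type) (_ : Field F) (_ : Fintype F), Fintype.card F = p ∧ Nonempty (G ≃* PSL(2, F)) := by
  have h1 := d.e_mul_t
  have h3 : p = 2 * Nat.card d.E + 1 := by rw [ht] at h1; omega
  have w' := inv_eq_of_mul_eq_one_right w2
  have y1 : y ≠ 1 := fun e => by
    have := (d.orderOf_y hK).symm.trans (orderOf_eq_one_iff.2 e); omega
  have h : ODD.Data (zpowers x) (Nat.card d.E) :=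
    ⟨by omega, by rw [d.cardG' hK, hn, ← h3, show 2 * Nat.card d.E + 2 = 1 + 1 * p by omega],
      d.cardP.trans h3, fun u hu u1 g => by
        obtain ⟨i, rfl⟩ := exists_xp d.ord hu
        rw [← mem_centralizer_singleton_iff, d.cent_xp fun e => u1 (by rw [e, xp_zero]), d.C_eq hK],
      by omega⟩
  have wN : w ∉ 𝐍(zpowers x) := fun h =>
    wH (d.mem_H hK h d.yH y1 (by rw [w', hw]; exact inv_mem d.yH))
  have h4 : ∀ τ ∈ H, w * τ * w⁻¹ = τ⁻¹ := fun τ hτ => by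
    obtain ⟨i, rfl⟩ := d.H_eq hK ▸ hτ
    rw [← conj_zpow, w', hw, inv_zpow]
  have h5 : H = BSW.Kt (zpowers x) w := eq_of_le_of_card_ge
    (fun τ hτ => BSW.mem_Kt.2 ⟨d.norm hτ, (h4 τ hτ).symm ▸ d.norm (inv_mem hτ)⟩)
    ((h.card_T w2 wN).trans (d.cardH' hK).symm).le
  rw [h3]
  refine ODD.Zas.main (P := zpowers x) (T := BSW.Kt (zpowers x) w) (w := w)
    ⟨fun _ hx _ hy => h.ab hx hy, h.cardP, h.card_T w2 wN, h.m_pos, fun _ hτ => hτ.1,
      fun τ hτ u hu e => or_iff_not_imp_right.2 fun u1 =>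
        h.eq_one_of_mem w2 wN hτ ((h.cc u hu u1 τ).1 e), w2, wN, fun τ hτ => ?_,
      fun _ hb => h.decomp w2 wN hb, fun g hg => ?_, fun _ hx e => h.uniq w2 wN hx e⟩
  · rw [← h4 τ (h5 ▸ hτ), ← mul_assoc, ← mul_assoc, w2, one_mul, w']
  · obtain ⟨u, hu, e⟩ := (h.cosets w2 wN).2 g hg
    obtain ⟨v, hv, τ, hτ, e⟩ := h.decomp w2 wN e
    refine ⟨u, hu, τ, hτ, τ⁻¹ * v * τ⁻¹⁻¹, (mem_normalizer_iff.1 (inv_mem hτ.1) v).1 hv, ?_⟩
    calc g = u * (w * w) * u⁻¹ * g := by rw [w2]; group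
      _ = u * w * (w * u⁻¹ * g) := by group
      _ = _ := by rw [e]; group

end Dat
end Cfsg.Agent.BR
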