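import Cfsg.Agent.Lib.BR.L3A
import Cfsg.Agent.Lib.BR.R1
import Cfsg.Agent.Lib.Coprime.RankTwo
import Cfsg.Agent.Lib.Coprime.FixTools
import Cfsg.Agent.Lib.Cls.Basic

/-!
# The group of order `5616`: a subgroup of index `13`
-/

set_option autoImplicit false

namespace Cfsg.Agent.BR

open Subgroup Cfsg.Agent.OO MulAction
open scoped Pointwise

universe u

variable {G : Type u} [Group G] [Finite G] {x y z : G} {Q : Subgroup G}

/-- `z` generates the center of the Sylow `3`-subgroup `Q` -/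
structure Ctr (Q : Subgroup G) (z : G) : Prop where
  card : ♯Q = 27
  oz : orderOf z = 3
  zQ : z ∈ Q
  le : Q ≤ 𝐂[z]
  cent : ∀ g, g ^ 27 = 1 → Q ≤ 𝐂[g] → g ∈ zpowers z
  comm : ∀ a ∈ Q, ∀ b ∈ Q, a * b * a⁻¹ * b⁻¹ ∈ zpowers z

omit [Finite G] in
theorem pow27 (hQ : ♯Q = 27) {g : G} (hg : g ∈ Q) : g ^ 27 = 1 :=
  orderOf_dvd_iff_pow_eq_one.1 (hQ ▸ orderOf_dvd_natCard _ hg)

omit [Finite G] in
theorem conj_A3 {g : G} (hg : g ∈ A3 y) (u : G) : u * g * u⁻¹ ∈ A3 y :=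
  ⟨⟨fun e => hg.1.1 (conj_eq_one_iff.1 e), by rw [_root_.conj_pow, hg.1.2]; simp⟩,
    fun ⟨a, ha, v, _, e⟩ => hg.2 ⟨a, ha, u⁻¹ * v, mem_top _, by
      rw [mul_inv_rev, inv_inv, ← mul_assoc, mul_assoc u⁻¹, mul_assoc u⁻¹, ← e]; group⟩⟩

namespace Ctr
variable (c : Ctr Q z)
include c

omit [Finite G] in
theorem ne_one : z ≠ 1 := fun e => by have := c.oz; rw [e, orderOf_one] at this; omega

omit [Finite G] in
theorem le_N {E : Subgroup G} [Finite E] (h1 : z ∈ E) (h2 : E ≤ Q) : Q ≤ 𝐍(E) := fun q hq =>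
  mem_normalizer_fintype fun a ha => by
    simpa using mul_mem (zpowers_le.2 h1 (c.comm q hq a (h2 ha))) ha

theorem exists_conj {e w : G} (he : e ∈ Q) (he' : e ∉ zpowers z) (hw : w ∈ zpowers z) :
    ∃ q ∈ Q, q * e * q⁻¹ = w * e := by
  obtain ⟨q, hq, h1⟩ := SetLike.not_le_iff_exists.1 fun h => he' (c.cent e (pow27 c.card he) h)
  have h2 := c.comm q hq e he
  rw [← zpowers_eq_of_prime Nat.prime_three c.oz h2 fun e' => h1
    (mem_centralizer_singleton_iff.2 (mul_inv_eq_iff_eq_mul.1 (mul_inv_eq_one.1 e'))),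
    ← mem_powers_iff_mem_zpowers] at hw
  obtain ⟨k, rfl⟩ := hw
  have h3 : Commute q (q * e * q⁻¹ * e⁻¹) := by
    obtain ⟨i, hi⟩ := h2
    exact hi ▸ Commute.zpow_right (mem_centralizer_singleton_iff.1 (c.le hq)) i
  refine ⟨q ^ k, pow_mem hq k, ?_⟩
  dsimp only
  induction k with
  | zero => simp
  | succ k ih =>
    calc _ = q * (q ^ k * e * (q ^ k)⁻¹) * q⁻¹ := by rw [pow_succ']; group
      _ = _ := by rw [ih, ← mul_assoc, (h3.pow_right k).eq, pow_succ]; group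

theorem card_eq {E : Subgroup G} {e : G} (h1 : z ∈ E) (h2 : e ∈ E) (he : e ∉ zpowers z)
    (h3 : E ≤ Q ⊓ 𝐂[e]) : ♯E = 9 ∧ E = Q ⊓ 𝐂[e] := by
  have key : ∀ E : Subgroup G, z ∈ E → e ∈ E → E ≤ Q ⊓ 𝐂[e] → ♯E = 9 := fun E h1 h2 h3 => by
    have i1 := h3.trans inf_le_left
    obtain ⟨k, i2, i3⟩ := (Nat.dvd_prime_pow (m := 3) Nat.prime_three).1
      (c.card ▸ card_dvd_of_le i1 :)
    have i4 : ¬ ♯E ≤ 3 := fun h => he (eq_of_le_of_card_ge (zpowers_le.2 h1)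
      (by rwa [Nat.card_zpowers, c.oz]) ▸ h2)
    have i5 : ¬ 27 ≤ ♯E := fun h => he (c.cent e (pow27 c.card (i1 h2))
      ((eq_of_le_of_card_ge i1 (c.card ▸ h)).ge.trans (h3.trans inf_le_right)))
    rw [i3] at i4 i5 ⊢
    interval_cases k <;> simp_all
  exact ⟨key E h1 h2 h3, eq_of_le_of_card_ge h3
    ((key _ (h3 h1) (h3 h2) le_rfl).trans (key E h1 h2 h3).symm).le⟩

end Ctr

namespace L3
variable (h : L3 x y)
include h

omit [Finite G] in
theorem mem_A {g : G} (g1 : g ≠ 1) (hg : g ^ 27 = 1) (hc : 9 < ♯𝐂[g]) : g ∈ A3 y :=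
  ⟨⟨g1, hg⟩, fun ⟨a, ha, u, _, e⟩ => by
    rw [e, Cls.centralizer_single_conj, card_map_of_injective (MulAut.conj u).injective, ha] at hc
    exact hc.not_ge h.cy⟩

theorem not13 {V : Subgroup G} (h1 : ♯V ∣ 27) (h2 : ¬ ♯V ≡ 1 [MOD 13]) : ¬ 13 ∣ ♯𝐍(V) := fun e => by
  have := Fact.mk (by norm_num : Nat.Prime 13)
  obtain ⟨⟨u, hu⟩, ho⟩ := exists_prime_orderOf_dvd_card' 13 e
  rw [← orderOf_coe] at ho
  refine h2 (Coprime.card_modEq_one_of_fpf (IsPGroup.of_card (n := 1)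
    (by rw [Nat.card_zpowers, ho]; rfl)) hu (eq_bot_iff.2 fun g hg => ?_))
  have i1 := Commute.orderOf_mul_eq_mul_orderOf_of_coprime (mem_centralizer_singleton_iff.1 hg.2)
    (ho ▸ Nat.Coprime.coprime_dvd_left ((orderOf_dvd_natCard _ hg.1).trans h1) (by norm_num))
  rw [h.sing _ (by rw [i1, ho]; exact dvd_mul_left _ _), ho] at i1
  exact orderOf_eq_one_iff.1 (by omega)

theorem dvd27 {R : Subgroup G} (hR : IsPGroup 3 R) : ♯R ∣ 27 := by
  have := Fact.mk Nat.prime_three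
  obtain ⟨k, hk⟩ := IsPGroup.iff_card.1 hR
  have := card_subgroup_dvd_card R
  rw [hk, h.card] at this
  exact hk ▸ (Nat.Coprime.pow_left k (by norm_num : Nat.Coprime 3 208)).dvd_of_dvd_mul_right this

theorem exists_le {L R : Subgroup G} (hL : 27 ∣ ♯L) (hR : IsPGroup 3 R) (hle : R ≤ L) :
    ∃ Q, ♯Q = 27 ∧ R ≤ Q ∧ Q ≤ L := by
  have := Fact.mk Nat.prime_three
  obtain ⟨S, hS⟩ := Core.exists_le_map_sylow hR hle
  refine ⟨_, Nat.dvd_antisymm (h.dvd27 (S.2.map _)) ?_, hS, map_subtype_le _⟩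
  rw [card_map_of_injective (subtype_injective _)]
  exact ((Nat.prime_three.coprime_iff_not_dvd.2 S.not_dvd_index).pow_left 3).dvd_of_dvd_mul_right
    ((S : Subgroup L).card_mul_index ▸ hL)

theorem ctr (hQ : ♯Q = 27) (zQ : z ∈ Q) (z1 : z ≠ 1) (hz : Q ≤ 𝐂[z]) : Ctr Q z := by
  have := Fact.mk Nat.prime_three
  obtain ⟨w, ⟨wQ, w1⟩, hw⟩ : ∃ w ∈ sharp Q, w ∉ A3 y := Set.not_subset.1 fun e => by
    have := Set.ncard_le_ncard (Set.subset_inter (sharp_subset_coe Q) e)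
    rw [ncard_sharp, hQ] at this
    have := (h.res Q hQ).2
    omega
  have h1 : ♯𝐂[w] ≤ 9 := not_lt.1 fun e => hw (h.mem_A w1 (pow27 hQ wQ) e)
  have h2 : Q ⊓ 𝐂(Q) ≤ 𝐂[w] := fun g hg =>
    mem_centralizer_singleton_iff.2 (mem_centralizer_iff.1 hg.2 w wQ).symm
  have h3 : ♯(Q ⊓ 𝐂(Q)) ≤ 3 := by
    obtain ⟨k, i2, i3⟩ := (Nat.dvd_prime_pow (m := 3) Nat.prime_three).1
      (hQ ▸ card_dvd_of_le (inf_le_left : Q ⊓ 𝐂(Q) ≤ Q) :)
    have i4 : ¬ 9 ≤ ♯(Q ⊓ 𝐂(Q)) := fun e => by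
      have i5 := (eq_of_le_of_card_ge h2 (h1.trans e)).ge (mem_centralizer_singleton_iff.2 rfl)
      have := card_le_of_le fun g (hg : g ∈ Q) =>
        (mem_centralizer_singleton_iff.2 (mem_centralizer_iff.1 i5.2 g hg) : g ∈ 𝐂[w])
      omega
    rw [i3] at i4 ⊢
    interval_cases k <;> simp_all
  have h4 : ∀ g ∈ Q, Q ≤ 𝐂[g] → g ∈ Q ⊓ 𝐂(Q) := fun g i1 i2 =>
    ⟨i1, mem_centralizer_iff.2 fun a ha => mem_centralizer_singleton_iff.1 (i2 ha)⟩
  have h5 := zpowers_le.2 (h4 z zQ hz)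
  have oz : orderOf z = 3 := by
    have := (card_le_of_le h5).trans h3
    rw [Nat.card_zpowers] at this
    have i1 := orderOf_dvd_of_pow_eq_one (pow27 hQ zQ)
    have i2 : orderOf z ≠ 1 := fun e => z1 (orderOf_eq_one_iff.1 e)
    interval_cases orderOf z <;> simp_all
  have h6 := eq_of_le_of_card_ge h5 (by rwa [Nat.card_zpowers, oz])
  refine ⟨hQ, oz, zQ, hz, fun g i1 i2 => h6 ▸ h4 g ?_ i2, fun a ha b hb => ?_⟩
  · have hP : IsPGroup 3 Q := IsPGroup.of_card (n := 3) hQ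
    refine zpowers_le.1 (Core.le_sylow_of_le_normalizer (p := 3) (IsPGroup.of_card_dvd_pow (n := 3)
      (by rw [Nat.card_zpowers]; exact orderOf_dvd_of_pow_eq_one i1)) (hP.toSylow ?_)
      (zpowers_le.2 (centralizer_le_normalizer Q (mem_centralizer_iff.2 fun a ha =>
        mem_centralizer_singleton_iff.1 (i2 ha)))))
    have := Q.card_mul_index
    rw [hQ, h.card] at this
    omega
  · have := (normal_subgroupOf_iff_le_normalizer (zpowers_le.2 zQ)).2 (hz.trans C_le_N)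
    have i1 := Core.card_mul_relIndex_of_le (zpowers_le.2 zQ)
    rw [Nat.card_zpowers, oz, hQ] at i1
    have i2 := IsPGroup.isMulCommutative_of_card_eq_prime_sq (p := 3)
      (G := Q ⧸ (zpowers z).subgroupOf Q) (show (zpowers z).relIndex Q = _ by omega)
    refine (QuotientGroup.eq_one_iff (N := (zpowers z).subgroupOf Q)
      (⟨a, ha⟩ * ⟨b, hb⟩ * ⟨a, ha⟩⁻¹ * ⟨b, hb⟩⁻¹)).1 ?_
    simp only [QuotientGroup.mk_mul, QuotientGroup.mk_inv]
    rw [i2.1.1 (QuotientGroup.mk _) (QuotientGroup.mk _)]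
    group

theorem exists_ctr : ∃ Q z, Ctr Q z ∧ y ∈ Q := by
  have := Fact.mk Nat.prime_three
  obtain ⟨Q, h1, h2, -⟩ := h.exists_le (L := ⊤) (R := zpowers y) (by rw [card_top, h.card]; norm_num)
    (IsPGroup.of_card (n := 1) (by rw [Nat.card_zpowers, h.oy]; rfl)) le_top
  have : Nontrivial Q := Finite.one_lt_card_iff_nontrivial.1 (by omega)
  obtain ⟨⟨z, zQ⟩, hz, z1⟩ := (bot_or_exists_ne_one _).resolve_left
    (IsPGroup.of_card (p := 3) (n := 3) h1).bot_lt_center.ne'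
  exact ⟨Q, z, h.ctr h1 zQ (fun e => z1 (Subtype.ext e)) fun g hg => mem_centralizer_singleton_iff.2
    (congrArg Subtype.val (mem_center_iff.1 hz ⟨g, hg⟩)), zpowers_le.1 h2⟩

theorem ctr_A (c : Ctr Q z) {w : G} (hw : w ∈ zpowers z) (w1 : w ≠ 1) :
    27 ∣ ♯𝐂[w] ∧ w ∈ A3 y := by
  have h1 : 27 ∣ ♯𝐂[w] := c.card ▸ card_dvd_of_le fun g hg => by
    obtain ⟨i, rfl⟩ := hw
    exact mem_centralizer_singleton_iff.2
      (Commute.zpow_right (mem_centralizer_singleton_iff.1 (c.le hg)) i)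
  exact ⟨h1, h.mem_A w1 (pow27 c.card (zpowers_le.2 c.zQ hw))
    ((Nat.le_of_dvd Nat.card_pos h1).trans_lt' (by norm_num))⟩

theorem exists_index : ∃ M : Subgroup G, M.index = 13 := by
  have := Fact.mk Nat.prime_three
  obtain ⟨Q, z, c, -⟩ := h.exists_ctr
  have hZ : ♯(zpowers z) = 3 := by rw [Nat.card_zpowers, c.oz]
  have h1 := BSW.ncard_classSupp_of_cc (A := zpowers z) (fun e => by simp [e] at hZ)
    fun w hw w1 g hg => zpowers_eq_of_prime Nat.prime_three c.oz hw w1 ▸ (mem_N_iff hw).1 hg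
  have h2 : classSupp (sharp (zpowers z)) ⊤ ⊆ A3 y := by
    rintro _ ⟨w, hw, u, -, rfl⟩
    exact conj_A3 (h.ctr_A c hw.1 hw.2).2 u
  have h3 := Set.ncard_le_ncard h2
  have h4 := Coprime.ncard_modEq_of_invariant (P := Q.map (MulAut.conj : G →* MulAut G))
    ((IsPGroup.of_card (p := 3) (n := 3) c.card).map _) (S := classSupp (sharp (zpowers z)) ⊤) (by
      rintro _ ⟨a, -, rfl⟩ _ ⟨w, hw, u, -, rfl⟩
      exact ⟨w, hw, a * u, mem_top _, by simp [mul_assoc]⟩)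
  rw [show {w ∈ classSupp (sharp (zpowers z)) ⊤ | ∀ a ∈ Q.map (MulAut.conj : G →* MulAut G),
      a • w = w} = sharp (zpowers z) from Set.ext fun w => ⟨fun hw => ⟨c.cent w (h2 hw.1).1.2
      fun a ha => mem_centralizer_singleton_iff.2 (mul_inv_eq_iff_eq_mul.1 (hw.2 _ ⟨a, ha, rfl⟩)),
      (h2 hw.1).1.1⟩, fun hw => ⟨subset_classSupp _ _ hw, by
        rintro _ ⟨a, ha, rfl⟩
        obtain ⟨i, rfl⟩ := hw.1
        exact mul_inv_eq_iff_eq_mul.2
          (Commute.zpow_right (mem_centralizer_singleton_iff.1 (c.le ha)) i)⟩⟩,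
    ncard_sharp, h1, hZ] at h4
  have h5 := (𝐍(zpowers z)).card_mul_index
  obtain ⟨n, hn⟩ := c.card ▸ card_dvd_of_le (c.le.trans C_le_N)
  have h6 := h.not13 (V := zpowers z) (by rw [hZ]; norm_num) (by rw [hZ]; decide)
  rw [h.card] at h5
  obtain ⟨m, hm⟩ := ((by norm_num : Nat.Prime 13).dvd_mul.1 (Dvd.intro 432 h5.symm)).resolve_left h6
  by_cases m1 : m = 1
  · exact ⟨_, by rw [hm, m1]⟩
  rw [h1, hZ, h.cA, hm] at h3
  obtain rfl : m = 4 := by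
    rw [hm] at h4
    have : m ≤ 4 := by omega
    interval_cases m <;> simp_all [Nat.ModEq]
  have h7 := Set.eq_of_subset_of_ncard_le h2 (by rw [h1, hZ, h.cA, hm])
  obtain ⟨e, ⟨eQ, eA⟩, he⟩ : ∃ e ∈ (Q : Set G) ∩ A3 y, e ∉ sharp (zpowers z) :=
    Set.not_subset.1 fun e => by
      have := Set.ncard_le_ncard e
      rw [ncard_sharp, hZ] at this
      exact (h.res Q c.card).1.not_ge this
  replace he : e ∉ zpowers z := fun i => he ⟨i, eA.1.1⟩
  have ez : Commute e z := mem_centralizer_singleton_iff.1 (c.le eQ)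
  obtain ⟨Q', i1, i2, i3⟩ := h.exists_le (L := 𝐂[e]) (R := zpowers z) (by
    obtain ⟨w, hw, u, -, rfl⟩ := h7.ge eA
    rw [Cls.centralizer_single_conj, card_map_of_injective (MulAut.conj u).injective]
    exact (h.ctr_A c hw.1 hw.2).1) (IsPGroup.of_card (n := 1) hZ)
    (zpowers_le.2 (mem_centralizer_singleton_iff.2 ez.symm))
  have zQ := zpowers_le.1 i2
  have eQ' : e ∈ Q' := by
    obtain ⟨w, i4, i5⟩ := (bot_or_exists_ne_one _).resolve_left
      (have : Nontrivial Q' := Finite.one_lt_card_iff_nontrivial.1 (by omega)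
       (IsPGroup.of_card (p := 3) (n := 3) i1).bot_lt_center.ne')
    exact zpowers_le.2 w.2 ((h.ctr i1 w.2 (fun e => i5 (Subtype.ext e)) fun g hg =>
      mem_centralizer_singleton_iff.2 (congrArg Subtype.val (mem_center_iff.1 i4 ⟨g, hg⟩))).cent
        e eA.1.2 i3)
  have c' := h.ctr i1 eQ' eA.1.1 i3
  have hz : z ∉ zpowers e := fun i =>
    he (zpowers_eq_of_prime Nat.prime_three c'.oz i c.ne_one ▸ mem_zpowers e)
  obtain ⟨E, hE⟩ : ∃ E, E = zpowers z ⊔ zpowers e := ⟨_, rfl⟩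
  have zE : z ∈ E := hE ▸ mem_sup_left (mem_zpowers z)
  have eE : e ∈ E := hE ▸ mem_sup_right (mem_zpowers e)
  obtain ⟨j1, j2⟩ := c.card_eq zE eE he (hE ▸ sup_le (zpowers_le.2 ⟨c.zQ, i3 zQ⟩)
    (zpowers_le.2 ⟨eQ, i3 eQ'⟩))
  have j3 := c.le_N zE (j2 ▸ inf_le_left)
  have j4 := c'.le_N eE (hE ▸ sup_le i2 (zpowers_le.2 eQ'))
  have k1 : ∀ a ∈ classSupp {z} 𝐍(E), ∀ q ∈ 𝐍(E), q * a * q⁻¹ ∈ classSupp {z} 𝐍(E) := by
    rintro _ ⟨a, ha, u, hu, rfl⟩ q hq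
    exact ⟨a, ha, q * u, mul_mem hq hu, by group⟩
  have k2 : ∀ a ∈ classSupp {z} 𝐍(E), a ∈ Q' → a ∉ zpowers e → ∀ w ∈ zpowers e,
      w * a ∈ classSupp {z} 𝐍(E) := fun a ha l1 l2 w hw => by
    obtain ⟨q, hq, l3⟩ := c'.exists_conj l1 l2 hw
    exact l3 ▸ k1 a ha q (j4 hq)
  have k3 := k2 z (subset_classSupp _ _ rfl) zQ hz
  have k4 : z * (e * z) ∈ classSupp {z} 𝐍(E) := by
    obtain ⟨q, hq, l3⟩ := c.exists_conj (mul_mem eQ c.zQ)
      (by rwa [mul_mem_cancel_right (mem_zpowers z)]) (mem_zpowers z)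
    exact l3 ▸ k1 _ (k3 e (mem_zpowers e)) q (j3 hq)
  have z3 : z * z * z = 1 := by rw [← pow_three', ← c.oz, pow_orderOf_eq_one]
  have k5 : z * (e * z) = e * z⁻¹ := by
    rw [← mul_assoc, ← ez.eq, mul_assoc, eq_inv_of_mul_eq_one_left z3]
  rw [k5] at k4
  replace k4 := k2 _ k4 (mul_mem eQ' (inv_mem zQ))
    (by rwa [mul_mem_cancel_left (mem_zpowers e), inv_mem_iff])
  have k6 : ♯𝐂[z] = 54 := by
    obtain ⟨_, l0, u, -, l1⟩ := k4 e⁻¹ (inv_mem (mem_zpowers e))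
    rw [inv_mul_cancel_left, l0] at l1
    obtain ⟨k, l2, l3⟩ := cardN_eq c.oz
    have : k ≠ 1 := by
      rintro rfl
      have l4 := (eq_of_le_of_card_ge C_le_N (by omega)).ge
        ((mem_N_iff (mem_zpowers _)).1 (l1 ▸ inv_mem (mem_zpowers _)))
      rw [mem_centralizer_singleton_iff.1 l4, mul_inv_cancel_right] at l1
      rw [mul_eq_one_iff_eq_inv.2 l1.symm, one_mul] at z3
      exact c.ne_one z3
    obtain rfl := ((Nat.dvd_prime Nat.prime_two).1 l3).resolve_left this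
    rw [hm] at h5
    omega
  obtain ⟨⟨t, ht⟩, ho⟩ := exists_prime_orderOf_dvd_card' (G := 𝐂[z]) 2 (by rw [k6]; norm_num)
  rw [← orderOf_coe] at ho
  have t2 : t * t = 1 := (sq t).symm.trans (orderOf_dvd_iff_pow_eq_one.1 ho.dvd)
  have tz : Commute t z := mem_centralizer_singleton_iff.1 ht
  have tQ : t * e * t⁻¹ ∈ Q := by
    have l1 := Core.card_mul_relIndex_of_le c.le
    rw [k6, c.card] at l1
    exact (mem_normalizer_iff.1 ((normal_subgroupOf_iff_le_normalizer c.le).1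
      (normal_of_index_eq_two (show Q.relIndex _ = 2 by omega)) ht) e).1 eQ
  have tE : t ∈ 𝐍(E) := by
    refine mem_normalizer_fintype (show E ≤ E.comap (MulAut.conj t).toMonoidHom from
      hE.le.trans (sup_le (zpowers_le.2 ?_) (zpowers_le.2 ?_)))
    · change t * z * t⁻¹ ∈ E
      rwa [tz.eq, mul_inv_cancel_right]
    refine j2.ge ⟨tQ, mem_centralizer_singleton_iff.2 (mul_inv_eq_iff_eq_mul.1
      (mul_inv_eq_one.1 ?_))⟩
    have l1 := c.comm _ tQ e eQ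
    change t * e * t⁻¹ * e * (t * e * t⁻¹)⁻¹ * e⁻¹ = 1
    have l2 : t * (t * e * t⁻¹ * e * (t * e * t⁻¹)⁻¹ * e⁻¹) * t⁻¹ =
        (t * e * t⁻¹ * e * (t * e * t⁻¹)⁻¹ * e⁻¹)⁻¹ := by
      rw [← inv_eq_of_mul_eq_one_right t2]; simp only [mul_inv_rev, inv_inv]
      rw [inv_eq_of_mul_eq_one_right t2]; simp [mul_assoc, ← mul_assoc t t, t2]
    generalize t * e * t⁻¹ * e * (t * e * t⁻¹)⁻¹ * e⁻¹ = w at l1 l2
    obtain ⟨i, rfl⟩ := l1
    rw [(tz.zpow_right i).eq, mul_inv_cancel_right, eq_inv_iff_mul_eq_one, ← sq] at l2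
    exact (pow_eq_one_iff_of_coprime (by norm_num : Nat.Coprime 2 27)).1
      ⟨l2, pow27 c.card (zpow_mem c.zQ i)⟩
  have l1 : NormedTI {z} 𝐍(E) (𝐍(E) ⊓ 𝐂[z]) := ⟨⟨z, rfl⟩, inf_le_left, fun g hg a ha => by
    rw [ha, mem_centralizer_singleton_iff.1 hg.2]; simp, fun g hg a ha h => by
      rw [ha] at h; exact ⟨hg, mem_centralizer_singleton_iff.2 (mul_inv_eq_iff_eq_mul.1 h)⟩⟩
  have l2 : 54 ≤ ♯(𝐍(E) ⊓ 𝐂[z]) := Nat.le_of_dvd Nat.card_pos
    (Nat.Coprime.mul_dvd_of_dvd_of_dvd (m := 27) (n := 2) (by norm_num)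
      (c.card ▸ card_dvd_of_le (le_inf j3 c.le)) (ho ▸ orderOf_dvd_natCard _ ⟨tE, ht⟩))
  have l3 : 6 ≤ (classSupp {z} 𝐍(E)).ncard := by
    have : ((zpowers e : Subgroup G) : Set G).ncard = 3 := (Nat.card_zpowers e).trans c'.oz
    have := Set.ncard_le_ncard (t := classSupp {z} 𝐍(E)) (Set.union_subset
      (Set.image_subset_iff (f := (· * z)).2 k3) (Set.image_subset_iff (f := (· * (e * z⁻¹))).2 k4))
    rw [Set.ncard_union_eq (Set.disjoint_left.2 ?_),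
      Set.ncard_image_of_injective _ (mul_left_injective _),
      Set.ncard_image_of_injective _ (mul_left_injective _)] at this
    · omega
    rintro _ ⟨a, ha, rfl⟩ ⟨b, hb, e'⟩
    refine hz ?_
    dsimp only at e'
    have : z⁻¹ = a⁻¹ * (b * e) := by
      rw [← eq_inv_of_mul_eq_one_left z3, eq_inv_mul_iff_mul_eq, ← mul_assoc, ← e']; group
    rw [← inv_mem_iff, this]
    exact mul_mem (inv_mem ha) (mul_mem hb (mem_zpowers e))
  have l4 := Core.card_mul_relIndex_of_le (inf_le_left : 𝐍(E) ⊓ 𝐂[z] ≤ 𝐍(E))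
  rw [l1.ncard_classSupp, Set.ncard_singleton, one_mul] at l3
  have l5 := Nat.mul_le_mul l2 l3
  have l6 := (𝐍(E)).card_mul_index
  rw [h.card] at l6
  obtain ⟨k, hk⟩ := ((by norm_num : Nat.Prime 13).dvd_mul.1 (Dvd.intro 432 l6.symm)).resolve_left
    (h.not13 (V := E) (by rw [j1]; norm_num) (by rw [j1]; decide))
  refine ⟨𝐍(E), ?_⟩
  rw [hk] at l6 ⊢
  rcases k with _ | _ | k
  · omega
  · rfl
  · nlinarith

end L3
end Cfsg.Agent.BR
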