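import Cfsg.Agent.Lib.BR.L3B
import Cfsg.Agent.Lib.BR.Plane

/-!
# The group of order `5616` acts on the projective plane
-/

set_option autoImplicit false

namespace Cfsg.Agent.BR

open Subgroup Cfsg.Agent.OO MulAction
open scoped Pointwise MatrixGroups

universe u

variable {G : Type u} [Group G] [Finite G] {x y : G}

theorem fact13 : Fact (Nat.Prime 13) := ⟨by norm_num⟩

attribute [local instance] fact13

theorem L3.iso_of (h : L3 x y) (s : NS G) {Ω : Type*} [MulAction G Ω] (hΩ : Nat.card Ω = 13)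
    (hy : (fixedBy Ω y).ncard = 1) (hp : ∀ g ∈ A3 y, (fixedBy Ω g).ncard = 4)
    (h1 : ∀ i : ZMod 13, i ≠ 0 → ∀ q : Ω, xp x i • q ≠ q) : Nonempty (G ≃* PSL(3, ZMod 3)) := by
  classical
  have := Fact.mk Nat.prime_three
  have : Finite Ω := Nat.finite_of_card_ne_zero (by omega)
  obtain ⟨Q, z, c, yQ⟩ := h.exists_ctr
  have zA := (h.ctr_A c (mem_zpowers z) c.ne_one).2
  have hL := hp z zA
  have h2 : ∀ g ∈ Q, ∀ w ∈ fixedBy Ω z, g • w ∈ fixedBy Ω z := fun g hg w hw =>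
    Coprime.smul_mem_fixedBy_of_commute (Commute.symm (mem_centralizer_singleton_iff.1 (c.le hg))) hw
  obtain ⟨ω, hω⟩ := (IsPGroup.of_card (p := 3) (n := 3) c.card).nonempty_fixed_point_of_prime_not_dvd_card
    Ω (by omega)
  have h3 : 8 ≤ {u ∈ A3 y | fixedBy Ω u = fixedBy Ω z}.ncard := by
    let T : SubMulAction Q Ω := ⟨fixedBy Ω z, fun a w hw => h2 a a.2 w hw⟩
    have i1 := (toPermHom Q T).ker.card_mul_index
    have i2 := card_subgroup_dvd_card (toPermHom Q T).range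
    rw [Nat.card_perm, show Nat.card T = 4 from hL, ← index_ker] at i2
    have i3 : _ ≤ 3 :=
      Nat.le_of_dvd (by norm_num) (Nat.dvd_gcd i2 (Dvd.intro_left _ (i1.trans c.card)))
    have i4 := Nat.mul_le_mul_left ♯(toPermHom Q T).ker i3
    rw [i1, c.card, ← card_map_of_injective (subtype_injective Q)] at i4
    refine le_trans ?_ (Set.ncard_le_ncard (s := sharp ((toPermHom Q T).ker.map Q.subtype)) ?_)
    · rw [ncard_sharp]; omega
    rintro _ ⟨⟨u, hu, rfl⟩, u1⟩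
    have i5 : fixedBy Ω z ⊆ fixedBy Ω (u : G) := fun w hw =>
      congrArg Subtype.val (Equiv.congr_fun (MonoidHom.mem_ker.1 hu) ⟨w, hw⟩)
    have i6 : (u : G) ∈ A3 y := ⟨⟨u1, pow27 c.card u.2⟩, fun ⟨a, ha, v, _, e⟩ => by
      have := Set.ncard_le_ncard i5
      rw [e, ← smul_fixedBy, Set.ncard_smul_set, ha, hy] at this
      omega⟩
    exact ⟨i6, (Set.eq_of_subset_of_ncard_le i5 ((hp _ i6).trans hL.symm).le).symm⟩
  have h4 : NormedTI {u ∈ A3 y | fixedBy Ω u = fixedBy Ω z} ⊤ (stabilizer G (fixedBy Ω z)) :=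
    ⟨⟨z, zA, rfl⟩, le_top, fun g hg u hu => ⟨conj_A3 hu.1 g, by rw [← smul_fixedBy, hu.2]; exact hg⟩,
      fun g _ u hu e => by have := e.2; rwa [← smul_fixedBy, hu.2] at this⟩
  have h5 := Set.ncard_le_ncard (s := classSupp {u ∈ A3 y | fixedBy Ω u = fixedBy Ω z} ⊤)
    (t := A3 y) (by rintro _ ⟨u, hu, g, -, rfl⟩; exact conj_A3 hu.1 g)
  rw [h4.ncard_classSupp, h.cA, relIndex_top_right] at h5
  have h6 : ∀ g : G, ∃ j : ZMod 13, xp x j • fixedBy Ω z = g • fixedBy Ω z := fun g => by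
    have i1 : Function.Injective fun j : ZMod 13 =>
        ((xp x j : G) : G ⧸ stabilizer G (fixedBy Ω z)) := fun i j e => by
      have i2 := QuotientGroup.eq.1 e
      rw [← xp_neg h.ox, ← xp_add h.ox] at i2
      refine neg_add_eq_zero.1 (by_contra fun e' => ?_)
      have := Coprime.ncard_modEq_of_pow_eq_one fact13.out (xp_pow_p h.ox (-i + j))
        (S := fixedBy Ω z) fun w hw => mem_stabilizer_iff.1 i2 ▸ Set.smul_mem_smul_set hw
      rw [hL, Set.eq_empty_of_forall_notMem (s := _ ∩ fixedBy Ω _) fun w hw => h1 _ e' w hw.2,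
        Set.ncard_empty] at this
      exact absurd this (by decide)
    obtain ⟨j, e⟩ := (i1.bijective_of_nat_card_le (by
      have := Nat.mul_le_mul_right (stabilizer G (fixedBy Ω z)).index h3
      rw [Nat.card_zmod]; change (stabilizer G (fixedBy Ω z)).index ≤ _; omega)).2 g
    exact ⟨j, by rw [← mul_inv_cancel_left (xp x j) g, mul_smul, QuotientGroup.eq.1 e]⟩
  have h7 : Function.Bijective fun i : ZMod 13 => xp x i • ω :=
    Function.Injective.bijective_of_nat_card_le (fun i j e => neg_add_eq_zero.1 (by_contra fun e' =>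
      h1 _ e' ω (by rw [xp_add h.ox, xp_neg h.ox, mul_smul, ← show xp x i • ω = xp x j • ω from e,
        inv_smul_smul]))) (by rw [hΩ, Nat.card_zmod])
  have h8 : ω ∈ fixedBy Ω z := hω ⟨z, c.zQ⟩
  obtain ⟨a, a0, ha⟩ : ∃ a : ZMod 13, a ≠ 0 ∧ xp x a • ω ∈ fixedBy Ω z := by
    obtain ⟨w, hw, e⟩ := Set.exists_ne_of_one_lt_ncard (by omega : 1 < (fixedBy Ω z).ncard) ω
    obtain ⟨a, rfl⟩ := h7.2 w
    exact ⟨a, fun e' => e (by simp [e', xp_zero]), hw⟩
  have h9 : ∀ i : ZMod 13, xp x (a * i) • ω ∈ fixedBy Ω z →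
      xp x (a * ((sig h.ox ⟨y, h.yN⟩ : ZMod 13) * i)) • ω ∈ fixedBy Ω z := fun i hi => by
    rw [mul_left_comm, ← conj_xp, mul_smul, mul_smul,
      show y⁻¹ • ω = ω from hω ⟨y⁻¹, inv_mem yQ⟩]
    exact h2 y yQ _ hi
  have h10 : (sig h.ox ⟨y, h.yN⟩ : ZMod 13) ^ 3 = 1 := by
    rw [← Units.val_pow_eq_pow_val, ← map_pow, show (⟨y, h.yN⟩ : 𝐍(zpowers x)) ^ 3 = 1 from
      Subtype.ext (h.oy ▸ pow_orderOf_eq_one y), map_one, Units.val_one]
  have h11 : (sig h.ox ⟨y, h.yN⟩ : ZMod 13) ≠ 1 := fun e =>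
    h.yC ((sig_eq_one h.ox ⟨y, h.yN⟩).1 (Units.ext e))
  generalize (sig h.ox ⟨y, h.yN⟩ : ZMod 13) = σ at h9 h10 h11
  let e := Equiv.ofBijective _ (h7.comp (Equiv.mulLeft₀ a a0).bijective)
  have he : ∀ i, e i = xp x (a * i) • ω := fun _ => rfl
  have h12 : e '' ({0, 1, 3, 9} : Finset (ZMod 13)) = fixedBy Ω z := by
    refine Set.eq_of_subset_of_ncard_le (Set.image_subset_iff.2 ?_) (by
      rw [hL, Set.ncard_image_of_injective _ e.injective, Set.ncard_coe_finset]; decide)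
    have i1 : e 1 ∈ fixedBy Ω z := by rwa [he, mul_one]
    have i2 := h9 1 i1
    have i3 := h9 _ i2
    rcases (by decide : ∀ σ : ZMod 13, σ ^ 3 = 1 → σ ≠ 1 → σ = 3 ∨ σ = 9) σ h10 h11 with rfl | rfl <;>
    simp only [Finset.coe_insert, Finset.coe_singleton, Set.insert_subset_iff,
      Set.singleton_subset_iff, Set.mem_preimage]
    exacts [⟨by simpa [he, xp_zero] using h8, i1, i2, i3⟩, ⟨by simpa [he, xp_zero] using h8, i1, i3, i2⟩]
  have h13 : ∀ i l, Plane.On i l ↔ e i ∈ xp x (a * l) • fixedBy Ω z := fun i l => by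
    rw [Plane.on_iff, Set.mem_smul_set_iff_inv_smul_mem, he, smul_smul, ← xp_neg h.ox,
      ← xp_add h.ox, show -(a * l) + a * i = a * (i - l) by ring, ← he, ← h12,
      e.injective.mem_set_image, Finset.mem_coe]
  let ψ : G →* Equiv.Perm (ZMod 13) := e.symm.permCongrHom.toMonoidHom.comp (toPermHom G Ω)
  have h14 : ∀ g i, e (ψ g i) = g • e i := fun g i => by simp [ψ]
  have h15 : ∀ g i j k, Plane.Col i j k → Plane.Col (ψ g i) (ψ g j) (ψ g k) :=
    fun g i j k ⟨l, i1⟩ => by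
      obtain ⟨m, hm⟩ := h6 (g * xp x (a * l))
      refine ⟨a⁻¹ * m, ?_⟩
      simpa only [h13, h14, mul_inv_cancel_left₀ a0, hm, mul_smul, Set.smul_mem_smul_set_iff]
        using i1
  refine Plane.iso h.card ψ ((MonoidHom.ker_eq_bot_iff ψ).1
    ((s.simple.eq_bot_or_eq_top_of_normal _ inferInstance).resolve_right fun e' => ?_))
    fun g i j k => ⟨fun i1 => by simpa using h15 g⁻¹ _ _ _ i1, h15 g i j k⟩
  exact h1 1 one_ne_zero (e 0) (by rw [← h14, MonoidHom.mem_ker.1 (e'.ge (mem_top _))]; rfl)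

theorem L3.iso (h : L3 x y) (s : NS G) : Nonempty (G ≃* PSL(3, ZMod 3)) := by
  obtain ⟨M, hM⟩ := h.exists_index
  refine h.iso_of s (Ω := G ⧸ M) hM (h.perm M hM).1 (h.perm M hM).2 fun i hi q hq => ?_
  obtain ⟨g, rfl⟩ := QuotientGroup.mk_surjective q
  have i1 : g⁻¹ * xp x i * g⁻¹⁻¹ ∈ M := by simpa [mul_assoc] using QuotientGroup.eq.1 hq.symm
  have i2 := orderOf_dvd_natCard _ i1
  have := M.card_mul_index
  rw [orderOf_conj, orderOf_eq_prime (xp_pow_p h.ox i) fun e => hi ((xp_eq_one h.ox).1 e)] at i2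
  rw [hM, h.card] at this
  omega

end Cfsg.Agent.BR
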