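import Cfsg.Agent.Lib.BR.Tate2
import Cfsg.Agent.Lib.Blk.Main

/-!
# The lattice theorem for a Sylow subgroup of order `p`
-/

set_option autoImplicit false

namespace Cfsg.Agent.BR

open Module LinearMap Subgroup Cfsg.Agent.OO Cardinal TensorProduct
open scoped ComplexConjugate

universe u

theorem exists_iota (p : ℕ) [Fact p.Prime] : ∃ ι : ℤ_[p] →+* ℂ, Function.Injective ι := by
  have h1 : #ℚ_[p] ≤ 𝔠 := by
    refine mk_quotient_le.trans ((mk_subtype_le _).trans ?_)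
    simp
  have h2 : #(AlgebraicClosure ℚ_[p]) = 𝔠 := by
    apply le_antisymm
    · exact (Algebra.IsAlgebraic.cardinalMk_le_max ℚ_[p] _).trans (max_le h1 aleph0_le_continuum)
    · exact (continuum_le_cardinal_of_nontriviallyNormedField ℚ_[p]).trans
        (mk_le_of_injective (algebraMap ℚ_[p] (AlgebraicClosure ℚ_[p])).injective)
  obtain ⟨e⟩ := IsAlgClosed.ringEquiv_of_equiv_of_charZero (K := AlgebraicClosure ℚ_[p]) (L := ℂ)
    (h2 ▸ aleph0_lt_continuum) (Cardinal.eq.1 (h2.trans Cardinal.mk_complex.symm))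
  exact ⟨e.toRingHom.comp ((algebraMap ℚ_[p] _).comp PadicInt.Coe.ringHom),
    e.injective.comp ((algebraMap ℚ_[p] (AlgebraicClosure ℚ_[p])).injective.comp
      Subtype.val_injective)⟩

variable {G : Type u} [Group G] [Finite G] {p : ℕ} [hp : Fact p.Prime]

section
variable {M : Type*} [AddCommGroup M] [Module ℤ_[p] M] [Module.Free ℤ_[p] M] [Module.Finite ℤ_[p] M]

theorem trace_add_of_comm (φ f : End ℤ_[p] M) (h : Commute f φ) :
    trace ℤ_[p] M f = trace ℤ_[p] (ker φ) (f.restrict fun _ hm => comm_ker h hm) +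
      trace ℤ_[p] (range φ) (f.restrict fun _ hm => comm_range h hm) := by
  obtain ⟨s, hs⟩ := projective_lifting_property φ.rangeRestrict LinearMap.id
    φ.surjective_rangeRestrict
  have hs' : ∀ m, φ (s m) = m := fun m => congrArg Subtype.val (LinearMap.congr_fun hs m)
  have h1 : f = f * (1 - s ∘ₗ φ.rangeRestrict) + (f ∘ₗ s) ∘ₗ φ.rangeRestrict := by
    ext m; simp
  have h2 : ∀ m, (f * (1 - s ∘ₗ φ.rangeRestrict)) m ∈ ker φ := fun m =>
    comm_ker h (by simp [hs'])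
  conv_lhs => rw [h1, map_add, ← trace_restrict_eq_of_forall_mem _ _ h2, trace_comp_comm']
  congr 2
  · ext m
    have : φ.rangeRestrict m = 0 := Subtype.ext m.2
    simp [this]
  · ext m
    simp only [coe_comp, Function.comp_apply, codRestrict_apply, coe_restrict_apply]
    rw [← End.mul_apply, ← h.eq, End.mul_apply, hs']

/-- the complex character of a lattice -/
noncomputable def chL (ι : ℤ_[p] →+* ℂ) (ρ : G →* End ℤ_[p] M) : G → ℂ :=
  fun g => ι (trace ℤ_[p] M (ρ g))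

theorem isChar_chL (ι : ℤ_[p] →+* ℂ) (ρ : G →* End ℤ_[p] M) : IsChar ⊤ (chL ι ρ) := by
  letI := ι.toAlgebra
  let σ : Representation ℂ (⊤ : Subgroup G) (ℂ ⊗[ℤ_[p]] M) :=
    (End.baseChangeHom ℤ_[p] ℂ M).toMonoidHom.comp (ρ.comp (Subgroup.subtype ⊤))
  convert isChar_of_rep σ
  ext g
  rw [Char.extendByZero_of_mem _ _ (mem_top g)]
  exact (trace_baseChange (ρ g) ℂ).symm

/-- restriction of a representation to an invariant submodule -/
noncomputable def resRep (ρ : G →* End ℤ_[p] M) (S : Submodule ℤ_[p] M) (h : ∀ g, ∀ m ∈ S, ρ g m ∈ S) :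
    G →* End ℤ_[p] S where
  toFun g := (ρ g).restrict (h g)
  map_one' := by ext; simp
  map_mul' a b := by ext; simp

end

theorem exists_min (ι : ℤ_[p] →+* ℂ) {χ : G → ℂ} (r : ℕ) : ∀ (M : Type u) [AddCommGroup M]
    [Module ℤ_[p] M] [Module.Free ℤ_[p] M] [Module.Finite ℤ_[p] M] (ρ : G →* End ℤ_[p] M),
    finrank ℤ_[p] M = r → ⟪chL ι ρ, χ⟫[⊤] ≠ 0 → ∃ (M' : Type u) (_ : AddCommGroup M')
    (_ : Module ℤ_[p] M') (_ : Module.Free ℤ_[p] M') (_ : Module.Finite ℤ_[p] M')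
    (ρ' : G →* End ℤ_[p] M'), ⟪chL ι ρ', χ⟫[⊤] ≠ 0 ∧
      ∀ φ : End ℤ_[p] M', (∀ g, Commute φ (ρ' g)) → φ = 0 ∨ Function.Injective φ := by
  induction r using Nat.strong_induction_on with
  | _ r ih =>
  intro M _ _ _ _ ρ hr h
  by_cases hS : ∀ φ : End ℤ_[p] M, (∀ g, Commute φ (ρ g)) → φ = 0 ∨ Function.Injective φ
  · exact ⟨M, _, _, inferInstance, inferInstance, ρ, h, hS⟩
  push Not at hS
  obtain ⟨φ, hφ, h0, h1⟩ := hS
  have hk : finrank ℤ_[p] (range φ) + finrank ℤ_[p] (ker φ) = r := by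
    rw [← hr, ← (ker φ).finrank_quotient_add_finrank, (quotKerEquivRange φ).finrank_eq]
  have hk1 : 0 < finrank ℤ_[p] (ker φ) := by
    rw [finrank_pos_iff, Submodule.nontrivial_iff_ne_bot]
    exact fun h => h1 (ker_eq_bot.1 h)
  have hk2 : 0 < finrank ℤ_[p] (range φ) := by
    rw [finrank_pos_iff, Submodule.nontrivial_iff_ne_bot]
    exact fun h => h0 (range_eq_bot.1 h)
  have he : chL ι ρ = chL ι (resRep ρ (ker φ) fun g _ hm => comm_ker (hφ g).symm hm) +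
      chL ι (resRep ρ (range φ) fun g _ hm => comm_range (hφ g).symm hm) := by
    ext g
    simp only [chL, Pi.add_apply, ← map_add]
    rw [trace_add_of_comm φ (ρ g) (hφ g).symm]; rfl
  rw [he, cfdotDl] at h
  by_cases h2 : ⟪chL ι (resRep ρ (ker φ) fun g _ hm => comm_ker (hφ g).symm hm), χ⟫[⊤] = 0
  · rw [h2, zero_add] at h
    exact ih _ (by omega) _ _ rfl h
  · exact ih _ (by omega) _ _ rfl h2

theorem exists_irr_lattice (ι : ℤ_[p] →+* ℂ) {χ : G → ℂ} (hχ : IsIrr ⊤ χ) :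
    ∃ (M' : Type u) (_ : AddCommGroup M')
    (_ : Module ℤ_[p] M') (_ : Module.Free ℤ_[p] M') (_ : Module.Finite ℤ_[p] M')
    (ρ' : G →* End ℤ_[p] M'), ⟪chL ι ρ', χ⟫[⊤] ≠ 0 ∧
      ∀ φ : End ℤ_[p] M', (∀ g, Commute φ (ρ' g)) → φ = 0 ∨ Function.Injective φ := by
  classical
  have := Fintype.ofFinite G
  let ρ : G →* End ℤ_[p] (G → ℤ_[p]) :=
    { toFun := fun s => LinearMap.funLeft ℤ_[p] ℤ_[p] (fun t => s⁻¹ * t)
      map_one' := by ext; simp
      map_mul' := fun _ _ => by ext; simp [mul_assoc] }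
  refine exists_min ι _ (G → ℤ_[p]) ρ rfl ?_
  have : chL ι ρ = cfReg ⊤ := by
    ext g
    simp only [chL]
    rw [trace_eq_matrix_trace ℤ_[p] (Pi.basisFun ℤ_[p] G), Matrix.trace]
    by_cases hg : g = 1
    · subst hg; simp [cfReg_one]
    · rw [cfReg_of_ne _ hg, Finset.sum_eq_zero, map_zero]
      intro t _
      simp [toMatrix_apply, Pi.single_apply, hg, ρ]
  rw [this, cfdotC, cfdot_cfReg]
  simpa using irr1_neq0 hχ

/-- `D(ψ) = ∑_{c ∈ C ∖ K} ψ(c)` -/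
noncomputable def DD (p : ℕ) (x : G) (K : Subgroup G) (ψ : G → ℂ) : ℂ :=
  ∑ i ∈ Finset.Ico 1 p, ∑ k ∈ elts (K : Set G), ψ (x ^ i * k)

omit hp in
theorem DD_sum {x : G} {K : Subgroup G} {φ : G → ℂ} (hφ : φ ∈ CF ⊤) :
    DD p x K φ = ∑ θ ∈ Irr ⊤, ⟪φ, θ⟫[⊤] * DD p x K θ := by
  simp only [DD, Finset.mul_sum]
  rw [Finset.sum_comm (s := Irr ⊤)]
  refine Finset.sum_congr rfl fun i _ => ?_
  rw [Finset.sum_comm (s := Irr ⊤)]
  exact Finset.sum_congr rfl fun k _ => cfun_apply_sum_cfdot hφ _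

theorem elts_top [Fintype G] : elts ((⊤ : Subgroup G) : Set G) = Finset.univ := by
  ext; simp

omit hp in
theorem central_mul [Fintype G] {V : Type*} [AddCommGroup V] [Module ℂ V] (σ : G →* End ℂ V)
    {x : G} {K : Subgroup G} {θ : G → ℂ} (hθ : IsIrr ⊤ θ) (a : ℕ) (b : ℤ) :
    (a • (∑ i ∈ Finset.Ico 1 p, ∑ k ∈ elts (K : Set G), ∑ g, σ (g * (x ^ i * k) * g⁻¹)) - b • 1) *
      ∑ h, conj (θ h) • σ h =
      (a * Nat.card G * DD p x K θ / θ 1 - b) • ∑ h, conj (θ h) • σ h := by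
  have h1 : ∀ c, (∑ g, σ (g * c * g⁻¹)) * ∑ h, conj (θ h) • σ h =
      (Nat.card G * θ c / θ 1) • ∑ h, conj (θ h) • σ h := fun c => by
    have h2 : ∀ g, σ (g * c * g⁻¹) * ∑ h, conj (θ h) • σ h =
        ∑ h, conj (θ (g * c⁻¹ * g⁻¹ * h)) • σ h := fun g => by
      rw [Finset.mul_sum, ← Equiv.sum_comp (Equiv.mulLeft (g * c⁻¹ * g⁻¹))]
      refine Finset.sum_congr rfl fun h _ => ?_
      rw [mul_smul_comm, ← map_mul, Equiv.coe_mulLeft]
      congr 2; group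
    rw [Finset.sum_mul, Finset.sum_congr rfl fun g _ => h2 g, Finset.sum_comm, Finset.smul_sum]
    refine Finset.sum_congr rfl fun h _ => ?_
    rw [← Finset.sum_smul, smul_smul]
    congr 1
    have h3 := congrArg conj (Blk.sum_conj_mul hθ (mem_top c⁻¹) h)
    obtain ⟨b, -, hb⟩ := hθ.exists_one
    rw [elts_top, char_inv hθ.isChar, card_top] at h3
    have h4 := irr1_neq0 hθ
    rw [hb] at h3 h4 ⊢
    simp only [map_mul, map_natCast, map_sum, Complex.conj_conj] at h3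
    field_simp
    linear_combination h3
  rw [sub_mul, smul_mul_assoc, smul_mul_assoc, one_mul, sub_smul, ← Nat.cast_smul_eq_nsmul ℂ,
    ← Int.cast_smul_eq_zsmul ℂ]
  simp only [Finset.sum_mul (s := Finset.Ico 1 p), Finset.sum_mul (s := elts _), h1,
    ← Finset.sum_smul, smul_smul]
  congr 2
  simp only [DD, Finset.mul_sum, Finset.sum_div]
  refine Finset.sum_congr rfl fun i _ => Finset.sum_congr rfl fun k _ => by ring

theorem Dat.lattice {x y : G} {K H : Subgroup G} (d : Dat p x y K H) {χ : G → ℂ} (hχ : IsIrr ⊤ χ)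
    {m : ℤ} (hm : DD p x K χ = m) : ∃ Ψ, IsChar ⊤ Ψ ∧ ⟪Ψ, χ⟫[⊤] ≠ 0 ∧
      (∃ δ : ℤ, (δ = 0 ∨ δ = 1 ∨ δ = -1) ∧ DD p x K Ψ = Nat.card K * (δ * (p - 1))) ∧
      ∀ θ, IsIrr ⊤ θ → ⟪Ψ, θ⟫[⊤] ≠ 0 → χ 1 * DD p x K θ = θ 1 * DD p x K χ := by
  classical
  have := Fintype.ofFinite G
  obtain ⟨ι, hι⟩ := exists_iota p
  obtain ⟨M, _, _, _, _, ρ, h, hS⟩ := exists_irr_lattice ι hχ
  refine ⟨chL ι ρ, isChar_chL ι ρ, h, ?_, ?_⟩
  · obtain ⟨δ, hδ, h1⟩ := d.trace_eq ρ hS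
    refine ⟨δ, hδ, ?_⟩
    have h2 := congrArg ι h1
    simp only [map_sub, map_sum, map_mul, map_natCast, map_intCast, map_one] at h2
    rw [← h2, Finset.range_eq_Ico, Finset.sum_eq_sum_Ico_succ_bot hp.out.pos]
    simp [DD, chL, sum_elts_subtype]
  letI := ι.toAlgebra
  let σ : G →* End ℂ (ℂ ⊗[ℤ_[p]] M) := (End.baseChangeHom ℤ_[p] ℂ M).toMonoidHom.comp ρ
  have htr : ∀ g, trace ℂ _ (σ g) = chL ι ρ g := fun g => trace_baseChange (ρ g) ℂ
  obtain ⟨a, -, ha⟩ := hχ.exists_one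
  let Y : End ℤ_[p] M := a • (∑ i ∈ Finset.Ico 1 p, ∑ k ∈ elts (K : Set G),
    ∑ g, ρ (g * (x ^ i * k) * g⁻¹)) - (Nat.card G * m : ℤ) • 1
  have hY : ∀ g, Commute Y (ρ g) := fun g => by
    refine Commute.sub_left (Commute.smul_left ?_ _) (Commute.smul_left (Commute.one_left _) _)
    refine Commute.sum_left _ _ _ fun i _ => Commute.sum_left _ _ _ fun k _ => ?_
    change _ * _ = _ * _
    rw [Finset.sum_mul, Finset.mul_sum, ← Equiv.sum_comp (Equiv.mulLeft g)]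
    refine Finset.sum_congr rfl fun a _ => ?_
    simp only [Equiv.coe_mulLeft, ← map_mul]
    congr 1; group
  have key : ∀ θ, IsIrr ⊤ θ → End.baseChangeHom ℤ_[p] ℂ M Y * ∑ h, conj (θ h) • σ h =
      (a * Nat.card G * DD p x K θ / θ 1 - Nat.card G * m) • ∑ h, conj (θ h) • σ h := by
    intro θ hθ
    have := central_mul (p := p) (x := x) (K := K) σ hθ a (Nat.card G * m)
    push_cast at this
    rw [← this]
    simp only [Y, map_sub, map_sum, map_nsmul, map_zsmul, map_one]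
    rfl
  have hne : ∀ θ, ⟪chL ι ρ, θ⟫[⊤] ≠ 0 → ∑ h, conj (θ h) • σ h ≠ 0 := fun θ hθ h0 => by
    apply hθ
    have := congrArg (trace ℂ _) h0
    simp only [map_sum, map_smul, htr, smul_eq_mul, map_zero] at this
    rw [cfdotE, elts_top, Finset.sum_congr rfl fun g _ => mul_comm _ _, this, mul_zero]
  have hG : (Nat.card G : ℂ) ≠ 0 := by exact_mod_cast Nat.card_pos.ne'
  have hY0 : Y = 0 := by
    refine (hS Y hY).resolve_right fun hinj => ?_
    have h1 := key χ hχ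
    rw [hm, ← ha, mul_assoc, mul_div_cancel_left₀ _ (irr1_neq0 hχ), sub_self, zero_smul] at h1
    have h2 : LinearMap.det (Y.baseChange ℂ) ≠ 0 := by
      rw [det_baseChange]
      intro h0
      exact det_eq_zero_iff_ker_ne_bot.1 (hι (h0.trans (map_zero ι).symm)) (ker_eq_bot.2 hinj)
    have h3 : IsUnit (End.baseChangeHom ℤ_[p] ℂ M Y) :=
      (isUnit_iff_ker_eq_bot _).2 (not_not.1 fun h => h2 (det_eq_zero_iff_ker_ne_bot.2 h))
    exact hne χ h (h3.mul_right_eq_zero.1 h1)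
  intro θ hθ h0
  have h1 := key θ hθ
  rw [hY0, map_zero, zero_mul] at h1
  have h2 := (smul_eq_zero.1 h1.symm).resolve_right (hne θ h0)
  have h4 := irr1_neq0 hθ
  rw [hm, ha]
  field_simp at h2
  apply mul_left_cancel₀ hG
  linear_combination h2

end Cfsg.Agent.BR
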