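import Mathlib

/-!
# Brauer theory for a Sylow subgroup of order `p`: `p`-adic lattice lemmas
-/

set_option autoImplicit false

namespace Cfsg.Agent.BR

open Module Polynomial

variable {p : ℕ} [hp : Fact p.Prime] {M : Type*} [AddCommGroup M] [Module ℤ_[p] M]
  [Module.Free ℤ_[p] M] [Module.Finite ℤ_[p] M]

theorem p_ne : (p : ℤ_[p]) ≠ 0 := by exact_mod_cast hp.out.ne_zero

omit [Module.Finite ℤ_[p] M] in
theorem p_smul_inj {a b : M} (h : (p : ℤ_[p]) • a = (p : ℤ_[p]) • b) : a = b :=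
  smul_right_injective M p_ne h

omit [Module.Finite ℤ_[p] M] in
theorem p_smul_inj_end {a b : End ℤ_[p] M} (h : (p : ℤ_[p]) • a = (p : ℤ_[p]) • b) : a = b := by
  ext m; exact p_smul_inj (LinearMap.congr_fun h m)

omit [Module.Finite ℤ_[p] M] in
/-- division by `p` of a linear map -/
theorem exists_div {N : Type*} [AddCommGroup N] [Module ℤ_[p] N] (T : M →ₗ[ℤ_[p]] N)
    (h : ∀ m, ∃ n, T m = (p : ℤ_[p]) • n) : ∃ φ : M →ₗ[ℤ_[p]] N, T = (p : ℤ_[p]) • φ := by
  let b := Module.Free.chooseBasis ℤ_[p] M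
  choose f hf using h
  refine ⟨b.constr ℤ_[p] fun i => f (b i), b.ext fun i => ?_⟩
  simp [hf]

/-- an endomorphism commuting with a family all of whose commuting endomorphisms are zero or
injective is topologically nilpotent or has a power congruent to `1` -/
theorem loc {I : Type*} (r : I → End ℤ_[p] M)
    (hS : ∀ φ : End ℤ_[p] M, (∀ g, Commute φ (r g)) → φ = 0 ∨ Function.Injective φ)
    (φ : End ℤ_[p] M) (hφ : ∀ g, Commute φ (r g)) :
    ∃ n, 0 < n ∧ ∃ ψ : End ℤ_[p] M, φ ^ n = (p : ℤ_[p]) • ψ ∨ φ ^ n = 1 + (p : ℤ_[p]) • ψ := by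
  classical
  let b := Module.Free.chooseBasis ℤ_[p] M
  let e := LinearMap.toMatrixAlgEquiv b
  let A := e φ
  let s0 : Set (Matrix (Free.ChooseBasisIndex ℤ_[p] M) (Free.ChooseBasisIndex ℤ_[p] M) ℤ_[p]) :=
    {B | ∃ n, 0 < n ∧ B = A ^ n}
  have hc : CompactSpace
      (Matrix (Free.ChooseBasisIndex ℤ_[p] M) (Free.ChooseBasisIndex ℤ_[p] M) ℤ_[p]) :=
    inferInstanceAs (CompactSpace (_ → _ → ℤ_[p]))
  obtain ⟨E, hE, hEE⟩ := exists_idempotent_in_compact_subsemigroup
    (fun r => continuous_mul_const r) (closure s0) ⟨A, subset_closure ⟨1, one_pos, by simp⟩⟩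
    isClosed_closure.isCompact (fun x hx y hy => by
      refine map_mem_closure₂' (f := fun a b => a * b) (fun a => continuous_const_mul a)
        (fun a => continuous_mul_const a) hx hy ?_
      rintro _ ⟨n, hn, rfl⟩ _ ⟨m, -, rfl⟩
      exact ⟨n + m, by omega, by rw [pow_add]⟩)
  have hcomm : ∀ g, Commute (e.symm E) (r g) := fun g => by
    have : closure s0 ⊆ {B | B * e (r g) = e (r g) * B} := by
      refine closure_minimal ?_ (isClosed_eq (continuous_mul_const _) (continuous_const_mul _))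
      rintro _ ⟨n, -, rfl⟩
      exact (((hφ g).map e).pow_left n).eq
    have h2 := this hE
    apply e.injective
    simpa using h2
  have hidem : e.symm E * e.symm E = e.symm E := by rw [← map_mul, hEE]
  have hE01 : E = 0 ∨ E = 1 := by
    rcases hS _ hcomm with h | h
    · left; simpa using h
    · right
      have : e.symm E = 1 := by
        ext m; apply h; exact LinearMap.congr_fun hidem m
      simpa using congrArg e this
  have hopen : IsOpen {B : Matrix (Free.ChooseBasisIndex ℤ_[p] M) (Free.ChooseBasisIndex ℤ_[p] M)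
      ℤ_[p] | ∀ i j, ‖B i j - E i j‖ < 1} := by
    simp only [Set.ofPred_forall]
    refine isOpen_iInter_of_finite fun i => isOpen_iInter_of_finite fun j => ?_
    exact isOpen_lt (by fun_prop) continuous_const
  obtain ⟨B, hB, n, hn, rfl⟩ := mem_closure_iff.1 hE _ hopen (fun i j => by simp)
  have : ∀ i j, ∃ c, (A ^ n) i j - E i j = p * c := fun i j =>
    (PadicInt.norm_lt_one_iff_dvd _).1 (hB i j)
  choose C hC using this
  have h3 : A ^ n = E + (p : ℤ_[p]) • Matrix.of C := by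
    ext i j; simp [← hC]
  refine ⟨n, hn, e.symm (Matrix.of C), ?_⟩
  rcases hE01 with h | h
  · left; apply e.injective; simp [h, A] at h3 ⊢; simpa [h] using h3
  · right; apply e.injective; simp [h, A] at h3 ⊢; simpa [h] using h3

omit [Module.Finite ℤ_[p] M] in
/-- separation modulo `p` -/
theorem sep (Q : Submodule ℤ_[p] M) (hQ : ∀ m, (p : ℤ_[p]) • m ∈ Q) {v : M} (hv : v ∉ Q) :
    ∃ F : M →ₗ[ℤ_[p]] ℤ_[p], F v = 1 ∧ ∀ q ∈ Q, (p : ℤ_[p]) ∣ F q := by
  let I : Ideal ℤ_[p] := IsLocalRing.maximalIdeal ℤ_[p]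
  have hI : I = Ideal.span {(p : ℤ_[p])} := PadicInt.maximalIdeal_eq_span_p
  have ht : IsTorsionBySet ℤ_[p] (M ⧸ Q) I := by
    rintro x ⟨a, ha⟩
    obtain ⟨m, rfl⟩ := Q.mkQ_surjective x
    rw [hI] at ha
    obtain ⟨c, rfl⟩ := Ideal.mem_span_singleton'.1 ha
    change (c * p) • Q.mkQ m = 0
    rw [← map_smul, Submodule.mkQ_apply, Submodule.Quotient.mk_eq_zero, mul_smul]
    exact Q.smul_mem _ (hQ m)
  letI := ht.module
  letI := Ideal.Quotient.field I
  have hv0 : Q.mkQ v ≠ 0 := by simpa using hv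
  obtain ⟨f, hf⟩ := Projective.exists_dual_eq_one (ℤ_[p] ⧸ I) hv0
  let g : M →ₗ[ℤ_[p]] ℤ_[p] ⧸ I :=
    { toFun := fun m => f (Q.mkQ m)
      map_add' := fun a b => by simp
      map_smul' := fun c a => by
        rw [map_smul, ← ht.mk_smul, map_smul]; rfl }
  obtain ⟨F, hF⟩ := projective_lifting_property (Submodule.mkQ I) g (Submodule.mkQ_surjective I)
  have h1 : ∀ m, Ideal.Quotient.mk I (F m) = f (Q.mkQ m) := fun m => LinearMap.congr_fun hF m
  have hu : IsUnit (F v) := by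
    by_contra hn
    have : F v ∈ I := hn
    have h2 := h1 v
    rw [hf, Ideal.Quotient.eq_zero_iff_mem.2 this] at h2
    exact zero_ne_one h2
  obtain ⟨u, hu⟩ := hu
  refine ⟨(u⁻¹ : ℤ_[p]ˣ) • F, by simp [← hu, Units.smul_def], fun q hq => ?_⟩
  have h2 := h1 q
  rw [Submodule.mkQ_apply, (Submodule.Quotient.mk_eq_zero _).2 hq, map_zero,
    Ideal.Quotient.eq_zero_iff_mem, hI, Ideal.mem_span_singleton] at h2
  simp only [LinearMap.smul_apply, Units.smul_def, smul_eq_mul]
  exact h2.mul_left _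

theorem exists_poly : ∃ g : ℤ_[p][X],
    ∏ a : ZMod p, (X - C (a.val : ℤ_[p])) = X ^ p - X + C (p : ℤ_[p]) * g := by
  classical
  have h0 : (∏ a : ZMod p, (X - C a) : (ZMod p)[X]) = X ^ p - X := by
    have h1 := FiniteField.roots_X_pow_card_sub_X (ZMod p)
    rw [ZMod.card] at h1
    have h2 := FiniteField.X_pow_card_sub_X_natDegree_eq (ZMod p) hp.out.one_lt
    have hm : (X ^ p - X : (ZMod p)[X]).Monic :=
      (monic_X_pow p).sub_of_left (by rw [degree_X, degree_X_pow]; exact_mod_cast hp.out.one_lt)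
    have := prod_multiset_X_sub_C_of_monic_of_roots_card_eq hm (by rw [h1, h2]; simp)
    rw [h1] at this
    exact this
  have h3 : (∏ a : ZMod p, (X - C (a.val : ℤ_[p])) - (X ^ p - X)).map PadicInt.toZMod = 0 := by
    simp [Polynomial.map_prod, h0]
  have h4 : C (p : ℤ_[p]) ∣ ∏ a : ZMod p, (X - C (a.val : ℤ_[p])) - (X ^ p - X) := by
    rw [C_dvd_iff_dvd_coeff]
    intro i
    have := congrArg (coeff · i) h3
    simp only [coeff_map, coeff_zero] at this
    rw [← RingHom.mem_ker, PadicInt.ker_toZMod, PadicInt.maximalIdeal_eq_span_p,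
      Ideal.mem_span_singleton] at this
    exact this
  obtain ⟨g, hg⟩ := h4
  exact ⟨g, by rw [← hg]; ring⟩

omit [Module.Free ℤ_[p] M] [Module.Finite ℤ_[p] M] in
theorem aeval_mem (S : Submodule ℤ_[p] M) (Y : End ℤ_[p] M) (hS : ∀ m ∈ S, Y m ∈ S)
    (g : ℤ_[p][X]) {m : M} (hm : m ∈ S) : aeval Y g m ∈ S := by
  induction g using Polynomial.induction_on' with
  | add a b ha hb => rw [map_add]; exact S.add_mem ha hb
  | monomial n a =>
    rw [aeval_monomial, End.mul_apply, Module.algebraMap_end_apply]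
    refine S.smul_mem _ ?_
    induction n with
    | zero => simpa using hm
    | succ n ih => rw [pow_succ', End.mul_apply]; exact hS _ ih

omit [Module.Free ℤ_[p] M] [Module.Finite ℤ_[p] M] in
/-- eigenvectors modulo `Q` -/
theorem eig (S Q : Submodule ℤ_[p] M) (Y : End ℤ_[p] M) (hS : ∀ m ∈ S, Y m ∈ S)
    (hp' : ∀ m ∈ S, (p : ℤ_[p]) • m ∈ Q) (hY : ∀ m ∈ S, (Y ^ p) m = Y m) (h : ¬ S ≤ Q) :
    ∃ v ∈ S, v ∉ Q ∧ ∃ c : ℤ_[p], Y v - c • v ∈ Q := by
  classical
  by_contra hn
  push Not at hn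
  apply h
  have key : ∀ s : Finset (ZMod p), ∀ m ∈ S,
      aeval Y (∏ a ∈ s, (X - C (a.val : ℤ_[p]))) m ∈ Q → m ∈ Q := by
    intro s
    induction s using Finset.induction_on with
    | empty => intro m _ h; simpa using h
    | insert a s ha ih =>
      intro m hm h
      rw [Finset.prod_insert ha, map_mul, End.mul_apply] at h
      refine ih m hm ?_
      by_contra h2
      refine hn _ (aeval_mem S Y hS _ hm) h2 a.val ?_
      simpa using h
  intro m hm
  refine key Finset.univ m hm ?_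
  obtain ⟨g, hg⟩ := exists_poly (p := p)
  rw [hg]
  have : aeval Y (X ^ p - X + C (p : ℤ_[p]) * g) m = (p : ℤ_[p]) • aeval Y g m := by
    simp [hY m hm, Nat.cast_smul_eq_nsmul]
  rw [this]
  exact hp' _ (aeval_mem S Y hS g hm)

/-- sums over free orbits -/
theorem free_sum {H X V : Type*} [Group H] [Fintype H] [MulAction H X] [AddCommGroup V]
    (S : Finset X) (hS : ∀ (h : H), ∀ t ∈ S, h • t ∈ S) (hf : ∀ (h : H), ∀ t ∈ S, h • t = t → h = 1)
    (Q : AddSubgroup V) (F : X → V) (hF : ∀ t ∈ S, ∑ h : H, F (h • t) ∈ Q) : ∑ t ∈ S, F t ∈ Q := by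
  classical
  rw [← Finset.sum_fiberwise_of_maps_to (s := S)
    (t := S.image (Quotient.mk (MulAction.orbitRel H X))) (g := Quotient.mk _)
    (fun t ht => Finset.mem_image_of_mem _ ht)]
  refine Q.sum_mem fun w hw => ?_
  obtain ⟨t, ht, rfl⟩ := Finset.mem_image.1 hw
  have : ∑ h : H, F (h • t) = ∑ i ∈ S with Quotient.mk (MulAction.orbitRel H X) i =
      Quotient.mk (MulAction.orbitRel H X) t, F i := by
    refine Finset.sum_bij (fun h _ => h • t) ?_ ?_ ?_ (fun _ _ => rfl)
    · intro h _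
      exact Finset.mem_filter.2 ⟨hS h t ht, Quotient.sound ⟨h, rfl⟩⟩
    · intro a _ b _ hab
      have := hf (b⁻¹ * a) t ht (by rw [mul_smul, hab, inv_smul_smul])
      rw [inv_mul_eq_one] at this; exact this.symm
    · intro i hi
      obtain ⟨h, hh⟩ := Quotient.exact (Finset.mem_filter.1 hi).2
      exact ⟨h, Finset.mem_univ _, hh⟩
  rw [← this]
  exact hF t ht

end Cfsg.Agent.BR
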