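import Cfsg.Agent.Lib.BR.Simple
import Cfsg.Agent.Lib.Coprime.SylowCount
import Cfsg.Agent.Lib.Coprime.PiSep
import Cfsg.Agent.Lib.Coprime.Semidirect
import Cfsg.Agent.Lib.Lin.SL2
import Cfsg.Prelude.Def_LocalStructure

/-!
# Fewer than `p ^ 2` Sylow subgroups: reduction to simple groups
-/

set_option autoImplicit false

namespace Cfsg.Agent.BR

open Subgroup Cfsg.Agent.Coprime
open scoped MatrixGroups

universe u

variable {p : ℕ} [hp : Fact p.Prime]

theorem one_or_one {a b : ℕ} (ha : a ≡ 1 [MOD p]) (hb : b ≡ 1 [MOD p]) (h : a * b < p ^ 2) :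
    a = 1 ∨ b = 1 := by
  have h2 := hp.out.two_le
  have key : ∀ c, c ≡ 1 [MOD p] → c ≠ 1 → p < c := fun c hc h1 => by
    by_contra h3
    rcases Nat.lt_or_ge c p with h4 | h4
    · have := Nat.ModEq.eq_of_lt_of_lt hc h4 (by omega)
      omega
    · have h5 : c = p := by omega
      subst h5
      have := (Nat.modEq_iff_dvd' (by omega)).1 hc.symm
      have := Nat.le_of_dvd (by omega) this
      omega
  by_contra hc
  push Not at hc
  have h3 := key a ha hc.1
  have h4 := key b hb hc.2
  nlinarith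

theorem prime_pow_of_factorization {n : ℕ} (h0 : n ≠ 0) (h1 : n ≡ 1 [MOD p]) (h : n < p ^ 2)
    (hq : ∀ q, q.Prime → q ^ n.factorization q ≡ 1 [MOD p]) : ∃ q k : ℕ, q.Prime ∧ n = q ^ k := by
  by_cases e : n = 1
  · exact ⟨2, 0, Nat.prime_two, e⟩
  obtain ⟨q, hq1, hq2⟩ := Nat.exists_prime_and_dvd e
  have h2 := Nat.ordProj_mul_ordCompl_eq_self n q
  have h3 : ordCompl[q] n ≡ 1 [MOD p] := by
    have h4 : ordProj[q] n * ordCompl[q] n ≡ 1 * ordCompl[q] n [MOD p] := (hq q hq1).mul_right _
    rw [h2, one_mul] at h4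
    exact h4.symm.trans h1
  rcases one_or_one (hq q hq1) h3 (h2.symm ▸ h) with h5 | h5
  · have := (hq1.dvd_iff_one_le_factorization h0).1 hq2
    have := Nat.one_lt_pow (by omega : n.factorization q ≠ 0) hq1.one_lt
    omega
  · exact ⟨q, _, hq1, by rw [h5, mul_one] at h2; exact h2.symm⟩

theorem NS.card_sylow_ne_one {S : Type u} [Group S] [Finite S] (s : NS S) (h : p ∣ Nat.card S) :
    Nat.card (Sylow p S) ≠ 1 := by
  intro e
  have := s.simple
  obtain ⟨P⟩ : Nonempty (Sylow p S) := inferInstance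
  have : Subsingleton (Sylow p S) := (Nat.card_eq_one_iff_unique.1 e).1
  have h1 : (P : Subgroup S).Normal := P.normal_of_subsingleton
  have h2 : (P : Subgroup S) ≤ pCore p S := Core.le_pCore P.isPGroup'
  rw [pCore_eq_bot_of_isSimpleGroup s.nc, le_bot_iff] at h2
  have h3 := P.dvd_card_of_dvd_card h
  rw [h2, card_bot] at h3
  exact hp.out.one_lt.ne' (Nat.dvd_one.1 h3)

theorem NS.not_isPSolvable {S : Type u} [Group S] [Finite S] (s : NS S) (h : p ∣ Nat.card S) :
    ¬ IsPSolvable p S := by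
  intro hs
  have := s.simple
  rcases pCore_ne_bot_or hs with h1 | h1
  · exact h1 (pCore_eq_bot_of_isSimpleGroup s.nc)
  · have h2 : pPrimeCore p S = ⊤ :=
      (IsSimpleGroup.eq_bot_or_eq_top_of_normal _ inferInstance).resolve_left h1
    have h3 := Core.coprime_card_pPrimeCore (p := p) (G := S)
    rw [h2, card_top] at h3
    exact (hp.out.coprime_iff_not_dvd.1 h3.symm) h

/-- the conclusion of the reduction -/
def Red (p : ℕ) (G : Type u) [Group G] : Prop :=
  (IsPSolvable p G ∧ ∃ q k : ℕ, q.Prime ∧ Nat.card (Sylow p G) = q ^ k) ∨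
    (¬ IsPSolvable p G ∧ ∃ (S : Type u) (_ : Group S) (_ : Finite S), NS S ∧ p ∣ Nat.card S ∧
      Nat.card (Sylow p S) = Nat.card (Sylow p G) ∧ Nat.card S ≤ Nat.card G)

theorem red (G : Type u) [Group G] [Finite G] : Nat.card (Sylow p G) < p ^ 2 → Red p G := by
  refine Core.induction_on_card (P := fun G _ _ => Nat.card (Sylow p G) < p ^ 2 → Red p G) ?_ G
  intro G _ _ ih hn
  obtain ⟨P⟩ : Nonempty (Sylow p G) := inferInstance
  by_cases hc : IsMulCommutative G
  · have : (P : Subgroup G).Normal := ⟨fun n hn g => by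
      rwa [hc.1.1 g n, mul_inv_cancel_right]⟩
    have := P.unique_of_normal this
    exact Or.inl ⟨isPSolvable_of_isSolvable (Group.isSolvable_of_comm hc.1.1), 2, 0, Nat.prime_two,
      Nat.card_unique⟩
  by_cases hs : IsSimpleGroup G
  · by_cases hd : p ∣ Nat.card G
    · exact Or.inr ⟨NS.not_isPSolvable ⟨hs, hc⟩ hd, G, _, inferInstance, ⟨hs, hc⟩, hd, rfl, le_rfl⟩
    · have h1 : (P : Subgroup G) = ⊥ := by
        obtain ⟨k, hk⟩ := P.isPGroup'.exists_card_eq
        rcases k with _ | k
        · exact card_eq_one.1 hk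
        · exact absurd (((dvd_pow_self p k.succ_ne_zero).trans hk.symm.dvd).trans
            (card_subgroup_dvd_card _)) hd
      have : (P : Subgroup G).Normal := h1 ▸ inferInstance
      have := P.unique_of_normal this
      exact Or.inl ⟨isPSolvable_of_coprime (hp.out.coprime_iff_not_dvd.2 hd).symm, 2, 0,
        Nat.prime_two, Nat.card_unique⟩
  have hnt : Nontrivial G := by
    by_contra h
    rw [not_nontrivial_iff_subsingleton] at h
    exact hc ⟨⟨fun a b => Subsingleton.elim _ _⟩⟩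
  obtain ⟨K, hK, hb, ht⟩ : ∃ K : Subgroup G, K.Normal ∧ K ≠ ⊥ ∧ K ≠ ⊤ := by
    by_contra h
    push Not at h
    exact hs ⟨fun K hK => by
      by_cases hb : K = ⊥
      · exact Or.inl hb
      · exact Or.inr (h K hK hb)⟩
  by_cases h : (P : Subgroup G) ⊓ K = ⊥ ∧ (P : Subgroup G) ⊔ K = ⊤
  · have hK' : ¬ p ∣ Nat.card K := by
      have := ((isSylowIn_top P).inf_of_le_normalizer (N := K) le_top le_normalizer_of_normal).2.2
      rwa [h.1, relIndex_bot_left] at this
    have e : Nat.card (Sylow p G) = (centralizer ((P : Subgroup G) : Set G)).relIndex K := by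
      rw [P.card_eq_index_normalizer, ← relIndex_top_right, ← h.2, ← Sylow.coe_coe,
        relIndex_sup_of_le le_normalizer le_normalizer_of_normal, ← inf_relIndex_left,
        inf_normalizer_eq_of_inf_eq_bot le_normalizer_of_normal h.1, inf_relIndex_left]
    refine Or.inl ⟨isPSolvable_of_normal_of_quotient K
      (isPSolvable_of_coprime (hp.out.coprime_iff_not_dvd.2 hK').symm)
      (isPSolvable_of_isPGroup ?_), prime_pow_of_factorization Nat.card_pos.ne'
        (card_sylow_modEq_one p G) hn fun q hq => ?_⟩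
    · refine P.isPGroup'.of_surjective ((QuotientGroup.mk' K).comp (P : Subgroup G).subtype)
        fun g => ?_
      obtain ⟨g, rfl⟩ := QuotientGroup.mk'_surjective K g
      obtain ⟨a, ha, n, hn, rfl⟩ := (Core.mem_sup_of_le_normalizer le_normalizer_of_normal).mp
        (h.2.ge (mem_top g))
      exact ⟨⟨a, ha⟩, by simp [(QuotientGroup.eq_one_iff n).2 hn]⟩
    · rw [e]
      exact pow_factorization_relIndex_centralizer_modEq P.isPGroup' le_normalizer_of_normal hK' hq
  · set N := ((P : Subgroup G) ⊔ K) ⊓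
      normalizer (((P : Subgroup G) ⊓ K : Subgroup G) : Set G) with hN
    have hn' : (((P : Subgroup G) ⊓ K).subgroupOf N).Normal :=
      Core.normal_subgroupOf_of_le_normalizer inf_le_right
    have e := card_sylow_hall K P N hN
    have hlt : Nat.card (N ⧸ ((P : Subgroup G) ⊓ K).subgroupOf N) < Nat.card G := by
      by_cases hb' : (P : Subgroup G) ⊓ K = ⊥
      · have : N ≠ ⊤ := fun e => h ⟨hb', eq_top_iff.mpr (e ▸ inf_le_left)⟩
        exact lt_of_le_of_lt (Nat.le_of_dvd Nat.card_pos (card_quotient_dvd_card _))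
          (Core.card_lt_of_ne_top this)
      · refine lt_of_lt_of_le (Core.card_quotient_lt fun e => hb' ?_) (card_le_card_group N)
        rw [← map_subgroupOf_eq_of_le (H := (P : Subgroup G) ⊓ K) (K := N)
          (le_inf (inf_le_left.trans le_sup_left) le_normalizer), e, Subgroup.map_bot]
    have m1 := card_sylow_modEq_one p (G ⧸ K)
    have m2 := card_sylow_modEq_one p K
    have m3 := card_sylow_modEq_one p (N ⧸ ((P : Subgroup G) ⊓ K).subgroupOf N)
    have p1 : 0 < Nat.card (Sylow p (G ⧸ K)) := Nat.card_pos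
    have p2 : 0 < Nat.card (Sylow p K) := Nat.card_pos
    have p3 : 0 < Nat.card (Sylow p (N ⧸ ((P : Subgroup G) ⊓ K).subgroupOf N)) := Nat.card_pos
    have r1 := ih _ (Core.card_quotient_lt hb)
    have r2 := ih _ (Core.card_lt_of_ne_top ht)
    have r3 := ih _ hlt
    have l1 := (Core.card_quotient_lt (G := G) hb).le
    have l2 := (Core.card_lt_of_ne_top ht).le
    have s3 : IsPSolvable p G → IsPSolvable p (N ⧸ ((P : Subgroup G) ⊓ K).subgroupOf N) :=
      fun h => isPSolvable_quotient (isPSolvable_subgroup h N) _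
    have hn2 := hn
    rw [e] at hn2
    have o1 := one_or_one (m1.mul m2) m3 hn2
    have o2 := one_or_one m1 m2 (lt_of_le_of_lt (Nat.le_mul_of_pos_right _ p3) hn2)
    have o3 := one_or_one m1 m3 (lt_of_le_of_lt
      (Nat.mul_le_mul_right _ (Nat.le_mul_of_pos_right _ p2)) hn2)
    have o4 := one_or_one m2 m3 (lt_of_le_of_lt
      (Nat.mul_le_mul_right _ (Nat.le_mul_of_pos_left _ p1)) hn2)
    have d1 : ∀ a, a ∣ Nat.card (Sylow p G) → a < p ^ 2 := fun a h =>
      lt_of_le_of_lt (Nat.le_of_dvd Nat.card_pos h) hn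
    rcases r1 (d1 _ (e ▸ (dvd_mul_right _ _).mul_right _)) with
      ⟨s1, q1⟩ | ⟨s1, S, _, _, s, hd, eS, lS⟩
    · rcases r2 (d1 _ (e ▸ (dvd_mul_left _ _).mul_right _)) with
        ⟨s2, q2⟩ | ⟨s2, S, _, _, s, hd, eS, lS⟩
      · have hG := isPSolvable_of_normal_of_quotient K s2 s1
        obtain ⟨-, q3⟩ := (r3 (d1 _ (e ▸ dvd_mul_left _ _))).resolve_right fun h => h.1 (s3 hG)
        refine Or.inl ⟨hG, ?_⟩
        rw [e]
        rcases o1 with o1 | o1
        · rwa [o1, one_mul]
        · rcases o2 with o2 | o2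
          · rwa [o1, o2, one_mul, mul_one]
          · rwa [o1, o2, mul_one, mul_one]
      · have h1 := s.card_sylow_ne_one hd
        rw [eS] at h1
        refine Or.inr ⟨fun h => s2 (isPSolvable_subgroup h K), S, _, inferInstance, s, hd, ?_,
          lS.trans l2⟩
        rw [e, eS, o2.resolve_right h1, o4.resolve_left h1, one_mul, mul_one]
    · have h1 := s.card_sylow_ne_one hd
      rw [eS] at h1
      refine Or.inr ⟨fun h => s1 (isPSolvable_quotient h K), S, _, inferInstance, s, hd, ?_,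
        lS.trans l1⟩
      rw [e, eS, o2.resolve_left h1, o3.resolve_left h1, mul_one, mul_one]

/-- two non-commuting elements of order `p` when `p ^ 2` does not divide the order -/
theorem not_isPClosed {G : Type u} [Group G] [Finite G] {m : ℕ} (h : Nat.card G = p * m)
    (hm : ¬ p ∣ m) {a b : G} (ha : a ^ p = 1) (hb : b ^ p = 1) (hab : a * b ≠ b * a) :
    ¬ IsPClosed p G := by
  intro hc
  have key : ∀ (P : Sylow p G) {c : G}, c ^ p = 1 → c ∈ (P : Subgroup G) := fun P c hc' => by
    have := P.unique_of_normal (hc P)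
    have h1 : IsPGroup p (zpowers c) := fun g => ⟨1, by
      obtain ⟨_, k, rfl⟩ := g
      ext
      change (c ^ k) ^ p ^ 1 = 1
      rw [pow_one, ← zpow_natCast, ← zpow_mul, mul_comm k, zpow_mul, zpow_natCast, hc', one_zpow]⟩
    obtain ⟨Q, hQ⟩ := h1.exists_le_sylow
    rw [Subsingleton.elim P Q]
    exact hQ (mem_zpowers c)
  obtain ⟨P⟩ : Nonempty (Sylow p G) := inferInstance
  have m0 : m ≠ 0 := fun e => hm (e ▸ dvd_zero p)
  have h2 : Nat.card P = p := by
    rw [P.card_eq_multiplicity, h, Nat.factorization_mul hp.out.ne_zero m0, Finsupp.add_apply,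
      hp.out.factorization_self, Nat.factorization_eq_zero_of_not_dvd hm, add_zero, pow_one]
  have : IsCyclic P := isCyclic_of_prime_card h2
  exact hab (congrArg Subtype.val (this.isMulCommutative.1.1 ⟨a, key P ha⟩ ⟨b, key P hb⟩))

theorem exists_affine {m : ℕ} (hm : IsPrimePow m) (hm1 : m % p = 1) :
    ∃ (H : Type) (_ : Group H) (_ : Finite H), Nat.card H = p * m ∧ ¬ IsPClosed p H := by
  obtain ⟨q, k, hq, hk, rfl⟩ := (isPrimePow_nat_iff _).1 hm
  haveI := Fact.mk hq
  let F := GaloisField q k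
  have hF : Nat.card F = q ^ k := GaloisField.card q k hk.ne'
  have h1 : p ∣ Nat.card Fˣ := by
    rw [Nat.card_units, hF]
    exact (Nat.modEq_iff_dvd' hm.pos).1
      (show 1 % p = q ^ k % p by rw [hm1, Nat.mod_eq_of_lt hp.out.one_lt])
  obtain ⟨ζ, hζ⟩ := exists_prime_orderOf_dvd_card' p h1
  let φ : Fˣ →* MulAut (Multiplicative F) :=
    { toFun := fun u => AddEquiv.toMultiplicative (DistribMulAction.toAddEquiv F u)
      map_one' := by ext; simp
      map_mul' := fun u v => by ext; simp [mul_smul] }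
  let z : zpowers ζ := ⟨ζ, mem_zpowers ζ⟩
  have hz : z ^ p = 1 := Subtype.ext (by simp [z, ← hζ])
  let a : Multiplicative F ⋊[φ.comp (zpowers ζ).subtype] zpowers ζ := SemidirectProduct.inr z
  let t : Multiplicative F ⋊[φ.comp (zpowers ζ).subtype] zpowers ζ :=
    SemidirectProduct.inl (Multiplicative.ofAdd 1)
  have ha : a ^ p = 1 := by rw [← map_pow, hz, map_one]
  have hc : Nat.card (Multiplicative F ⋊[φ.comp (zpowers ζ).subtype] zpowers ζ) = p * q ^ k := by
    rw [SemidirectProduct.card, Nat.card_zpowers, hζ, mul_comm]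
    exact congrArg _ hF
  refine ⟨_, inferInstance, inferInstance, hc, not_isPClosed hc (fun h => ?_) ha
    (b := t * a * t⁻¹) (by rw [conj_pow, ha]; simp) fun h => ?_⟩
  · have := hp.out.one_lt
    rw [Nat.mod_eq_zero_of_dvd h] at hm1
    omega
  · have h2 := congrArg (fun g => Multiplicative.toAdd (SemidirectProduct.left g)) h
    simp [a, t, φ, z, Units.smul_def] at h2
    have h3 : ((ζ : F) - 1) ^ 2 = 0 := by linear_combination -h2
    have h4 : ζ = 1 := Units.ext (sub_eq_zero.1 (pow_eq_zero_iff two_ne_zero |>.1 h3))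
    rw [h4, orderOf_one] at hζ
    exact hp.out.one_lt.ne hζ

theorem card_PSL2 {F : Type} [Field F] [Fintype F] (h2 : (2 : F) ≠ 0) :
    2 * Nat.card PSL(2, F) =
      Fintype.card F * ((Fintype.card F - 1) * (Fintype.card F + 1)) := by
  have h1 : Nat.card (center SL(2, F)) = 2 := by
    refine le_antisymm Lin.SL2.card_center_le ((one_lt_card_iff_ne_bot _).2 fun e => ?_)
    have h : (-1 : SL(2, F)) ∈ center SL(2, F) := mem_center_iff.2 fun g => by simp
    rw [e, mem_bot] at h
    have := congrArg (fun x : SL(2, F) => x.1 0 0) h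
    simp at this
    exact h2 (by linear_combination -this)
  rw [← Lin.card_SL2, ← (center SL(2, F)).card_mul_index, h1]
  rfl

theorem exists_psl (h2 : p ≠ 2) : ∃ (H : Type) (_ : Group H) (_ : Finite H),
    Nat.card H = p * (p ^ 2 - 1) / 2 ∧ ¬ IsPClosed p H := by
  have h3 : (2 : ZMod p) ≠ 0 := fun e => h2 ((Nat.prime_dvd_prime_iff_eq hp.out Nat.prime_two).1
    ((ZMod.natCast_eq_zero_iff 2 p).1 (by exact_mod_cast e)))
  have hc := card_PSL2 h3
  rw [ZMod.card] at hc
  obtain ⟨k, hk⟩ := hp.out.odd_of_ne_two h2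
  have h4 : Nat.card PSL(2, ZMod p) = p * (k * (p + 1)) := by
    have : p - 1 = 2 * k := by omega
    rw [this] at hc
    linarith
  have h5 : p ^ 2 - 1 = 2 * (k * (p + 1)) := by
    have : p ^ 2 = 2 * (k * (p + 1)) + 1 := by rw [hk]; ring
    omega
  let u : SL(2, ZMod p) := ⟨!![1, 1; 0, 1], by simp [Matrix.det_fin_two]⟩
  let v : SL(2, ZMod p) := ⟨!![1, 0; 1, 1], by simp [Matrix.det_fin_two]⟩
  have hu : ∀ n : ℕ, (u ^ n).1 = !![1, (n : ZMod p); 0, 1] := fun n => by
    induction n with
    | zero => simp [Matrix.one_fin_two]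
    | succ n ih => rw [pow_succ, Matrix.SpecialLinearGroup.coe_mul, ih]; simp [u, add_comm]
  have hv : ∀ n : ℕ, (v ^ n).1 = !![1, 0; (n : ZMod p), 1] := fun n => by
    induction n with
    | zero => simp [Matrix.one_fin_two]
    | succ n ih => rw [pow_succ, Matrix.SpecialLinearGroup.coe_mul, ih]; simp [v, add_comm]
  have hu' : u ^ p = 1 := Subtype.ext (by rw [hu]; simp [Matrix.one_fin_two])
  have hv' : v ^ p = 1 := Subtype.ext (by rw [hv]; simp [Matrix.one_fin_two])
  refine ⟨PSL(2, ZMod p), inferInstance, inferInstance, ?_, not_isPClosed h4 (fun h => ?_)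
    (a := QuotientGroup.mk' _ u) (b := QuotientGroup.mk' _ v) (by rw [← map_pow, hu', map_one])
    (by rw [← map_pow, hv', map_one]) fun h => ?_⟩
  · rw [h4, h5, mul_left_comm p 2, Nat.mul_div_cancel_left _ two_pos]
  · rcases hp.out.dvd_mul.1 h with h | h
    · have := hp.out.two_le
      have := Nat.le_of_dvd (by omega) h
      omega
    · exact hp.out.one_lt.ne' (Nat.dvd_one.1 ((Nat.dvd_add_right dvd_rfl).1 h))
  · rw [← map_mul, ← map_mul] at h
    obtain ⟨z, hz, h⟩ := (QuotientGroup.mk'_eq_mk' _).1 h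
    obtain ⟨c, hc⟩ := Lin.SL2.mem_center_iff_scalar.1 hz
    have h6 : (!![1, 1; 0, 1] * !![1, 0; 1, 1] : Matrix (Fin 2) (Fin 2) (ZMod p)) * z.1 =
      !![1, 0; 1, 1] * !![1, 1; 0, 1] := congrArg Subtype.val h
    rw [← hc] at h6
    have h7 := congrFun (congrFun h6 0) 0
    have h8 := congrFun (congrFun h6 0) 1
    simp [Matrix.mul_apply, Fin.sum_univ_two] at h7 h8
    rw [h8] at h7
    simp at h7

end Cfsg.Agent.BR
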