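import Cfsg.Agent.Lib.BR.Lat

/-!
# Group theoretic setup for a Sylow subgroup of order `p`
-/

set_option autoImplicit false

namespace Cfsg.Agent.BR

open Subgroup Cfsg.Agent.OO

universe u

variable {G : Type u} [Group G] {p : ℕ} [hp : Fact p.Prime] {x y : G} {K H : Subgroup G}

/-- `x ^ i` for `i : ZMod p` -/
def xp (x : G) (i : ZMod p) : G := x ^ i.val

theorem xp_zero : xp x (0 : ZMod p) = 1 := by simp [xp]
theorem xp_one : xp x (1 : ZMod p) = x := by simp [xp, ZMod.val_one]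
omit hp in
theorem xp_mem (i : ZMod p) : xp x i ∈ zpowers x := npow_mem_zpowers x _
theorem xp_natCast (hx : orderOf x = p) (n : ℕ) : xp x (n : ZMod p) = x ^ n := by
  rw [xp, ZMod.val_natCast, ← hx, pow_mod_orderOf]
theorem xp_add (hx : orderOf x = p) (a b : ZMod p) : xp x (a + b) = xp x a * xp x b := by
  have := xp_natCast hx (a.val + b.val)
  rw [Nat.cast_add, ZMod.natCast_zmod_val, ZMod.natCast_zmod_val, pow_add] at this
  exact this
theorem xp_pow (hx : orderOf x = p) (a : ZMod p) (n : ℕ) : xp x a ^ n = xp x (a * (n : ZMod p)) := by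
  have := xp_natCast hx (a.val * n)
  rw [Nat.cast_mul, ZMod.natCast_zmod_val, pow_mul] at this
  exact this.symm
theorem xp_neg (hx : orderOf x = p) (a : ZMod p) : xp x (-a) = (xp x a)⁻¹ := by
  rw [eq_inv_iff_mul_eq_one, ← xp_add hx, neg_add_cancel, xp_zero]
theorem xp_inj (hx : orderOf x = p) : Function.Injective (xp x : ZMod p → G) := fun a b h =>
  ZMod.val_injective p (pow_injOn_Iio_orderOf (by simpa [hx] using ZMod.val_lt a)
    (by simpa [hx] using ZMod.val_lt b) h)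
theorem xp_eq_one (hx : orderOf x = p) {a : ZMod p} : xp x a = 1 ↔ a = 0 :=
  ⟨fun h => xp_inj hx (h.trans xp_zero.symm), fun h => h ▸ xp_zero⟩
theorem exists_xp (hx : orderOf x = p) {u : G} (hu : u ∈ zpowers x) : ∃ i : ZMod p, u = xp x i := by
  have hfin : IsOfFinOrder x := orderOf_pos_iff.1 (hx ▸ hp.out.pos)
  obtain ⟨n, rfl⟩ := hfin.mem_powers_iff_mem_zpowers.2 hu
  exact ⟨n, (xp_natCast hx n).symm⟩
theorem xp_pow_p (hx : orderOf x = p) (a : ZMod p) : xp x a ^ p = 1 := by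
  rw [xp_pow hx, ZMod.natCast_self, mul_zero, xp_zero]

theorem exists_sig (hx : orderOf x = p) (g : 𝐍(zpowers x)) :
    ∃ i : ZMod p, g * x * (g : G)⁻¹ = xp x i :=
  exists_xp hx ((mem_normalizer_iff.1 g.2 x).1 (mem_zpowers x))

theorem conj_xp_of (hx : orderOf x = p) {g : G} {s : ZMod p} (h : g * x * g⁻¹ = xp x s)
    (i : ZMod p) : g * xp x i * g⁻¹ = xp x (s * i) := by
  rw [xp, ← conj_pow, h, xp_pow hx, ZMod.natCast_zmod_val]

/-- the action of `N(P)` on `P` -/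
noncomputable def sig (hx : orderOf x = p) : 𝐍(zpowers x) →* (ZMod p)ˣ :=
  MonoidHom.toHomUnits
    { toFun := fun g => (exists_sig hx g).choose
      map_one' := xp_inj hx (by rw [← (exists_sig hx 1).choose_spec, xp_one]; simp)
      map_mul' := fun a b => xp_inj hx (by
        rw [← (exists_sig hx (a * b)).choose_spec, ← conj_xp_of hx (exists_sig hx a).choose_spec,
          ← (exists_sig hx b).choose_spec, coe_mul]; group) }

theorem conj_xp (hx : orderOf x = p) (g : 𝐍(zpowers x)) (i : ZMod p) :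
    g * xp x i * (g : G)⁻¹ = xp x ((sig hx g : ZMod p) * i) :=
  conj_xp_of hx (exists_sig hx g).choose_spec i

theorem sig_eq_one (hx : orderOf x = p) (g : 𝐍(zpowers x)) : sig hx g = 1 ↔ (g : G) ∈ 𝐂[x] := by
  have := conj_xp hx g 1
  rw [xp_one, mul_one] at this
  rw [mem_centralizer_singleton_iff, ← mul_inv_eq_iff_eq_mul, this, ← Units.val_eq_one]
  exact ⟨fun h => by rw [h, xp_one], fun h => xp_inj hx (h.trans xp_one.symm)⟩

omit hp in
theorem C_le_N : 𝐂[x] ≤ 𝐍(zpowers x) := fun g hg => by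
  have h : Commute g x := mem_centralizer_singleton_iff.1 hg
  refine centralizer_le_normalizer _ (mem_centralizer_iff.2 ?_)
  rintro _ ⟨i, rfl⟩
  exact (h.zpow_right i).symm

theorem ker_sig (hx : orderOf x = p) : (sig hx).ker = (𝐂[x]).subgroupOf 𝐍(zpowers x) := by
  ext g; exact sig_eq_one hx g

theorem exists_dat [Finite G] (P : Sylow p G) (hP : Nat.card P = p) :
    ∃ (x y : G) (K H : Subgroup G), Dat p x y K H ∧ zpowers x = P := by
  have hc : IsCyclic P := isCyclic_of_prime_card hP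
  obtain ⟨x, hx⟩ := (P : Subgroup G).isCyclic_iff_exists_zpowers_eq_top.1 hc
  have ho : orderOf x = p := by rw [← Nat.card_zpowers, hx, hP]
  have hcop : Nat.Coprime (Nat.card ((zpowers x).subgroupOf 𝐍(zpowers x)))
      ((zpowers x).subgroupOf 𝐍(zpowers x)).index := by
    rw [Nat.card_congr (subgroupOfEquivOfLe le_normalizer).toEquiv, Nat.card_zpowers, ho]
    refine (Nat.Prime.coprime_iff_not_dvd hp.out).2 fun h => P.not_dvd_index ?_
    rw [← hx]
    exact h.trans (relIndex_dvd_index_of_le le_normalizer)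
  obtain ⟨H, hH⟩ := exists_left_complement'_of_coprime hcop
  obtain ⟨⟨_, y, rfl⟩, hy⟩ := IsCyclic.exists_generator (α := ((sig ho).comp H.subtype).range)
  refine ⟨x, y, H.map (Subgroup.subtype _) ⊓ 𝐂[x], H.map (Subgroup.subtype _), ⟨ho, ?_,
    map_subtype_le _, fun g hg => ?_, rfl, ⟨y, y.2, rfl⟩, ?_, ⟨pow_mem (mem_map_of_mem _ y.2) _, ?_⟩⟩, hx⟩
  · rw [card_map_of_injective (subtype_injective _), ← hH.index_eq_card]
    rw [Nat.card_congr (subgroupOfEquivOfLe le_normalizer).toEquiv, Nat.card_zpowers, ho] at hcop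
    exact (Nat.Prime.coprime_iff_not_dvd hp.out).1 hcop
  · obtain ⟨⟨h, u⟩, e⟩ := hH.2 ⟨g, hg⟩
    exact ⟨h, ⟨h, h.2, rfl⟩, u, u.2, (congrArg Subtype.val e).symm⟩
  · rintro _ ⟨h, hh, rfl⟩
    obtain ⟨j, hj⟩ := mem_powers_iff_mem_zpowers.2 (hy ⟨_, ⟨h, hh⟩, rfl⟩)
    have hj' : sig ho y ^ j = sig ho h := congrArg Subtype.val hj
    refine ⟨j, (((y : 𝐍(zpowers x)) ^ j)⁻¹ * h : 𝐍(zpowers x)),
      ⟨⟨_, mul_mem (inv_mem (pow_mem y.2 j)) hh, rfl⟩, (sig_eq_one ho _).1 ?_⟩, by simp⟩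
    rw [map_mul, map_inv, map_pow, hj', inv_mul_cancel]
  · refine (sig_eq_one ho ((y : 𝐍(zpowers x)) ^ (p - 1))).1 ?_
    rw [map_pow, ZMod.units_pow_card_sub_one_eq_one]

variable [Finite G]

namespace Dat
variable (d : Dat p x y K H)
include d

omit hp [Finite G] in
theorem KC : K ≤ 𝐂[x] := d.defK ▸ inf_le_right

omit hp [Finite G] in
theorem copK : ¬ p ∣ ♯K := fun h => d.cop (h.trans (card_dvd_of_le d.KH))

omit [Finite G] in
theorem mem_C {c : G} : c ∈ 𝐂[x] ↔ ∃ i : ZMod p, ∃ k ∈ K, c = xp x i * k := by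
  have hP : zpowers x ≤ 𝐂[x] := zpowers_le.2 (mem_centralizer_singleton_iff.2 rfl)
  constructor
  · intro hc
    obtain ⟨h, hh, u, hu, rfl⟩ := d.gen c (C_le_N hc)
    have hk : h ∈ K := d.defK ▸ ⟨hh, (mul_mem_cancel_right (hP hu)).1 hc⟩
    obtain ⟨i, rfl⟩ := exists_xp d.ord hu
    exact ⟨i, h, hk, (d.KP hk hu).eq⟩
  · rintro ⟨i, k, hk, rfl⟩
    exact mul_mem (hP (xp_mem i)) (d.KC hk)

theorem mul_mem_K {i : ZMod p} {k : G} (hk : k ∈ K) : xp x i * k ∈ K ↔ i = 0 := by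
  rw [mul_mem_cancel_right hk, ← xp_eq_one d.ord]
  exact ⟨fun h => d.eq_one (xp_mem i) (d.KH h), fun h => h ▸ one_mem _⟩

theorem sumC {V : Type*} [AddCommMonoid V] (F : G → V) :
    ∑ c ∈ elts (𝐂[x] : Set G), F c = ∑ i : ZMod p, ∑ k ∈ elts (K : Set G), F (xp x i * k) := by
  classical
  rw [← Finset.sum_product']
  symm
  refine Finset.sum_bij (fun a _ => xp x a.1 * a.2) ?_ ?_ ?_ (fun _ _ => rfl)
  · intro a ha
    exact mem_elts.2 (d.mem_C.2 ⟨_, _, mem_elts.1 (Finset.mem_product.1 ha).2, rfl⟩)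
  · intro a ha b hb hab
    have h1 : xp x (-b.1 + a.1) * a.2 = b.2 := by
      rw [xp_add d.ord, xp_neg d.ord, mul_assoc, hab]; simp
    have h2 := (d.mul_mem_K (mem_elts.1 (Finset.mem_product.1 ha).2)).1
      (h1 ▸ mem_elts.1 (Finset.mem_product.1 hb).2)
    rw [h2, xp_zero, one_mul] at h1
    exact Prod.ext (neg_add_eq_zero.1 h2).symm h1
  · intro c hc
    obtain ⟨i, k, hk, rfl⟩ := d.mem_C.1 (mem_elts.1 hc)
    exact ⟨(i, k), Finset.mem_product.2 ⟨Finset.mem_univ _, mem_elts.2 hk⟩, rfl⟩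

theorem cardC : ♯𝐂[x] = p * ♯K := by
  have := d.sumC (fun _ => 1)
  simpa [card_elts] using this

omit hp [Finite G] in
theorem Knorm' {g k : G} (hg : g ∈ 𝐍(zpowers x)) (hk : k ∈ K) : g * k * g⁻¹ ∈ K := by
  obtain ⟨h, hh, u, hu, rfl⟩ := d.gen g hg
  have := d.Knorm (inv_mem hh) hk
  rw [inv_inv] at this
  convert this using 1
  rw [mul_assoc h u, ← (d.KP hk hu).eq]; group

omit hp in
theorem N_le_NK : 𝐍(zpowers x) ≤ 𝐍(K) := fun _ hg =>
  mem_normalizer_fintype fun _ hk => d.Knorm' hg hk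

omit hp in
theorem K_normal : K ⊴ 𝐂[x] := ⟨d.KC, C_le_N.trans d.N_le_NK⟩

theorem cent_xp {i : ZMod p} (hi : i ≠ 0) : 𝐂[xp x i] = 𝐂[x] := by
  have h := d.zpowers_eq (xp_mem i) (fun h => hi ((xp_eq_one d.ord).1 h))
  rw [← centralizer_closure, ← centralizer_closure {x}, ← zpowers_eq_closure, ← zpowers_eq_closure, h]

omit [Finite G] in
theorem pow_cardK {i : ZMod p} {k : G} (hk : k ∈ K) :
    (xp x i * k) ^ ♯K = xp x (i * ((♯K : ℕ) : ZMod p)) := by
  rw [(d.KP hk (xp_mem i)).symm.mul_pow, xp_pow d.ord, orderOf_dvd_iff_pow_eq_one.1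
    (orderOf_dvd_natCard _ hk), mul_one]

omit [Finite G] in
theorem cardK_ne : ((♯K : ℕ) : ZMod p) ≠ 0 := fun h => d.copK ((ZMod.natCast_eq_zero_iff _ _).1 h)

theorem mem_A {c : G} : c ∈ (𝐂[x] : Set G) \ K ↔ ∃ i : ZMod p, i ≠ 0 ∧ ∃ k ∈ K, c = xp x i * k := by
  constructor
  · rintro ⟨h1, h2⟩
    obtain ⟨i, k, hk, rfl⟩ := d.mem_C.1 h1
    exact ⟨i, fun h => h2 ((d.mul_mem_K hk).2 h), k, hk, rfl⟩
  · rintro ⟨i, hi, k, hk, rfl⟩
    exact ⟨d.mem_C.2 ⟨i, k, hk, rfl⟩, fun h => hi ((d.mul_mem_K hk).1 h)⟩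

omit [Finite G] in
theorem conj_mul (g : 𝐍(zpowers x)) (i : ZMod p) (k : G) :
    g * (xp x i * k) * (g : G)⁻¹ = xp x ((sig d.ord g : ZMod p) * i) * (g * k * (g : G)⁻¹) := by
  rw [← conj_xp]; group

theorem tiA : NormedTI ((𝐂[x] : Set G) \ K) ⊤ 𝐍(zpowers x) where
  nonempty := ⟨_, d.mem_A.2 ⟨1, one_ne_zero, 1, one_mem _, rfl⟩⟩
  le := le_top
  conj_mem g hg a ha := by
    obtain ⟨i, hi, k, hk, rfl⟩ := d.mem_A.1 ha
    exact d.mem_A.2 ⟨_, mul_ne_zero (sig d.ord ⟨g, hg⟩).ne_zero hi, _, d.Knorm' hg hk,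
      d.conj_mul ⟨g, hg⟩ i k⟩
  mem_of_conj g _ a ha h := by
    obtain ⟨i, hi, k, hk, rfl⟩ := d.mem_A.1 ha
    obtain ⟨j, -, l, hl, h⟩ := d.mem_A.1 h
    have h1 := congrArg (· ^ ♯K) h
    simp only [_root_.conj_pow, d.pow_cardK hk, d.pow_cardK hl] at h1
    exact d.mem_norm (xp_mem _) (fun h => mul_ne_zero hi d.cardK_ne ((xp_eq_one d.ord).1 h))
      (h1 ▸ xp_mem _)

theorem tiP : NormedTI (sharp (zpowers x)) ⊤ 𝐍(zpowers x) where
  nonempty := ⟨x, mem_zpowers x, fun h => hp.out.ne_one (by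
    rw [← d.ord, orderOf_eq_one_iff]; exact h)⟩
  le := le_top
  conj_mem g hg a ha := ⟨(mem_normalizer_iff.1 hg a).1 ha.1, fun h => ha.2 (by simpa using h)⟩
  mem_of_conj g _ a ha h := d.mem_norm ha.1 ha.2 h.1

theorem dvd_orderOf {c : G} (hc : c ∈ (𝐂[x] : Set G) \ K) : p ∣ orderOf c := by
  obtain ⟨i, hi, k, hk, rfl⟩ := d.mem_A.1 hc
  refine dvd_trans ?_ (orderOf_pow_dvd ♯K)
  rw [d.pow_cardK hk, orderOf_eq_prime (xp_pow_p d.ord _)
    (fun h => mul_ne_zero hi d.cardK_ne ((xp_eq_one d.ord).1 h))]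

theorem cardN : ♯𝐍(zpowers x) = ♯H * p := by
  classical
  have := Fintype.ofFinite G
  have h := d.sumN (fun _ => 1)
  simp only [Finset.sum_const, Finset.card_univ, smul_eq_mul, mul_one,
    ← Nat.card_eq_fintype_card, d.cardP] at h
  rw [← h, Nat.card_eq_fintype_card, Fintype.card_subtype]

theorem not_dvd_index : ¬ p ∣ (zpowers x).index := by
  intro h
  have hP : IsPGroup p (zpowers x) := IsPGroup.of_card (n := 1) (by rw [d.cardP, pow_one])
  obtain ⟨Q, hQ⟩ := hP.exists_le_sylow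
  by_cases h1 : zpowers x = Q
  · exact Q.not_dvd_index (h1 ▸ h)
  have : Group.IsNilpotent Q := Q.2.isNilpotent
  have h2 := Group.normalizerCondition_of_isNilpotent (G := Q) ((zpowers x).subgroupOf Q)
    (lt_top_iff_ne_top.2 fun h => h1 (le_antisymm hQ (subgroupOf_eq_top.1 h)))
  obtain ⟨g, hg, hg'⟩ := SetLike.exists_of_lt h2
  have hgN : (g : G) ∈ 𝐍(zpowers x) := mem_normalizer_fintype fun n hn =>
    (mem_normalizer_iff.1 hg ⟨n, hQ hn⟩).1 hn
  obtain ⟨h, hh, u, hu, e⟩ := d.gen _ hgN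
  have hQh : h ∈ Q := (mul_mem_cancel_right (hQ hu)).1 (e ▸ g.2)
  obtain ⟨k, hk⟩ := Q.2.exists_orderOf_eq_pow ⟨h, hQh⟩
  rw [orderOf_mk] at hk
  have h3 : orderOf h ∣ ♯H := orderOf_dvd_natCard _ hh
  rcases k with _ | k
  · rw [pow_zero, orderOf_eq_one_iff] at hk
    exact hg' (show (g : G) ∈ zpowers x by rw [e, hk, one_mul]; exact hu)
  · exact d.cop ((dvd_pow_self p k.succ_ne_zero).trans (hk ▸ h3))

theorem exists_conj_P {u : G} (hu : orderOf u = p) : ∃ g, g * u * g⁻¹ ∈ zpowers x := by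
  have hP : IsPGroup p (zpowers x) := IsPGroup.of_card (n := 1) (by rw [d.cardP, pow_one])
  have hU : IsPGroup p (zpowers u) :=
    IsPGroup.of_card (n := 1) (by rw [Nat.card_zpowers, hu, pow_one])
  obtain ⟨Q, hQ⟩ := hU.exists_le_sylow
  obtain ⟨g, hg⟩ := MulAction.exists_smul_eq G Q (hP.toSylow d.not_dvd_index)
  refine ⟨g, ?_⟩
  have : g * u * g⁻¹ ∈ g • Q := smul_mem_pointwise_smul _ (MulAut.conj g) _ (hQ (mem_zpowers u))
  rwa [hg] at this

theorem exists_conj_A {g : G} (hg : p ∣ orderOf g) : g ∈ classSupp ((𝐂[x] : Set G) \ K) ⊤ := by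
  obtain ⟨m, hm⟩ := hg
  have hm0 : m ≠ 0 := by rintro rfl; exact (orderOf_pos g).ne' hm
  have h1 : orderOf (g ^ m) = p := by
    rw [orderOf_pow' _ hm0, hm, Nat.gcd_mul_left_left, Nat.mul_div_cancel _ (Nat.pos_of_ne_zero hm0)]
  obtain ⟨a, ha⟩ := d.exists_conj_P h1
  obtain ⟨i, hi⟩ := exists_xp d.ord ha
  have hi0 : i ≠ 0 := by
    rintro rfl
    rw [xp_zero, mul_inv_eq_one, mul_eq_left] at hi
    exact hp.out.ne_one (by rw [← h1, hi, orderOf_one])
  refine mem_classSupp.2 ⟨a * g * a⁻¹, ⟨?_, fun h => d.copK ?_⟩, a⁻¹, mem_top _, by group⟩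
  · rw [← d.cent_xp hi0, ← hi, ← _root_.conj_pow]
    exact mem_centralizer_singleton_iff.2 (Commute.self_pow _ m).eq
  · have h2 : orderOf (a * g * a⁻¹) ∣ ♯K := orderOf_dvd_natCard _ h
    have h3 : orderOf (a * g * a⁻¹) = orderOf g := (MulAut.conj a).orderOf_eq g
    exact (Dvd.intro _ hm.symm).trans (h3 ▸ h2)

end Dat

theorem sum_TI {A : Set G} {N : Subgroup G} (h : NormedTI A ⊤ N) {φ : G → ℂ} (hφ : φ ∈ CF ⊤) :
    ∑ g ∈ elts (classSupp A ⊤), φ g = N.index * ∑ a ∈ elts A, φ a := by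
  classical
  have hA : A ⊆ N := h.subset fun _ _ => mem_top _
  have h1 := indicator_mem_CF hA h.conj_mem (cf1_mem_CF N)
  have h2 := cfdot_cfInd_right le_top hφ h1.1.1
  rw [cfdotEr hA _ h1.2, cfdotEr (A := classSupp A ⊤) (fun _ _ => mem_top _) _
    (cfInd_suppOn _ _ h1.2)] at h2
  have h3 : ∀ g ∈ elts (classSupp A ⊤), cfInd ⊤ N (A.indicator (cf1 N)) g = 1 := fun g hg => by
    obtain ⟨a, ha, b, hb, rfl⟩ := mem_classSupp.1 (mem_elts.1 hg)
    rw [cfunJ (cfInd_mem_CF _ _ _) hb, normedTI_Ind_id h h1 ha (mem_top _),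
      Set.indicator_of_mem ha, cf1E (hA ha)]
  rw [Finset.sum_congr rfl fun g hg => by rw [h3 g hg, map_one, mul_one],
    Finset.sum_congr (s₁ := elts A) rfl fun g hg => by
      rw [Set.indicator_of_mem (mem_elts.1 hg), cf1E (hA (mem_elts.1 hg)), map_one, mul_one]] at h2
  have h4 := card_mul_relIndexC (le_top (a := N))
  rw [relIndex_top_right] at h4
  have h5 := cardC_ne_zero N
  have h6 := cardC_ne_zero (⊤ : Subgroup G)
  field_simp at h2
  apply mul_left_cancel₀ h5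
  linear_combination h2 - (∑ a ∈ elts A, φ a) * h4

end Cfsg.Agent.BR
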