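import Cfsg.Agent.Lib.BR.Deg

/-!
# Simple groups with fewer than `p ^ 2` Sylow `p`-subgroups: the degrees
-/

set_option autoImplicit false

namespace Cfsg.Agent.BR

open Subgroup Cfsg.Agent.OO
open scoped ComplexConjugate

universe u

variable {G : Type u} [Group G] [Finite G] {p : ℕ} [hp : Fact p.Prime] {x y : G} {K H : Subgroup G}

/-- the degree as a natural number -/
noncomputable def dg (θ : G → ℂ) : ℕ := ⌊(θ 1).re⌋₊

omit hp [Finite G] in
theorem dg_of {θ : G → ℂ} {f : ℕ} (h : θ 1 = f) : dg θ = f := by simp [dg, h]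

omit hp in
theorem dg_eq {L : Subgroup G} {θ : G → ℂ} (h : IsChar L θ) : θ 1 = dg θ := by
  obtain ⟨f, hf⟩ := Cnat_char1 h
  rw [dg_of hf, hf]

omit hp in
theorem dg_one : dg (cf1 (⊤ : Subgroup G)) = 1 := dg_of (by rw [cf1_one, Nat.cast_one])

omit hp in
theorem dg_pos {L : Subgroup G} {θ : G → ℂ} (h : IsIrr L θ) : 0 < dg θ :=
  Nat.pos_of_ne_zero fun h0 => irr1_neq0 h (by rw [dg_eq h.isChar, h0, Nat.cast_zero])

omit hp in
theorem le_norm_of_ab {P : Subgroup G} (hP : Ab P) {φ : G → ℂ} (h : IsChar P φ) :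
    ∃ s : ℕ, ⟪φ, φ⟫[P] = s ∧ dg φ ≤ s := by
  have hm : ∀ θ, IsIrr P θ → ∃ n : ℕ, ⟪φ, θ⟫[P] = n := fun θ hθ => Cnat_cfdot_char h hθ.isChar
  choose! m hm using hm
  refine ⟨∑ θ ∈ Irr P, m θ * m θ, ?_, ?_⟩
  · rw [cfdot_sum_irr h.mem_CF]; push_cast
    exact Finset.sum_congr rfl fun θ hθ => by rw [hm θ (mem_Irr.1 hθ), map_natCast]
  · have : dg φ = ∑ θ ∈ Irr P, m θ := dg_of (by
      rw [cfun_apply_sum_cfdot h.mem_CF]; push_cast
      exact Finset.sum_congr rfl fun θ hθ => by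
        rw [hm θ (mem_Irr.1 hθ), (irr_abelian_lin hP (mem_Irr.1 hθ)).one, mul_one])
    rw [this]
    exact Finset.sum_le_sum fun θ _ => Nat.le_mul_self _

/-- non-abelian simple -/
structure NS (G : Type u) [Group G] : Prop where
  simple : IsSimpleGroup G
  nc : ¬ IsMulCommutative G

namespace NS
variable (s : NS G)
include s

omit hp in
theorem ker_eq_bot {θ : G → ℂ} (h : IsIrr ⊤ θ) (h1 : θ ≠ cf1 ⊤) : cfker ⊤ θ = ⊥ :=
  (s.simple.eq_bot_or_eq_top_of_normal _ (normalIn_top.1 (cfker_normal h.mem_CF))).resolve_right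
    fun e => h1 (h.le_cfker_iff.1 e.ge)

omit hp in
theorem lin_eq (l : G → ℂ) (h : IsLinChar ⊤ l) : l = cf1 ⊤ := by
  by_contra h1
  have h2 := lin_char_der1 h
  rw [s.ker_eq_bot h.isIrr h1, le_bot_iff] at h2
  refine s.nc ⟨⟨fun a b => ?_⟩⟩
  have := commutator_mem_commutator (mem_top a) (mem_top b)
  rw [show ⁅(⊤ : Subgroup G), ⊤⁆ = ⊥ from h2, mem_bot] at this
  exact commutatorElement_eq_one_iff_mul_comm.1 this

omit hp in
theorem dg_ne_one {θ : G → ℂ} (h : IsIrr ⊤ θ) (h1 : θ ≠ cf1 ⊤) : dg θ ≠ 1 := fun e =>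
  h1 (s.lin_eq _ (h.isLinChar (by rw [dg_eq h.isChar, e, Nat.cast_one])))

omit [Finite G] in
theorem index_ne_one (d : Dat p x y K H) : (𝐍(zpowers x)).index ≠ 1 := by
  rw [Ne, index_eq_one, normalizer_eq_top_iff]
  intro h
  rcases s.simple.eq_bot_or_eq_top_of_normal _ h with h | h
  · have := d.cardP
    rw [h, card_bot] at this
    exact hp.out.ne_one this.symm
  · have : IsCyclic G := ⟨x, fun g => by change g ∈ zpowers x; rw [h]; trivial⟩
    exact s.nc inferInstance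

end NS

namespace Dat
variable (d : Dat p x y K H)

omit [Finite G] in
/-- the image of `y` -/
noncomputable def σy : (ZMod p)ˣ := sig d.ord ⟨y, d.norm d.yH⟩

omit [Finite G] in
theorem E_eq : d.E = zpowers d.σy := by
  refine le_antisymm ?_ (zpowers_le.2 ⟨_, rfl⟩)
  rintro _ ⟨⟨g, hg⟩, rfl⟩
  obtain ⟨h, hh, u, hu, rfl⟩ := d.gen g hg
  obtain ⟨j, k, hk, rfl⟩ := d.cyc h hh
  have hP : zpowers x ≤ 𝐂[x] := zpowers_le.2 (mem_centralizer_singleton_iff.2 rfl)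
  have hc : k * u ∈ 𝐂[x] := mul_mem (d.KC hk) (hP hu)
  have : (⟨y ^ j * k * u, hg⟩ : 𝐍(zpowers x)) = ⟨y, d.norm d.yH⟩ ^ j * ⟨k * u, C_le_N hc⟩ :=
    Subtype.ext (mul_assoc _ _ _)
  rw [this, map_mul, (sig_eq_one d.ord ⟨_, C_le_N hc⟩).2 hc, mul_one, map_pow]
  exact npow_mem_zpowers _ j

omit [Finite G] in
theorem orderOf_σy : orderOf d.σy = Nat.card d.E := by rw [d.E_eq, Nat.card_zpowers]

omit [Finite G] in
theorem pow_mem_K {j : ℕ} : y ^ j ∈ K ↔ Nat.card d.E ∣ j := by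
  rw [← d.orderOf_σy, orderOf_dvd_iff_pow_eq_one, σy, ← map_pow, sig_eq_one]
  exact ⟨fun h => d.KC h, fun h => d.defK.ge ⟨pow_mem d.yH j, h⟩⟩

omit [Finite G] in
theorem orderOf_y (hK : K = ⊥) : orderOf y = Nat.card d.E :=
  Nat.dvd_antisymm (orderOf_dvd_iff_pow_eq_one.2 (mem_bot.1 (hK ▸ d.pow_mem_K.2 dvd_rfl)))
    (d.pow_mem_K.1 (by rw [pow_orderOf_eq_one]; exact one_mem _))

include d in
theorem val_coset {χ : G → ℂ} (h : χ ∈ CF ⊤) {g : G} (hg : g ∈ 𝐍(zpowers x)) (hg' : g ∉ 𝐂[x])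
    (i : ZMod p) : χ (g * xp x i) = χ g := by
  have h1 : (1 : ZMod p) - sig d.ord ⟨g, hg⟩ ≠ 0 := fun e => hg' ((sig_eq_one d.ord ⟨g, hg⟩).1
    (Units.ext (sub_eq_zero.1 e).symm))
  have h2 : ∀ i, g * xp x i * g⁻¹ = _ := conj_xp d.ord ⟨g, hg⟩
  generalize (sig d.ord ⟨g, hg⟩ : ZMod p) = σ at h1 h2
  replace h2 := h2 (-(i / (1 - σ)))
  rw [cfun_mul_comm h (mem_top _), ← cfunJ h (mem_top (xp x (i / (1 - σ)))) g,
    ← xp_neg d.ord, mul_assoc, eq_mul_of_mul_inv_eq h2, ← mul_assoc, ← xp_add d.ord]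
  congr 3
  field_simp
  ring

include d in
theorem val_zero {χ : G → ℂ} (h : IsChar ⊤ χ)
    (h0 : χ 1 + ∑ a : (ZMod p)ˣ, χ (xp x (a : ZMod p)) = 0) {g : G} (hg : g ∈ 𝐍(zpowers x))
    (hg' : g ∉ 𝐂[x]) : χ g = 0 := by
  have h1 := sum_mul_eq_zero h (P := zpowers x) (by rw [d.sumP', sum_units, xp_zero, h0]) g
  rw [d.sumP', Finset.sum_congr rfl fun i _ => d.val_coset h.mem_CF hg hg' i] at h1
  simpa [hp.out.ne_zero] using h1

theorem det_arg (s : NS G) (hK : K = ⊥) {χ : G → ℂ} (h : IsChar ⊤ χ)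
    (h0 : χ 1 + ∑ a : (ZMod p)ˣ, χ (xp x (a : ZMod p)) = 0) {t : ℕ}
    (h1 : χ 1 = t * Nat.card d.E) : Odd (Nat.card d.E) ∨ Even t :=
  odd_of_reg h s.lin_eq (d.orderOf_y hK) h1 fun j hj => d.val_zero h h0
    (pow_mem (d.norm d.yH) j) fun hc => hj (d.pow_mem_K.1 (d.defK.ge ⟨pow_mem d.yH j, hc⟩))

variable {d} {I : Finset (G → ℂ)} {δ : (G → ℂ) → ℤ} {ξ : d.J → G → ℂ} {δ0 : ℤ}

namespace Brauer
variable (b : d.Brauer I δ ξ δ0)
include b

theorem ξ_ne (j : d.J) : ξ j ≠ cf1 ⊤ := fun e => b.notI j (e ▸ b.one)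

theorem deg_eq' (j : d.J) : ∑ θ ∈ I, δ θ * dg θ + δ0 * dg (ξ j) = 0 := by
  have := b.deg_eq j
  rw [Finset.sum_congr rfl fun θ h => by rw [dg_eq (b.irrI θ h).isChar],
    dg_eq (b.irrξ j).isChar] at this
  exact_mod_cast this

theorem dgξ (j k : d.J) : dg (ξ j) = dg (ξ k) := by
  have h1 := b.deg_eq' j
  have h2 := b.deg_eq' k
  rcases b.sign0 with e | e <;> rw [e] at h1 h2 <;> omega

theorem two_le_e (s : NS G) : 2 ≤ Nat.card d.E := by
  by_contra h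
  have : 0 < Nat.card d.E := Nat.card_pos
  have h1 : I.card = 1 := by rw [b.card]; omega
  obtain ⟨θ, rfl⟩ := Finset.card_eq_one.1 h1
  have h2 := b.deg_eq' 1
  have h3 : cf1 ⊤ = θ := Finset.mem_singleton.1 b.one
  rw [Finset.sum_singleton, ← h3, b.δ_one, dg_one] at h2
  refine s.dg_ne_one (b.irrξ 1) (b.ξ_ne 1) ?_
  rcases b.sign0 with e | e <;> rw [e] at h2 <;> omega

omit [Finite G] b in
theorem dvd_n {f n : ℕ} (h : f ∣ Nat.card d.E * n) : f ∣ (p - 1) * n :=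
  h.trans (Nat.mul_dvd_mul_right (Dvd.intro _ d.e_mul_t) n)

omit [Finite G] b in
theorem dvd_n' {f n : ℕ} (h : f ∣ Nat.card d.E * n) : Nat.card d.J * f ∣ (p - 1) * n := by
  rw [← d.e_mul_t, mul_comm (Nat.card d.E), mul_assoc]
  exact Nat.mul_dvd_mul_left _ h

theorem modξ (j : d.J) : (p : ℤ) ∣ (Nat.card d.J * dg (ξ j) : ℕ) - δ0 := by
  have h := (b.degξ j (dg_eq (b.irrξ j).isChar)).2.1
  have h1 : (Nat.card d.E : ℤ) * Nat.card d.J = p - 1 := by
    have := d.e_mul_t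
    zify [hp.out.one_le] at this; exact this
  have := dvd_sub (h.mul_left (Nat.card d.J)) (dvd_mul_right (p : ℤ) δ0)
  rwa [show (Nat.card d.J : ℤ) * (dg (ξ j) + Nat.card d.E * δ0) - p * δ0 =
    (Nat.card d.J * dg (ξ j) : ℕ) - δ0 by push_cast; linear_combination δ0 * h1] at this

variable (s : NS G) {r : ℕ} (hn : (𝐍(zpowers x)).index = 1 + r * p) (hr : r < p)
include s hn hr

theorem posI {θ : G → ℂ} (h : θ ∈ I) (h1 : θ ≠ cf1 ⊤) (e : δ θ = 1) :
    dg θ = 1 + r * p ∨ ∃ a b X, CaseB p (1 + r * p) a b X ∧ dg θ = a * X := by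
  obtain ⟨h2, h3, -⟩ := b.degI h (dg_eq (b.irrI θ h).isChar)
  rw [e] at h3
  exact (arith_pos hp.out.two_le hr (dvd_n (hn ▸ h2)) h3).resolve_left
    (s.dg_ne_one (b.irrI θ h) h1)

theorem posξ (j : d.J) (e : δ0 = 1) : Nat.card d.J * dg (ξ j) = 1 + r * p ∨
    ∃ a b X, CaseB p (1 + r * p) a b X ∧ Nat.card d.J * dg (ξ j) = a * X := by
  have h2 := (b.degξ j (dg_eq (b.irrξ j).isChar)).1
  have h3 := b.modξ j
  rw [e] at h3
  exact (arith_pos hp.out.two_le hr (dvd_n' (hn ▸ h2)) h3).resolve_left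
    fun h => s.dg_ne_one (b.irrξ j) (b.ξ_ne j) (Nat.eq_one_of_mul_eq_one_left h)

omit [Finite G] hp b s hn hr in
theorem caseB_le {n a b X : ℕ} (h : CaseB p n a b X) : a * X ≤ n := by
  rw [h.hn, mul_comm]; exact Nat.mul_le_mul_left _ (by omega)

theorem leI {θ : G → ℂ} (h : θ ∈ I) : δ θ * dg θ ≤ (1 + r * p : ℕ) := by
  rcases b.sign θ h with e | e
  · rw [e, one_mul, Int.ofNat_le]
    by_cases h1 : θ = cf1 ⊤
    · rw [h1, dg_one]; omega
    rcases b.posI s hn hr h h1 e with h | ⟨a, c, X, h, h'⟩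
    · exact h.le
    · exact h' ▸ caseB_le h
  · rw [e]; omega

theorem leξ (j : d.J) : δ0 * dg (ξ j) ≤ (1 + r * p : ℕ) := by
  rcases b.sign0 with e | e
  · rw [e, one_mul, Int.ofNat_le]
    refine (Nat.le_mul_of_pos_left _ (Nat.card_pos (α := d.J))).trans ?_
    rcases b.posξ s hn hr j e with h | ⟨a, c, X, h, h'⟩
    · exact h.le
    · exact h' ▸ caseB_le h
  · rw [e]; omega

theorem sum_le {S : Finset (G → ℂ)} (hS : S ⊆ I) :
    ∑ θ ∈ S, δ θ * dg θ ≤ S.card * (1 + r * p : ℕ) := by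
  simpa using Finset.sum_le_card_nsmul S _ _ fun θ h => b.leI s hn hr (hS h)

omit [Finite G] b hr in
theorem r_pos (d : Dat p x y K H) : 1 ≤ r := Nat.pos_of_ne_zero fun h => s.index_ne_one d (by rw [hn, h]; simp)

theorem negI {θ : G → ℂ} (h : θ ∈ I) (e : δ θ = -1) :
    dg θ = p - 1 ∨ ∃ a b X, CaseB p (1 + r * p) a b X ∧ dg θ = b * (p + a) := by
  classical
  obtain ⟨h2, h3, -⟩ := b.degI h (dg_eq (b.irrI θ h).isChar)
  rw [e, sub_neg_eq_add] at h3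
  refine (arith_neg hp.out.two_le hr (dvd_n (hn ▸ h2)) h3).resolve_left fun h4 => ?_
  have h1 : θ ≠ cf1 ⊤ := fun e' => by rw [e', b.δ_one] at e; omega
  have h5 := b.deg_eq' 1
  have h6 : θ ∈ I.erase (cf1 ⊤) := Finset.mem_erase.2 ⟨h1, h⟩
  rw [← Finset.add_sum_erase _ _ b.one, ← Finset.add_sum_erase _ _ h6, e, h4, b.δ_one,
    dg_one] at h5
  have h7 := b.sum_le s hn hr ((Finset.erase_subset θ _).trans (Finset.erase_subset (cf1 ⊤) I))
  rw [Finset.card_erase_of_mem h6, Finset.card_erase_of_mem b.one, b.card] at h7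
  have h8 := b.leξ s hn hr 1
  have h9 := b.two_le_e s
  have h10 : Nat.card d.E ≤ p - 1 := Nat.le_of_dvd (by have := hp.out.two_le; omega)
    (Dvd.intro _ d.e_mul_t)
  have h11 := r_pos s hn d
  have h12 : 1 * p ≤ r * p := Nat.mul_le_mul_right p h11
  have h13 := hp.out.two_le
  generalize 1 + r * p = n at *
  obtain ⟨e', he'⟩ : ∃ e', Nat.card d.E = e' + 2 := ⟨_, (Nat.sub_add_cancel h9).symm⟩
  obtain ⟨q, hq⟩ : ∃ q, p - 1 = q := ⟨_, rfl⟩
  rw [he'] at h7 h10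
  rw [hq] at h5 h10
  simp only [Nat.add_sub_cancel, show e' + 2 - 1 = e' + 1 from rfl] at h7
  push_cast at h5 h7 h8
  have : ((e' : ℤ) + 2) * n ≤ q * n := mul_le_mul_of_nonneg_right (by omega) (by omega)
  have : (1 : ℤ) < n := by
    have := s.index_ne_one d
    have : n ≠ 0 := hn ▸ index_ne_zero_of_finite
    omega
  nlinarith

theorem negξ (j : d.J) (e : δ0 = -1) : dg (ξ j) = Nat.card d.E ∨
    ∃ a b X, CaseB p (1 + r * p) a b X ∧ Nat.card d.J * dg (ξ j) = b * (p + a) := by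
  classical
  have h2 := (b.degξ j (dg_eq (b.irrξ j).isChar)).1
  have h3 := b.modξ j
  rw [e, sub_neg_eq_add] at h3
  have ht : 0 < Nat.card d.J := Nat.card_pos
  rcases arith_neg hp.out.two_le hr (dvd_n' (hn ▸ h2)) h3 with h4 | h4 | h4
  · exfalso
    rw [← d.e_mul_t, mul_comm (Nat.card d.E), mul_assoc] at h4
    have h4 := Nat.eq_of_mul_eq_mul_left ht h4
    have h5 := b.deg_eq' j
    rw [← Finset.add_sum_erase _ _ b.one, e, h4, b.δ_one, dg_one] at h5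
    have h7 := b.sum_le s hn hr (Finset.erase_subset (cf1 ⊤) I)
    rw [Finset.card_erase_of_mem b.one, b.card, Nat.cast_sub (Nat.card_pos (α := d.E))] at h7
    have := s.index_ne_one d
    rw [hn] at this
    generalize 1 + r * p = n at *
    push_cast at h5 h7
    have : n ≠ 0 := hn ▸ index_ne_zero_of_finite
    have : (1 : ℤ) < n := by omega
    nlinarith
  · rw [← d.e_mul_t, mul_comm (Nat.card d.E)] at h4
    exact .inl (Nat.eq_of_mul_eq_mul_left ht h4)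
  · exact .inr h4

omit hn hr

theorem K_of_I {θ : G → ℂ} (h : θ ∈ I) (e : δ θ = -1) (h1 : dg θ = p - 1) : K = ⊥ := by
  have h2 := (b.degI h (dg_eq (b.irrI θ h).isChar)).2.2 e h1
  rwa [s.ker_eq_bot (b.irrI θ h) fun e' => by rw [e', b.δ_one] at e; omega, le_bot_iff] at h2

theorem K_of_ξ (j : d.J) (e : δ0 = -1) (h1 : dg (ξ j) = Nat.card d.E) : K = ⊥ := by
  have h2 := (b.degξ j (dg_eq (b.irrξ j).isChar)).2.2 e h1
  rwa [s.ker_eq_bot (b.irrξ j) (b.ξ_ne j), le_bot_iff] at h2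

theorem det_I {θ : G → ℂ} (h : θ ∈ I) (e : δ θ = -1) (h1 : dg θ = p - 1) :
    Even (Nat.card d.J) := by
  have hθ := b.irrI θ h
  have h2 := (d.deg_facts hθ (b.DDI h) (b.neI h) (dg_eq hθ.isChar)).1
  have h3 := d.det_arg s (b.K_of_I s h e h1) hθ.isChar (t := Nat.card d.J)
    (by rw [h2, dg_eq hθ.isChar, h1, e]; simp)
    (by rw [dg_eq hθ.isChar, h1, ← d.e_mul_t]; push_cast; ring)
  refine h3.elim (fun h4 => ?_) id
  have h5 : Even (Nat.card d.E * Nat.card d.J) := by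
    rw [d.e_mul_t]
    refine (hp.out.eq_two_or_odd'.resolve_left fun e => ?_).tsub_odd odd_one
    have := b.two_le_e s
    have := d.e_mul_t
    have : 0 < Nat.card d.J := Nat.card_pos
    have := Nat.le_mul_of_pos_right (Nat.card d.E) this
    omega
  exact (Nat.even_mul.1 h5).resolve_left (Nat.not_even_iff_odd.2 h4)

theorem det_ξ (j : d.J) (e : δ0 = -1) (h1 : dg (ξ j) = Nat.card d.E) : Odd (Nat.card d.E) := by
  have hθ := b.irrξ j
  have h2 := (d.deg_facts hθ (b.DDξ j) b.neξ (dg_eq hθ.isChar)).1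
  have h3 := d.det_arg s (b.K_of_ξ s j e h1) hθ.isChar (t := 1)
    (by rw [h2, dg_eq hθ.isChar, h1, e]; simp) (by rw [dg_eq hθ.isChar, h1]; simp)
  exact h3.resolve_right Nat.not_even_one

theorem prod_bound (j : d.J) (e : δ0 = -1) (h1 : dg (ξ j) = Nat.card d.E) (F : ℕ)
    (hF : ∀ θ ∈ I, θ ≠ cf1 ⊤ → δ θ = 1 → F ≤ dg θ) :
    (F : ℤ) * (p - Nat.card d.E - 1) ≤ (p - 1) * (Nat.card d.E + 1) := by
  classical
  have hK := b.K_of_ξ s j e h1
  have hξ := (b.irrξ j).isChar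
  have hΨ := hξ.mul hξ.star
  have hm : ∀ θ, IsIrr ⊤ θ → ∃ n : ℕ, ⟪ξ j * star (ξ j), θ⟫[⊤] = n := fun θ hθ =>
    Cnat_cfdot_char hΨ hθ.isChar
  choose! m hm using hm
  have hm1 : m (cf1 ⊤) = 1 := by
    have := hm _ (isIrr_cf1 ⊤)
    rw [← cfdot_mul_right, mul_cf1 hξ.mem_CF, cfdot_irr_self (b.irrξ j)] at this
    exact_mod_cast this.symm
  have hK1 : (♯K : ℂ) = 1 := by rw [hK]; simp
  have hD : ∀ θ, IsIrr ⊤ θ → ∃ D : ℤ, DD p x K θ = D ∧ (θ = cf1 ⊤ → D = p - 1) ∧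
      (θ ≠ cf1 ⊤ → F * D ≤ (p - 1) * dg θ) := fun θ hθ => by
    have hp1 : ((p - 1 : ℕ) : ℤ) = p - 1 := by rw [Nat.cast_sub hp.out.one_le]; rfl
    have hp2 : (0 : ℤ) ≤ p - 1 := by have := hp.out.one_le; omega
    by_cases h2 : θ ∈ I
    · refine ⟨_, by rw [b.DDI h2, hK1, one_mul], fun e => by rw [e, b.δ_one, hp1, mul_one],
        fun h3 => ?_⟩
      rw [hp1]
      rcases b.sign θ h2 with e | e
      · rw [e, mul_one, mul_comm]
        exact mul_le_mul_of_nonneg_left (by exact_mod_cast hF θ h2 h3 e) hp2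
      · rw [e]; nlinarith [mul_nonneg hp2 (Int.natCast_nonneg (dg θ)),
          mul_nonneg hp2 (Int.natCast_nonneg F)]
    by_cases h3 : θ ∈ Set.range ξ
    · obtain ⟨k, rfl⟩ := h3
      refine ⟨_, by rw [b.DDξ, hK1, one_mul], fun e => absurd e (b.ξ_ne k), fun _ => ?_⟩
      rw [e]
      nlinarith [mul_nonneg hp2 (Int.natCast_nonneg (dg (ξ k))),
        mul_nonneg (Int.natCast_nonneg (Nat.card d.E)) (Int.natCast_nonneg F)]
    · refine ⟨0, by rw [b.DD0 hθ h2 h3]; simp, fun e => absurd (e ▸ b.one) h2, fun _ => ?_⟩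
      rw [mul_zero]; exact mul_nonneg hp2 (Int.natCast_nonneg _)
  choose! D hD1 hD2 hD3 using hD
  obtain ⟨w, hw, hw'⟩ := le_norm_of_ab (P := zpowers x) inferInstance (hξ.cfRes le_top)
  have hp0 : (p : ℂ) ≠ 0 := by exact_mod_cast hp.out.ne_zero
  have h2 : ∑ θ ∈ Irr ⊤, (m θ : ℤ) * D θ = p * w - Nat.card d.E ^ 2 := by
    have h3 := DD_sum (p := p) (x := x) (K := K) hΨ.mem_CF
    rw [Finset.sum_congr rfl fun θ h => by rw [hm θ (mem_Irr.1 h), hD1 θ (mem_Irr.1 h)],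
      DD_eq] at h3
    rw [cfdot_cfRes_left, cfdot_cfRes_right, cfdotE, d.sumP', sum_units, d.cardP, xp_zero,
      dg_eq hξ, h1, map_natCast] at hw
    have h4 : elts (K : Set G) = {1} := by ext; simp [hK]
    simp only [TT, h4, Finset.sum_singleton, mul_one, Pi.mul_apply, cfConjCE] at h3
    field_simp at hw
    have : ∑ θ ∈ Irr ⊤, (m θ : ℂ) * D θ = p * w - Nat.card d.E ^ 2 := by
      linear_combination hw - h3
    exact_mod_cast this
  have h3 : ∑ θ ∈ Irr ⊤, (m θ : ℤ) * dg θ = Nat.card d.E ^ 2 := by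
    have h3 := cfun_apply_sum_cfdot hΨ.mem_CF 1
    rw [Finset.sum_congr rfl fun θ h => by rw [hm θ (mem_Irr.1 h), dg_eq (mem_Irr.1 h).isChar],
      Pi.mul_apply, cfConjCE, dg_eq hξ, h1, map_natCast, ← sq] at h3
    exact_mod_cast h3.symm
  rw [← Finset.add_sum_erase _ _ (cf1_mem_Irr ⊤), hm1] at h2 h3
  rw [hD2 _ (isIrr_cf1 ⊤) rfl] at h2
  rw [dg_one] at h3
  have h4 : F * ∑ θ ∈ (Irr ⊤).erase (cf1 ⊤), (m θ : ℤ) * D θ ≤
      (p - 1) * ∑ θ ∈ (Irr (⊤ : Subgroup G)).erase (cf1 ⊤), (m θ : ℤ) * dg θ := by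
    rw [Finset.mul_sum, Finset.mul_sum]
    refine Finset.sum_le_sum fun θ h => ?_
    rw [mul_left_comm, mul_left_comm (p - 1 : ℤ)]
    exact mul_le_mul_of_nonneg_left (hD3 θ (mem_Irr.1 (Finset.mem_of_mem_erase h))
      (Finset.ne_of_mem_erase h)) (Int.natCast_nonneg _)
  have h5 : dg (cfRes (zpowers x) (ξ j)) = Nat.card d.E := dg_of (by rw [cfRes1, dg_eq hξ, h1])
  rw [h5] at hw'
  have h6 := b.two_le_e s
  generalize Nat.card d.E = E at *
  have h7 : (F : ℤ) * (p * E) ≤ F * (p * w) := by gcongr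
  have h8 : (0 : ℤ) < E - 1 := by omega
  refine le_of_mul_le_mul_left ?_ h8
  push_cast at h2 h3
  nlinarith

theorem even_et : Even (Nat.card d.E * Nat.card d.J) := by
  rw [d.e_mul_t]
  refine (hp.out.eq_two_or_odd'.resolve_left fun e => ?_).tsub_odd odd_one
  have := b.two_le_e s
  have := d.e_mul_t
  have : 0 < Nat.card d.J := Nat.card_pos
  have := Nat.le_mul_of_pos_right (Nat.card d.E) this
  omega

theorem prod_bound' (j : d.J) (e : δ0 = -1) (h1 : dg (ξ j) = Nat.card d.E) (F : ℕ) (hpF : p < F)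
    (hF : ∀ θ ∈ I, θ ≠ cf1 ⊤ → δ θ = 1 → F ≤ dg θ) : Nat.card d.J = 2 ∧ F = p + 1 := by
  have h2 := b.prod_bound s j e h1 F hF
  have h3 := (Nat.even_mul.1 (b.even_et s)).resolve_left (Nat.not_even_iff_odd.2 (b.det_ξ s j e h1))
  have h4 := d.e_mul_t
  have h5 := b.two_le_e s
  have h6 : 0 < Nat.card d.J := Nat.card_pos
  have h7 : 2 ≤ Nat.card d.J := by obtain ⟨c, hc⟩ := h3; omega
  generalize Nat.card d.E = E at *
  generalize Nat.card d.J = t at *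
  have h8 : (p : ℤ) = E * t + 1 := by have := hp.out.one_le; zify [this] at h4; omega
  have h9 : (F : ℤ) * (t - 1) ≤ t * (E + 1) := by
    refine le_of_mul_le_mul_left ?_ (by omega : (0 : ℤ) < E)
    rw [h8] at h2; linarith
  have h10 : (p + 1 : ℤ) * (t - 1) ≤ F * (t - 1) :=
    mul_le_mul_of_nonneg_right (by omega) (by omega)
  have h11 : (t : ℤ) ≤ 2 := by
    by_contra h
    have : (p : ℤ) * 3 ≤ p * t := mul_le_mul_of_nonneg_left (by omega) (by omega)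
    nlinarith
  obtain rfl : t = 2 := by omega
  exact ⟨rfl, by push_cast at h8 h9; omega⟩

include hn hr in
theorem tri : (∃ a b X, CaseB p (1 + r * p) a b X) ∨
    (δ0 = 1 ∧ (∀ j, Nat.card d.J * dg (ξ j) = 1 + r * p) ∧ Even (Nat.card d.J) ∧ K = ⊥ ∧
      (dg (ξ 1)).Coprime (p - 1) ∧ p ≤ dg (ξ 1) + Nat.card d.E) ∨
    (δ0 = -1 ∧ (∀ j, dg (ξ j) = Nat.card d.E) ∧ r = 1 ∧ Nat.card d.J = 2 ∧ Odd (Nat.card d.E) ∧
      K = ⊥) := by
  classical
  by_cases hB : ∃ a b X, CaseB p (1 + r * p) a b X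
  · exact .inl hB
  right
  have hp1 : ∀ θ ∈ I, θ ≠ cf1 ⊤ → δ θ = 1 → dg θ = 1 + r * p := fun θ h h1 e =>
    (b.posI s hn hr h h1 e).resolve_right fun ⟨a, c, X, h, _⟩ => hB ⟨a, c, X, h⟩
  have hn1 : ∀ θ ∈ I, δ θ = -1 → dg θ = p - 1 := fun θ h e =>
    (b.negI s hn hr h e).resolve_right fun ⟨a, c, X, h, _⟩ => hB ⟨a, c, X, h⟩
  rcases b.sign0 with e | e
  · left
    have h1 : ∀ j, Nat.card d.J * dg (ξ j) = 1 + r * p := fun j =>
      (b.posξ s hn hr j e).resolve_right fun ⟨a, c, X, h, _⟩ => hB ⟨a, c, X, h⟩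
    have h2 := b.deg_eq' 1
    have h3 : ∃ θ ∈ I, δ θ = -1 := by
      by_contra h
      push Not at h
      have : 0 ≤ ∑ θ ∈ I, δ θ * dg θ := Finset.sum_nonneg fun θ hθ => by
        rw [(b.sign θ hθ).resolve_right (h θ hθ)]; positivity
      have := dg_pos (b.irrξ 1)
      rw [e] at h2; omega
    obtain ⟨θ, h3, h4⟩ := h3
    refine ⟨e, h1, b.det_I s h3 h4 (hn1 θ h3 h4), b.K_of_I s h3 h4 (hn1 θ h3 h4), ?_, ?_⟩
    · rw [← Finset.add_sum_erase _ _ b.one, b.δ_one, dg_one, e] at h2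
      have h5 : ((Nat.gcd (dg (ξ 1)) (p - 1) : ℕ) : ℤ) ∣
          ∑ θ ∈ I.erase (cf1 ⊤), δ θ * dg θ + 1 * dg (ξ 1) := by
        refine dvd_add (Finset.dvd_sum fun θ h => Dvd.dvd.mul_left ?_ _)
          (Dvd.dvd.mul_left (Int.natCast_dvd_natCast.2 (Nat.gcd_dvd_left _ _)) _)
        rw [Int.natCast_dvd_natCast]
        rcases b.sign θ (Finset.mem_of_mem_erase h) with e' | e'
        · rw [hp1 θ (Finset.mem_of_mem_erase h) (Finset.ne_of_mem_erase h) e', ← h1 1]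
          exact (Nat.gcd_dvd_left _ _).mul_left _
        · rw [hn1 θ (Finset.mem_of_mem_erase h) e']; exact Nat.gcd_dvd_right _ _
      rw [show ∑ θ ∈ I.erase (cf1 ⊤), δ θ * dg θ + 1 * dg (ξ 1) = -1 by
        push_cast at h2; linarith, dvd_neg] at h5
      exact Nat.dvd_one.1 (by exact_mod_cast h5)
    · have h5 := (b.degξ 1 (dg_eq (b.irrξ 1).isChar)).2.1
      rw [e, mul_one] at h5
      have := dg_pos (b.irrξ 1)
      exact Nat.le_of_dvd (by omega) (by exact_mod_cast h5)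
  · right
    have h1 : ∀ j, dg (ξ j) = Nat.card d.E := fun j =>
      (b.negξ s hn hr j e).resolve_right fun ⟨a, c, X, h, _⟩ => hB ⟨a, c, X, h⟩
    have h2 := r_pos s hn d
    have h3 : 1 * p ≤ r * p := Nat.mul_le_mul_right p h2
    obtain ⟨h4, h5⟩ := b.prod_bound' s 1 e (h1 1) (1 + r * p) (by omega)
      fun θ h h' e' => (hp1 θ h h' e').ge
    refine ⟨e, h1, ?_, h4, b.det_ξ s 1 e (h1 1), b.K_of_ξ s 1 e (h1 1)⟩
    exact Nat.eq_of_mul_eq_mul_right hp.out.pos (by omega)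

end Brauer

include d in
theorem exists_r' (h : Nat.card (Sylow p G) < p ^ 2) :
    ∃ r, (𝐍(zpowers x)).index = 1 + r * p ∧ r < p := by
  obtain ⟨r, hr⟩ := d.exists_r
  refine ⟨r, hr, lt_of_mul_lt_mul_right (a := p) ?_ (Nat.zero_le _)⟩
  rw [d.card_sylow, hr, sq] at h
  omega

end Dat

theorem NS.not_prime_pow (s : NS G) (P : Sylow p G) (hP : Nat.card P = p)
    (h : Nat.card (Sylow p G) < p ^ 2) {q k : ℕ} (hq : q.Prime) (e : Nat.card (Sylow p G) = q ^ k) :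
    3 < p ∧ ∃ k, p + 1 = 2 ^ k := by
  obtain ⟨x, y, K, H, d, -⟩ := exists_dat P hP
  obtain ⟨r, hn, hr⟩ := d.exists_r' h
  obtain ⟨I, δ, ξ, δ0, b⟩ := d.exists_brauer
  rw [d.card_sylow, hn] at e
  have h2 := d.e_mul_t
  rcases b.tri s hn hr with ⟨a, c, X, h⟩ | ⟨-, h3, h4, -, h5, -⟩ | ⟨-, -, rfl, h3, h4, -⟩
  · exact absurd e (h.not_prime_pow hq)
  · exfalso
    have h6 : 0 < Nat.card d.J := Nat.card_pos
    have h7 : q ∣ Nat.card d.J := by
      obtain ⟨i, -, hi⟩ := (Nat.dvd_prime_pow hq).1 (Dvd.intro _ ((h3 1).trans e))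
      rcases i with _ | i
      · rw [hi] at h4; exact absurd h4 Nat.not_even_one
      · exact hi ▸ dvd_pow_self q i.succ_ne_zero
    have h8 : q ∣ dg (ξ 1) := by
      obtain ⟨i, -, hi⟩ := (Nat.dvd_prime_pow hq).1 (Dvd.intro_left _ ((h3 1).trans e))
      rcases i with _ | i
      · exact absurd hi (s.dg_ne_one (b.irrξ 1) (b.ξ_ne 1))
      · exact hi ▸ dvd_pow_self q i.succ_ne_zero
    exact hq.one_lt.ne' (Nat.eq_one_of_dvd_coprimes h5 h8 (h2 ▸ h7.mul_left _))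
  · have h5 := b.two_le_e s
    rw [h3] at h2
    obtain ⟨c, hc⟩ := h4
    have := hp.out.two_le
    refine ⟨by omega, k, ?_⟩
    have h6 : 2 ∣ q ^ k := by rw [← e]; omega
    rw [(Nat.prime_dvd_prime_iff_eq Nat.prime_two hq).1 (Nat.prime_two.dvd_of_dvd_pow h6), ← e]
    omega

theorem NS.card_ge (s : NS G) (P : Sylow p G) (hP : Nat.card P = p)
    (h : Nat.card (Sylow p G) < p ^ 2) : p * (p ^ 2 - 1) ≤ 2 * Nat.card G := by
  obtain ⟨x, y, K, H, d, -⟩ := exists_dat P hP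
  obtain ⟨r, hn, hr⟩ := d.exists_r' h
  obtain ⟨I, δ, ξ, δ0, b⟩ := d.exists_brauer
  have h2 := d.e_mul_t
  have h1 := b.two_le_e s
  have hK : 0 < ♯K := Nat.card_pos
  have hp1 := hp.out.two_le
  have key : p ^ 2 - 1 ≤ 2 * (Nat.card d.E * (1 + r * p)) := by
    rcases b.tri s hn hr with ⟨a, c, X, h⟩ | ⟨-, h3, h4, -, -, h5⟩ | ⟨-, -, rfl, h3, h4, -⟩
    · have := h.bound
      have := Nat.le_mul_of_pos_left (1 + r * p) (by omega : 0 < Nat.card d.E)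
      omega
    · rw [← h3 1, ← mul_assoc (Nat.card d.E), h2]
      have h6 : 0 < Nat.card d.J := Nat.card_pos
      have h7 : 2 ≤ Nat.card d.J := by obtain ⟨c, hc⟩ := h4; omega
      have h8 := Nat.mul_le_mul_left (Nat.card d.E) h7
      obtain ⟨q, rfl⟩ : ∃ q, p = q + 1 := ⟨p - 1, by omega⟩
      have : q * (q + 2) ≤ q * (2 * dg (ξ 1)) := Nat.mul_le_mul_left _ (by omega)
      rw [Nat.add_sub_cancel, tsub_le_iff_right]
      nlinarith
    · rw [h3] at h2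
      obtain ⟨q, rfl⟩ : ∃ q, p = q + 1 := ⟨p - 1, by omega⟩
      rw [Nat.add_sub_cancel] at h2
      rw [tsub_le_iff_right]
      nlinarith
  rw [d.cardG, hn, mul_assoc, mul_left_comm]
  refine Nat.mul_le_mul_left _ (key.trans (Nat.mul_le_mul_left _ (Nat.le_mul_of_pos_left _ hK)))

end Cfsg.Agent.BR
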