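import Cfsg.Agent.Lib.BR.Alpha
import Cfsg.Agent.Lib.OO.PF1

/-!
# Brauer's description of the principal block for a Sylow subgroup of order `p`
-/

set_option autoImplicit false

namespace Cfsg.Agent.BR

open Subgroup Cfsg.Agent.OO
open scoped ComplexConjugate

universe u

variable {G : Type u} [Group G] [Finite G] {p : ℕ} [hp : Fact p.Prime] {x y : G} {K H : Subgroup G}

omit hp [Finite G] in
theorem iso_base_aux {ι : Type*} {L : Subgroup G} {j0 j1 : ι} {a b : ι → G → ℂ}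
    (h : ∀ j, j ≠ j0 → IsIrr L (a j) ∧ IsIrr L (b j) ∧ a j ≠ b j) (h10 : j1 ≠ j0)
    (hb : ∀ j, j ≠ j0 → b j = b j1)
    (ha : ∀ j, j ≠ j0 → ∀ k, k ≠ j0 → j ≠ k → b j = b k → a j ≠ a k) :
    ∃ m : ι → G → ℂ, (∀ j, IsIrr L (m j)) ∧ Function.Injective m ∧
      ∀ j, j ≠ j0 → a j - b j = m j - m j0 := by
  classical
  refine ⟨fun j => if j = j0 then b j1 else a j, fun j => ?_, fun j k e => ?_,
    fun j hne => by simp [hne, hb j hne]⟩
  · dsimp only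
    split_ifs with e
    exacts [(h j1 h10).2.1, (h j e).1]
  · dsimp only at e
    split_ifs at e with e1 e2 e2
    · rw [e1, e2]
    · exact absurd (e.symm.trans (hb k e2).symm) (h k e2).2.2
    · exact absurd (e.trans (hb j e1).symm) (h j e1).2.2
    · exact by_contra fun hne => ha j e1 k e2 hne ((hb j e1).trans (hb k e2).symm) e

omit hp in
theorem iso_base {ι : Type*} {L : Subgroup G} {β : ι → G → ℂ} {j0 j1 : ι} (h6 : j1 ≠ j0)
    (hβ : ∀ j, β j ∈ ZIrr L) (h1 : ∀ j, β j 1 = 0) (h4 : β j0 = 0)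
    (h2 : ∀ j, j ≠ j0 → ⟪β j, β j⟫[L] = 2)
    (h3 : ∀ j, j ≠ j0 → ∀ k, k ≠ j0 → j ≠ k → ⟪β j, β k⟫[L] = 1) :
    ∃ m : ι → G → ℂ, (∀ j, IsIrr L (m j)) ∧ Function.Injective m ∧
      ∃ e : ℤ, (e = 1 ∨ e = -1) ∧ ∀ j, β j = (e : ℂ) • (m j - m j0) := by
  have h2 : ∀ j, j ≠ j0 → ∃ a b, IsIrr L a ∧ IsIrr L b ∧ a ≠ b ∧ β j = a - b :=
    fun j hne => vchar_norm2 (hβ j) (h1 j) (cfnorm_eq_of_cfdot (by rw [h2 j hne]; simp))
  choose! a b ha hb hab e using h2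
  have h3 : ∀ j, j ≠ j0 → ∀ k, k ≠ j0 → j ≠ k →
      (a j = a k ∧ b j ≠ b k) ∨ (a j ≠ a k ∧ b j = b k) := fun j h k h' hne => by
    refine cfdot_sub_irr_eq_one (ha j h) (hb j h) (ha k h') (hb k h') (hab j h) (hab k h') ?_
    rw [← e j h, ← e k h', h3 j h k h' hne]
  by_cases h7 : ∀ j, j ≠ j0 → b j = b j1
  · obtain ⟨m, h8, h9, h10⟩ := iso_base_aux
      (fun j h => ⟨ha j h, hb j h, hab j h⟩) h6 h7
      fun j h k h' hne e => by have := h3 j h k h' hne; tauto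
    refine ⟨m, h8, h9, 1, .inl rfl, fun j => ?_⟩
    by_cases h : j = j0
    · rw [h, h4, sub_self, smul_zero]
    · rw [e j h, h10 j h, Int.cast_one, one_smul]
  · push Not at h7
    obtain ⟨η, hη0, h7⟩ := h7
    have hη1 : η ≠ j1 := fun e => h7 (by rw [e])
    have h8 : a η = a j1 := by have := h3 η hη0 j1 h6 hη1; tauto
    obtain ⟨m, h8, h9, h10⟩ := iso_base_aux (a := b) (b := a)
      (fun j h => ⟨hb j h, ha j h, (hab j h).symm⟩) h6
      (fun j h => by_contra fun hne => by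
        have i1 := h3 j h j1 h6 fun e => hne (by rw [e])
        have i2 := h3 j h η hη0 fun e => hne (by rw [e, h8])
        rw [h8] at i2
        exact h7 ((i2.resolve_left fun h => hne h.1).2.symm.trans (i1.resolve_left fun h => hne h.1).2))
      fun j h k h' hne e => by have := h3 j h k h' hne; tauto
    refine ⟨m, h8, h9, -1, .inr rfl, fun j => ?_⟩
    by_cases h : j = j0
    · rw [h, h4, sub_self, smul_zero]
    · rw [e j h, ← h10 j h, Int.cast_neg, Int.cast_one, neg_one_smul, neg_sub]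

theorem sum_natAbs {ι : Type*} {S : Finset ι} {m : ι → ℕ} {s : ι → ℤ} {χ : ι} {δ : ℤ} {t : ℕ}
    (h1 : χ ∈ S) (h2 : 1 ≤ m χ) (h3 : s χ ≠ 0) (h4 : ∀ θ ∈ S, m θ ≠ 0 → 0 ≤ s χ * s θ)
    (h5 : δ = 0 ∨ δ = 1 ∨ δ = -1) (h6 : ∑ θ ∈ S, (m θ : ℤ) * s θ = δ * t) :
    ∑ θ ∈ S, m θ * (s θ).natAbs = t := by
  have h7 : (((s χ).natAbs * ∑ θ ∈ S, m θ * (s θ).natAbs : ℕ) : ℤ) = s χ * (δ * t) := by
    rw [← h6, Finset.mul_sum, Finset.mul_sum]
    push_cast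
    refine Finset.sum_congr rfl fun θ hθ => ?_
    by_cases h : m θ = 0
    · simp [h]
    · rw [mul_left_comm, mul_left_comm (s χ), ← abs_mul, abs_of_nonneg (h4 θ hθ h)]
  have h8 := congrArg Int.natAbs h7
  rw [Int.natAbs_natCast, Int.natAbs_mul, Int.natAbs_mul, Int.natAbs_natCast] at h8
  have h9 := Nat.eq_of_mul_eq_mul_left (Int.natAbs_pos.2 h3) h8
  rcases h5 with rfl | rfl | rfl
  · have := Finset.single_le_sum (f := fun θ => m θ * (s θ).natAbs) (fun _ _ => Nat.zero_le _) h1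
    have h10 := Nat.mul_pos h2 (Int.natAbs_pos.2 h3)
    simp only [Int.natAbs_zero, zero_mul] at h9 this
    omega
  · simpa using h9
  · simpa using h9

namespace Dat
variable (d : Dat p x y K H)

omit [Finite G] in
/-- the orbits of `N(P)` on the nontrivial characters of `P` -/
abbrev J : Type := (ZMod p)ˣ ⧸ d.E

omit [Finite G] in
noncomputable instance : Fintype d.J := Fintype.ofFinite _

/-- `α_j` -/
noncomputable def aJ (j : d.J) : G → ℂ := al x K ((j.out : (ZMod p)ˣ) : ZMod p)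

/-- the structure of the principal block -/
structure Brauer (I : Finset (G → ℂ)) (δ : (G → ℂ) → ℤ) (ξ : d.J → G → ℂ) (δ0 : ℤ) : Prop where
  irrI : ∀ θ ∈ I, IsIrr ⊤ θ
  sign : ∀ θ ∈ I, δ θ = 1 ∨ δ θ = -1
  one : cf1 ⊤ ∈ I
  card : I.card = Nat.card d.E
  irrξ : ∀ j, IsIrr ⊤ (ξ j)
  inj : Function.Injective ξ
  notI : ∀ j, ξ j ∉ I
  sign0 : δ0 = 1 ∨ δ0 = -1
  eq : ∀ j, d.aJ j = ∑ θ ∈ I, (δ θ : ℂ) • θ + (δ0 : ℂ) • ξ j

theorem aJ_vchar (j : d.J) : d.aJ j ∈ ZIrr ⊤ := d.al_vchar _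

theorem al_eq (a : (ZMod p)ˣ) : al x K (a : ZMod p) = d.aJ a := by
  have h : a⁻¹ * (a : d.J).out ∈ d.E := QuotientGroup.eq.1 (Quotient.out_eq' _).symm
  have h' : (a : d.J).out⁻¹ * a ∈ d.E := QuotientGroup.eq.1 (Quotient.out_eq' _)
  rw [← sub_eq_zero, ← cfdot_self_eq0 (vchar_mem_CF (sub_mem (d.al_vchar _) (d.aJ_vchar _))),
    cfdotBl, cfdotBr, cfdotBr, aJ, d.gram, d.gram, d.gram, d.gram, if_pos h, if_pos h']
  simp

open Classical in
theorem gramJ (j k : d.J) : ⟪d.aJ j, d.aJ k⟫[⊤] = Nat.card d.E + if j = k then 1 else 0 := by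
  rw [aJ, aJ, d.gram, ← QuotientGroup.eq, QuotientGroup.out_eq', QuotientGroup.out_eq']
  congr

omit [Finite G] in
theorem sumJ {V : Type*} [AddCommMonoid V] (f : d.J → V) :
    ∑ a : (ZMod p)ˣ, f a = Nat.card d.E • ∑ j, f j := by
  have := sum_comp_of_surjective (QuotientGroup.mk' d.E) (QuotientGroup.mk'_surjective _) f
  rwa [QuotientGroup.ker_mk'] at this

omit [Finite G] in
theorem e_mul_t : Nat.card d.E * Nat.card d.J = p - 1 := by
  have h := d.sumJ (fun _ => (1 : ℕ))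
  simp only [Finset.sum_const, Finset.card_univ, smul_eq_mul, mul_one, ZMod.card_units] at h
  rw [h, Nat.card_eq_fintype_card (α := d.J)]

theorem DD_J {θ : G → ℂ} (hθ : θ ∈ CF ⊤) :
    DD p x K θ = ♯K * (Nat.card d.E * ∑ j, ⟪θ, d.aJ j⟫[⊤]) := by
  rw [d.DD_dot hθ, Finset.sum_congr rfl fun a _ => by rw [d.al_eq],
    d.sumJ (fun j => ⟪θ, d.aJ j⟫[⊤]), nsmul_eq_mul]

theorem dot_one (j : d.J) : ⟪cf1 ⊤, d.aJ j⟫[⊤] = 1 := by
  have hp0 : (p : ℂ) ≠ 0 := by exact_mod_cast hp.out.ne_zero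
  have := cardC_ne_zero K
  rw [aJ, d.dot_al (cf1_mem_CF _)]
  simp only [TT, cf1E (mem_top _), sum_elts_const, ← Finset.mul_sum, Finset.sum_sub_distrib, sum_ψ]
  simp; field_simp

open Classical in
/-- the multiplicity of `θ` in `α_j` -/
noncomputable def c (j : d.J) (θ : G → ℂ) : ℤ :=
  if h : IsCint ⟪θ, d.aJ j⟫[⊤] then h.choose else 0

theorem c_eq {θ : G → ℂ} (hθ : IsIrr ⊤ θ) (j : d.J) : ⟪θ, d.aJ j⟫[⊤] = d.c j θ := by
  have h := Cint_cfdot_vchar (irr_vchar hθ) (d.aJ_vchar j)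
  rw [c, dif_pos h]; exact h.choose_spec

theorem c_eq' {θ : G → ℂ} (hθ : IsIrr ⊤ θ) (j : d.J) : ⟪d.aJ j, θ⟫[⊤] = d.c j θ := by
  rw [cfdot_vchar_comm (d.aJ_vchar j) (irr_vchar hθ), d.c_eq hθ]

theorem DD_c {θ : G → ℂ} (hθ : IsIrr ⊤ θ) :
    DD p x K θ = ♯K * (Nat.card d.E * ((∑ j, d.c j θ : ℤ) : ℂ)) := by
  rw [d.DD_J hθ.mem_CF]; simp [d.c_eq hθ]

theorem lattice' {χ : G → ℂ} (hχ : IsIrr ⊤ χ) (h0 : ∑ j, d.c j χ ≠ 0) : ∃ m : (G → ℂ) → ℕ,
    1 ≤ m χ ∧ ∑ θ ∈ Irr ⊤, m θ * (∑ j, d.c j θ).natAbs = Nat.card d.J := by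
  obtain ⟨Ψ, hΨ, h1, ⟨δ, hδ, h2⟩, h3⟩ := d.lattice hχ
    (m := ♯K * (Nat.card d.E * ∑ j, d.c j χ)) (by rw [d.DD_c hχ]; push_cast; rfl)
  have hm : ∀ θ, IsIrr ⊤ θ → ∃ n : ℕ, ⟪Ψ, θ⟫[⊤] = n := fun θ hθ => Cnat_cfdot_char hΨ hθ.isChar
  choose! m hm using hm
  have hK := cardC_ne_zero K
  have he : (Nat.card d.E : ℂ) ≠ 0 := by exact_mod_cast Nat.card_pos.ne'
  have h4 : ∑ θ ∈ Irr ⊤, (m θ : ℤ) * ∑ j, d.c j θ = δ * Nat.card d.J := by
    have h5 : ((p : ℂ) - 1) = Nat.card d.E * Nat.card d.J := by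
      rw [← Nat.cast_mul, d.e_mul_t, Nat.cast_sub hp.out.one_le, Nat.cast_one]
    rw [DD_sum hΨ.mem_CF, Finset.sum_congr rfl fun θ hθ => by
      rw [hm θ (mem_Irr.1 hθ), d.DD_c (mem_Irr.1 hθ), mul_left_comm, mul_left_comm (m θ : ℂ)],
      ← Finset.mul_sum, ← Finset.mul_sum, h5, mul_left_comm (δ : ℂ)] at h2
    exact_mod_cast mul_left_cancel₀ he (mul_left_cancel₀ hK h2)
  have h5 : ∀ θ ∈ Irr ⊤, m θ ≠ 0 → 0 ≤ (∑ j, d.c j χ) * ∑ j, d.c j θ := fun θ hθ h => by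
    have hθ := mem_Irr.1 hθ
    have h6 := h3 θ hθ (by rw [hm θ hθ]; exact_mod_cast h)
    obtain ⟨a, ha0, ha⟩ := hχ.exists_one
    obtain ⟨b, -, hb⟩ := hθ.exists_one
    rw [d.DD_c hχ, d.DD_c hθ, ha, hb, mul_left_comm, mul_left_comm (a : ℂ), mul_left_comm (b : ℂ),
      mul_left_comm (b : ℂ)] at h6
    have h7 : (a : ℤ) * ∑ j, d.c j θ = b * ∑ j, d.c j χ := by
      exact_mod_cast mul_left_cancel₀ he (mul_left_cancel₀ hK h6)
    have h8 : 0 ≤ (a : ℤ) * ((∑ j, d.c j χ) * ∑ j, d.c j θ) := by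
      rw [mul_left_comm, h7, mul_left_comm]; exact mul_nonneg (by positivity) (mul_self_nonneg _)
    exact (mul_nonneg_iff_of_pos_left (by exact_mod_cast ha0)).1 h8
  have hm1 : 1 ≤ m χ := Nat.pos_of_ne_zero fun h => h1 (by rw [hm χ hχ, h, Nat.cast_zero])
  exact ⟨m, hm1, sum_natAbs (mem_Irr.2 hχ) hm1 h0 h5 hδ h4⟩

theorem abs_le_t {χ : G → ℂ} (hχ : IsIrr ⊤ χ) : (∑ j, d.c j χ).natAbs ≤ Nat.card d.J := by
  by_cases h0 : ∑ j, d.c j χ = 0
  · simp [h0]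
  obtain ⟨m, h1, h2⟩ := d.lattice' hχ h0
  rw [← h2]
  exact (Nat.le_mul_of_pos_left _ h1).trans (Finset.single_le_sum
    (f := fun θ => m θ * (∑ j, d.c j θ).natAbs) (fun _ _ => Nat.zero_le _) (mem_Irr.2 hχ))

theorem c_one (j : d.J) : d.c j (cf1 ⊤) = 1 := by
  have := d.c_eq (isIrr_cf1 ⊤) j
  rw [d.dot_one] at this
  exact_mod_cast this.symm

theorem sum_c_sq (j : d.J) : ∑ θ ∈ Irr ⊤, d.c j θ ^ 2 = Nat.card d.E + 1 := by
  have := d.gramJ j j
  rw [if_pos rfl, cfdot_sum_irr (vchar_mem_CF (d.aJ_vchar j)), Finset.sum_congr rfl fun θ hθ => by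
    rw [d.c_eq' (mem_Irr.1 hθ), map_intCast, ← sq]] at this
  exact_mod_cast this

theorem sign_of_const {θ : G → ℂ} (hθ : IsIrr ⊤ θ) {j0 : d.J} (h : ∀ j, d.c j θ = d.c j0 θ)
    (h0 : d.c j0 θ ≠ 0) : d.c j0 θ = 1 ∨ d.c j0 θ = -1 := by
  have := d.abs_le_t hθ
  rw [Finset.sum_congr rfl fun j _ => h j, Finset.sum_const, Finset.card_univ,
    ← Nat.card_eq_fintype_card, nsmul_eq_mul, Int.natAbs_mul, Int.natAbs_natCast] at this
  have h2 : (d.c j0 θ).natAbs ≤ 1 := by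
    by_contra h3
    have : 0 < Nat.card d.J := Nat.card_pos
    nlinarith
  omega

open Classical in
theorem brauer_of {ξ : d.J → G → ℂ} {δ0 : ℤ} (h1 : ∀ j, IsIrr ⊤ (ξ j)) (h2 : Function.Injective ξ)
    (h3 : δ0 = 1 ∨ δ0 = -1) (h4 : ∀ j k, d.c j (ξ k) = if j = k then δ0 else 0) (j0 : d.J)
    (h5 : ∀ θ, IsIrr ⊤ θ → θ ∉ Set.range ξ → ∀ j, d.c j θ = d.c j0 θ)
    (h6 : cf1 ⊤ ∉ Set.range ξ) : ∃ I δ, d.Brauer I δ ξ δ0 := by
  let I := (Irr (⊤ : Subgroup G)).filter fun θ => θ ∉ Set.range ξ ∧ d.c j0 θ ≠ 0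
  have hI : ∀ θ ∈ I, IsIrr ⊤ θ ∧ θ ∉ Set.range ξ ∧ d.c j0 θ ≠ 0 := fun θ h => by
    simpa [I] using h
  have hs : ∀ θ ∈ I, d.c j0 θ = 1 ∨ d.c j0 θ = -1 := fun θ h =>
    d.sign_of_const (hI θ h).1 (h5 θ (hI θ h).1 (hI θ h).2.1) (hI θ h).2.2
  have hn : ∀ j, ξ j ∉ I := fun j h => (hI _ h).2.1 ⟨j, rfl⟩
  have key : ∀ (j : d.J) (F : ℤ → (G → ℂ) → G → ℂ), (∀ θ, F 0 θ = 0) →
      ∑ θ ∈ Irr ⊤, F (d.c j θ) θ = ∑ θ ∈ I, F (d.c j0 θ) θ + F δ0 (ξ j) := by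
    intro j F hF
    rw [← Finset.sum_subset (s₁ := insert (ξ j) I), Finset.sum_insert (hn j), add_comm, h4,
      if_pos rfl, Finset.sum_congr rfl fun θ h => by rw [h5 θ (hI θ h).1 (hI θ h).2.1 j]]
    · exact Finset.insert_subset (mem_Irr.2 (h1 j)) (Finset.filter_subset _ _)
    · intro θ hθ h
      rw [Finset.mem_insert, not_or] at h
      by_cases hr : θ ∈ Set.range ξ
      · obtain ⟨k, rfl⟩ := hr
        rw [h4, if_neg fun e => h.1 (by rw [e]), hF]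
      · rw [h5 θ (mem_Irr.1 hθ) hr j, not_not.1 fun h0 => h.2 (Finset.mem_filter.2 ⟨hθ, hr, h0⟩), hF]
  refine ⟨I, d.c j0, fun θ h => (hI θ h).1, hs, Finset.mem_filter.2 ⟨cf1_mem_Irr _, h6, by
    rw [d.c_one]; exact one_ne_zero⟩, ?_, h1, h2, hn, h3, fun j => ?_⟩
  · have h7' := congrFun (key j0 (fun a _ _ => (a : ℂ) ^ 2) fun _ => by ext; simp) 1
    simp only [Finset.sum_apply, Pi.add_apply] at h7'
    have h7 : ∑ θ ∈ Irr ⊤, d.c j0 θ ^ 2 = ∑ θ ∈ I, d.c j0 θ ^ 2 + δ0 ^ 2 := by exact_mod_cast h7'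
    rw [d.sum_c_sq, Finset.sum_congr rfl fun θ h => (by
      rcases hs θ h with e | e <;> simp [e] : d.c j0 θ ^ 2 = 1),
      (by rcases h3 with e | e <;> simp [e] : δ0 ^ 2 = 1)] at h7
    simpa using h7.symm
  · rw [← key j (fun a θ => (a : ℂ) • θ) (fun θ => by simp)]
    conv_lhs => rw [cfun_sum_cfdot (vchar_mem_CF (d.aJ_vchar j))]
    exact Finset.sum_congr rfl fun θ h => by rw [d.c_eq' (mem_Irr.1 h)]

theorem exists_brauer : ∃ I δ ξ δ0, d.Brauer I δ ξ δ0 := by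
  classical
  obtain ⟨j0⟩ : Nonempty d.J := inferInstance
  by_cases ht : ∀ j, j = j0
  · have h1 : ∃ θ, IsIrr ⊤ θ ∧ θ ≠ cf1 ⊤ ∧ d.c j0 θ ≠ 0 := by
      by_contra hn
      push Not at hn
      have := d.sum_c_sq j0
      rw [Finset.sum_eq_single_of_mem _ (cf1_mem_Irr ⊤) fun θ h h' => by
        rw [hn θ (mem_Irr.1 h) h']; rfl, d.c_one] at this
      have : 0 < Nat.card d.E := Nat.card_pos
      omega
    obtain ⟨θ, h1, h2, h3⟩ := h1
    obtain ⟨I, δ, h⟩ := d.brauer_of (ξ := fun _ => θ) (δ0 := d.c j0 θ) (fun _ => h1)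
      (fun a b _ => (ht a).trans (ht b).symm) (d.sign_of_const h1 (fun j => by rw [ht j]) h3)
      (fun j k => by rw [ht j, ht k, if_pos rfl]) j0 (fun θ _ _ j => by rw [ht j])
      (by rintro ⟨j, h⟩; exact h2 h)
    exact ⟨I, δ, _, _, h⟩
  push Not at ht
  obtain ⟨j1, h10⟩ := ht
  obtain ⟨m, h1, h2, ε, hε, h3⟩ := iso_base (β := fun j => d.aJ j - d.aJ j0) h10
    (fun j => sub_mem (d.aJ_vchar _) (d.aJ_vchar _)) (fun j => by simp [aJ, d.al_one])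
    (sub_self _) (fun j h => by
      simp only [cfdotBl, cfdotBr, d.gramJ, if_true, h, h.symm, if_false]; ring)
    (fun j h k h' hjk => by
      simp only [cfdotBl, cfdotBr, d.gramJ, if_true, h, h'.symm, hjk, if_false]; ring)
  have h4 : ∀ θ, IsIrr ⊤ θ → ∀ j, d.c j θ - d.c j0 θ =
      ε * ((if m j = θ then 1 else 0) - if m j0 = θ then 1 else 0) := fun θ hθ j => by
    have := congrArg (⟪·, θ⟫[⊤]) (h3 j)
    simp only [cfdotBl, cfdotZl, d.c_eq' hθ, cfdot_irr (h1 _) hθ] at this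
    exact_mod_cast this
  have h5 : ∀ θ, IsIrr ⊤ θ → θ ∉ Set.range m → ∀ j, d.c j θ = d.c j0 θ := fun θ hθ h j => by
    have := h4 θ hθ j
    rw [if_neg fun e => h ⟨_, e⟩, if_neg fun e => h ⟨_, e⟩] at this
    omega
  have h6 : ∀ k, k ≠ j0 → d.c j0 (m k) = d.c j0 (m j0) - ε := fun k hk => by
    have := congrArg (⟪·, d.aJ j0⟫[⊤]) (h3 k)
    simp only [cfdotBl, cfdotZl, d.c_eq (h1 _), d.gramJ, hk, if_true, if_false] at this
    have h7 : (-1 : ℤ) = ε * (d.c j0 (m k) - d.c j0 (m j0)) := by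
      have : (-1 : ℂ) = ε * (d.c j0 (m k) - d.c j0 (m j0)) := by linear_combination this
      exact_mod_cast this
    rcases hε with rfl | rfl <;> omega
  obtain ⟨a, ha⟩ : ∃ a, ∀ j k, d.c j (m k) = a + if j = k then ε else 0 := by
    refine ⟨d.c j0 (m j0) - ε, fun j k => ?_⟩
    have := h4 _ (h1 k) j
    simp only [h2.eq_iff] at this
    by_cases hk : k = j0
    · subst hk; rw [if_pos rfl] at this; split_ifs at this ⊢ <;> omega
    · rw [h6 k hk, if_neg (Ne.symm hk)] at this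
      split_ifs at this ⊢ <;> omega
  have hs : ∀ k, ∑ j, d.c j (m k) = Nat.card d.J * a + ε := fun k => by
    simp [ha, Finset.sum_add_distrib]
  have ht : 2 ≤ Nat.card d.J := by
    have : Nontrivial d.J := ⟨j1, j0, h10⟩
    exact Finite.one_lt_card
  have h7 := d.abs_le_t (h1 j0)
  rw [hs] at h7
  have h8 : a = 0 ∨ a = -ε := by
    generalize Nat.card d.J = t at ht h7
    have h9 : |(t : ℤ) * a + ε| ≤ t := by rw [← Int.natCast_natAbs]; exact_mod_cast h7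
    rw [abs_le] at h9
    have ht' : (2 : ℤ) ≤ t := by exact_mod_cast ht
    rcases hε with rfl | rfl
    · have : a < 1 := by nlinarith
      have : -2 < a := by nlinarith
      omega
    · have : a < 2 := by nlinarith
      have : -1 < a := by nlinarith
      omega
  have h9 : cf1 ⊤ ∉ Set.range m := by
    rintro ⟨k, hk⟩
    have i1 := ha j0 k
    have i2 := ha j1 k
    rw [hk, d.c_one] at i1 i2
    by_cases e : j0 = k
    · rw [if_pos e] at i1; rw [if_neg (e ▸ h10)] at i2; omega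
    · have i3 := ha k k
      rw [hk, d.c_one, if_pos rfl] at i3; rw [if_neg e] at i1; omega
  rcases h8 with rfl | rfl
  · obtain ⟨I, δ, h⟩ := d.brauer_of h1 h2 hε (fun j k => by rw [ha, zero_add]) j0 h5 h9
    exact ⟨I, δ, _, _, h⟩
  have ht2 : Nat.card d.J = 2 := by
    by_contra hn
    have hu : ∀ k, (∑ j, d.c j (m k)).natAbs = Nat.card d.J - 1 := fun k => by
      rw [hs]; rcases hε with rfl | rfl <;> omega
    obtain ⟨n, i1, i2⟩ := d.lattice' (h1 j0) (fun h => by have := hu j0; rw [h] at this; omega)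
    rw [← Finset.add_sum_erase _ _ (mem_Irr.2 (h1 j0)), hu] at i2
    have i3 : ∀ θ ∈ Irr ⊤, n θ * (∑ j, d.c j θ).natAbs = 0 ∨
        Nat.card d.J - 1 ≤ n θ * (∑ j, d.c j θ).natAbs := fun θ hθ => by
      rcases Nat.eq_zero_or_pos (n θ) with h | h
      · simp [h]
      by_cases hr : θ ∈ Set.range m
      · obtain ⟨k, rfl⟩ := hr
        right; rw [hu]; exact Nat.le_mul_of_pos_left _ h
      · rw [Finset.sum_congr rfl fun j _ => h5 θ (mem_Irr.1 hθ) hr j, Finset.sum_const,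
          Finset.card_univ, ← Nat.card_eq_fintype_card, nsmul_eq_mul, Int.natAbs_mul,
          Int.natAbs_natCast]
        rcases Nat.eq_zero_or_pos (d.c j0 θ).natAbs with h' | h'
        · simp [h']
        · right
          exact (Nat.sub_le _ _).trans ((Nat.le_mul_of_pos_right _ h').trans
            (Nat.le_mul_of_pos_left _ h))
    obtain ⟨t, ht3⟩ : ∃ t, Nat.card d.J = t + 3 := ⟨Nat.card d.J - 3, by omega⟩
    rw [ht3] at i2 i3
    by_cases i4 : ∀ θ ∈ (Irr ⊤).erase (m j0), n θ * (∑ j, d.c j θ).natAbs = 0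
    · rw [Finset.sum_eq_zero i4] at i2
      rcases (by omega : n (m j0) = 1 ∨ 2 ≤ n (m j0)) with h | h
      · rw [h] at i2; omega
      · have := Nat.mul_le_mul_right (t + 3 - 1) h
        omega
    · push Not at i4
      obtain ⟨θ, hθ, i4⟩ := i4
      have i5 := Finset.single_le_sum (f := fun θ => n θ * (∑ j, d.c j θ).natAbs)
        (fun _ _ => Nat.zero_le _) hθ
      have i6 := (i3 θ (Finset.mem_of_mem_erase hθ)).resolve_left i4
      have := Nat.le_mul_of_pos_left (t + 3 - 1) i1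
      omega
  have hJ : ∀ j, j = j0 ∨ j = j1 := fun j => by
    obtain ⟨k, hk, hk'⟩ := (Nat.card_eq_two_iff' j0).1 ht2
    by_cases h : j = j0
    · exact .inl h
    · exact .inr ((hk' j h).trans (hk' j1 h10).symm)
  obtain ⟨I, δ, h⟩ := d.brauer_of (ξ := m ∘ Equiv.swap j0 j1) (δ0 := -ε) (fun _ => h1 _)
    (h2.comp (Equiv.injective _)) (by omega) (fun j k => by
      rw [Function.comp, ha]
      rcases hJ j with rfl | rfl <;> rcases hJ k with rfl | rfl <;> simp [h10, h10.symm]) j0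
    (by rwa [(Equiv.surjective _).range_comp]) (by rwa [(Equiv.surjective _).range_comp])
  exact ⟨I, δ, _, _, h⟩

end Dat
end Cfsg.Agent.BR
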