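import Cfsg.Agent.Lib.BR.Tool

/-!
# The case of a TI centralizer
-/

set_option autoImplicit false

namespace Cfsg.Agent.BR

open Subgroup Cfsg.Agent.OO
open scoped ComplexConjugate Pointwise

universe u

variable {G : Type u} [Group G] [Finite G] {p : ℕ} [hp : Fact p.Prime] {x y : G} {K H : Subgroup G}

omit hp in
theorem dot_eq_zero_of_eig {L : Subgroup G} {f g : G → ℂ} {z : G} (hz : z ∈ L) {a b : ℂ}
    (hf : ∀ c, f (z * c) = a * f c) (hg : ∀ c, g (z * c) = b * g c) (h : a * conj b ≠ 1) :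
    ⟪f, g⟫[L] = 0 := by
  have h1 := sum_elts_mul_left hz fun c => f c * conj (g c)
  rw [Finset.sum_congr rfl fun c _ => by rw [hf, hg, map_mul, mul_mul_mul_comm],
    ← Finset.mul_sum] at h1
  rw [cfdotE, by_contra fun h0 => h ((mul_eq_right₀ h0).1 h1), mul_zero]

/-- `λ (ψ - ψ(1))` -/
noncomputable def ph (p : ℕ) [Fact p.Prime] (x : G) (K : Subgroup G) (φ : G → ℂ) : G → ℂ :=
  lam x K (1 : ZMod p) * (φ - φ 1 • cf1 𝐂[x])

namespace Dat
variable (d : Dat p x y K H)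
include d

theorem al_val' [Fintype d.E] (a i : ZMod p) {k : G} (hk : k ∈ K) :
    al x K a (xp x i * k) = ∑ τ : d.E, (1 - ψ (a * ((τ : (ZMod p)ˣ) : ZMod p) * i)) := by
  by_cases hi : i = 0
  · rw [hi, xp_zero, one_mul, d.al_reg a fun h => d.copK (h.trans (orderOf_dvd_natCard _ hk))]
    simp
  · exact d.al_val a hi hk

open Classical in
theorem dot_lam (j : d.J) :
    ⟪lam x K (1 : ZMod p), d.aJ j⟫[𝐂[x]] = -if 1 = j then 1 else 0 := by
  have := Fintype.ofFinite d.E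
  have h1 := d.gramJ 1 j
  have h2 := d.al_eq 1
  rw [Units.val_one, QuotientGroup.mk_one] at h2
  rw [← h2, al, cfdot_cfInd_left le_top (d.sub_CF _).1 (vchar_mem_CF (d.aJ_vchar j)), cfdotBl] at h1
  have h3 : ⟪cf1 𝐂[x], d.aJ j⟫[𝐂[x]] = Nat.card d.E := by
    rw [cfdotC, cfdot_cf1r, d.sumC, aJ, Finset.sum_congr rfl fun i _ => Finset.sum_congr rfl
      fun k hk => d.al_val' _ i (mem_elts.1 hk)]
    simp only [sum_elts_const, ← Finset.smul_sum]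
    rw [Finset.sum_comm]
    have hp0 : (p : ℂ) ≠ 0 := by exact_mod_cast hp.out.ne_zero
    have := cardC_ne_zero K
    simp only [Finset.sum_sub_distrib, sum_ψ, mul_eq_zero, Units.ne_zero, or_self, if_false, d.cardC]
    simp [Nat.card_eq_fintype_card]
    field_simp
  linear_combination h3 - h1

variable {φ : G → ℂ} (hφ : IsIrr 𝐂[x] φ) (hk : zpowers x ≤ cfker 𝐂[x] φ)
include hφ

theorem ph_vchar : ph p x K φ ∈ ZIrr 𝐂[x] :=
  mul_vchar (char_vchar (d.lin_lam 1).isChar) (sub_mem (irr_vchar hφ)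
    (scale_zchar (Cnat_char1 hφ.isChar).isCint (cf1_vchar _)))

omit hφ in
include hk in
theorem ph_mul (i : ZMod p) (c : G) : ph p x K φ (xp x i * c) = ψ i * ph p x K φ c := by
  have h1 := P_le_C (xp_mem (x := x) i)
  have h2 := d.lam_val 1 i (one_mem K)
  rw [mul_one, one_mul] at h2
  simp only [ph, Pi.mul_apply, Pi.sub_apply, Pi.smul_apply, lin_charMl (d.lin_lam 1) h1, h2,
    cfkerMl (hk (xp_mem i)), cfkerMl ((cfker_cf1 _).ge h1), mul_assoc]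

omit hφ d in
theorem ph_one : ph p x K φ 1 = 0 := by simp [ph, cf1_one]

include hk in
theorem ph_norm (hT : NormedTI (sharp 𝐂[x]) ⊤ 𝐍(zpowers x)) (h1 : φ ≠ cf1 𝐂[x]) :
    ⟪cfInd ⊤ 𝐂[x] (ph p x K φ), cfInd ⊤ 𝐂[x] (ph p x K φ)⟫[⊤] = 1 + dg φ ^ 2 := by
  have hv := mem_ZIrrOn_sharp.2 ⟨d.ph_vchar hφ, ph_one⟩
  have hc := vchar_mem_CF (d.ph_vchar hφ)
  have h2 := cfInd_on_of_conj 𝐂[x] hT.conj_mem (mem_ZIrrOn.1 hv).2
  have hN : 𝐍(zpowers x) ≤ 𝐍(𝐂[x]) := fun g hg => mem_normalizer_fintype fun c hc => d.conj_C hg hc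
  rw [← cfIndInd' C_le_N le_top hc, normedTI_isometry hT h2 h2,
    cfdot_cfInd_right C_le_N h2.1 hc.1, ← cfdot_cfRes_left, cfResInd C_le_N _ hc.1 hN, cfdotZl,
    cfdot_suml, ← sum_elts_subset C_le_N fun g hg hg' => ?_,
    Finset.sum_congr rfl fun g hg => by rw [cfConjg_id hc (mem_elts.1 hg)], sum_elts_const,
    nsmul_eq_mul, inv_mul_cancel_left₀ (cardC_ne_zero _), ph, cfdot_mul_lin (d.lin_lam 1)]
  · simp only [cfdotBl, cfdotBr, cfdotZl, cfdotZr, cfdot_irr_self hφ, cfdot_irr_ne hφ (isIrr_cf1 _) h1,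
      cfdot_irr_ne (isIrr_cf1 _) hφ h1.symm, cfdot_irr_self (isIrr_cf1 _), dg_eq hφ.isChar,
      map_natCast]
    ring
  · have h3 := conj_xp d.ord ⟨g⁻¹, inv_mem hg⟩ 1
    have h4 : (sig d.ord ⟨g⁻¹, inv_mem hg⟩ : ZMod p) ≠ 1 := fun e =>
      hg' (inv_mem_iff.1 ((sig_eq_one d.ord _).1 (Units.ext e)))
    generalize (sig d.ord ⟨g⁻¹, inv_mem hg⟩ : ZMod p) = σ at h3 h4
    refine dot_eq_zero_of_eig (P_le_C (xp_mem (x := x) (1 : ZMod p))) (a := ψ σ)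
      (fun c => ?_) (d.ph_mul hk 1) ?_
    · rw [cfConjgE, cfConjgE, ← d.ph_mul hk, ← mul_one σ, ← h3]
      congr 1; simp [mul_assoc]
    · rw [conj_ψ, ← ψ_add]
      exact fun e => h4 (add_neg_eq_zero.1
        (((ZMod.isPrimitive_stdAddChar p).zmod_char_eq_one_iff p _).1 e))

include hk in
open Classical in
theorem ph_dot (h1 : φ ≠ cf1 𝐂[x]) (j : d.J) :
    ⟪cfInd ⊤ 𝐂[x] (ph p x K φ), d.aJ j⟫[⊤] = if 1 = j then (dg φ : ℂ) else 0 := by
  have := Fintype.ofFinite d.E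
  have h2 : ∑ k ∈ elts (K : Set G), φ k = 0 := by
    have := hφ.sum_eq_zero h1
    simp only [d.sumC, cfkerMl (hk (xp_mem _))] at this
    simpa [hp.out.ne_zero] using this
  have h3 : ⟪lam x K (1 : ZMod p) * φ, d.aJ j⟫[𝐂[x]] = 0 := by
    rw [cfdotE, d.sumC, aJ, Finset.sum_eq_zero fun i _ => ?_, mul_zero]
    rw [Finset.sum_congr rfl fun k hk' => by
      rw [Pi.mul_apply, d.lam_val _ _ (mem_elts.1 hk'), d.al_val' _ _ (mem_elts.1 hk'),
        cfkerMl (hk (xp_mem _))], ← Finset.sum_mul, ← Finset.mul_sum, h2, mul_zero, zero_mul]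
  rw [cfdot_cfInd_left le_top (vchar_mem_CF (d.ph_vchar hφ)).1 (vchar_mem_CF (d.aJ_vchar j)), ph,
    mul_sub, cfdotBl, h3, mul_smul_comm, mul_cf1 (d.lin_lam 1).mem_CF, cfdotZl, d.dot_lam,
    dg_eq hφ.isChar]
  split_ifs <;> simp

include hk in
theorem ph_P (hT : NormedTI (sharp 𝐂[x]) ⊤ 𝐍(zpowers x)) {i : ZMod p} (hi : i ≠ 0) :
    cfInd ⊤ 𝐂[x] (ph p x K φ) (xp x i) = 0 := by
  refine cfInd_eq_zero _ fun g _ => ?_
  by_cases h : g⁻¹ * xp x i * g ∈ 𝐂[x]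
  · have h1 : xp x i ≠ 1 := fun e => hi ((xp_eq_one d.ord).1 e)
    have h2 := hT.mem_of_conj g⁻¹ (mem_top _) _ ⟨P_le_C (xp_mem i), h1⟩
      ⟨by simpa using h, fun e => h1 (conj_eq_one_iff.1 e)⟩
    have h3 := conj_xp d.ord ⟨_, h2⟩ i
    simp only [inv_inv] at h3
    rw [h3, ← mul_one (xp x _), d.ph_mul hk, ph_one, mul_zero]
  · exact (vchar_mem_CF (d.ph_vchar hφ)).1 _ h

variable {d} {I : Finset (G → ℂ)} {δ : (G → ℂ) → ℤ} {ξ : d.J → G → ℂ} {δ0 : ℤ}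

include hk in
theorem Brauer.ph_bound (b : d.Brauer I δ ξ δ0) (hT : NormedTI (sharp 𝐂[x]) ⊤ 𝐍(zpowers x))
    (h1 : φ ≠ cf1 𝐂[x]) {c : (G → ℂ) → ℤ}
    (hc : ∀ θ, IsIrr ⊤ θ → ⟪cfInd ⊤ 𝐂[x] (ph p x K φ), θ⟫[⊤] = c θ) :
    Nat.card d.J * ∑ θ ∈ I, c θ ^ 2 ≤ dg φ ^ 2 := by
  classical
  have hΓ := cfInd_mem_CF ⊤ 𝐂[x] (ph p x K φ)
  have h2 := d.ph_dot hφ hk h1
  have h3 : ∃ θ, IsIrr ⊤ θ ∧ θ ∉ I ∧ θ ∉ Set.range ξ ∧ c θ ≠ 0 := by
    by_contra hn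
    push Not at hn
    have h4 := h2 1
    rw [if_pos rfl, aJ, d.dot_al hΓ, Finset.sum_eq_zero fun i _ => ?_, mul_zero] at h4
    · exact (dg_pos hφ).ne (by exact_mod_cast h4)
    by_cases hi : i = 0
    · simp [hi]
    rw [TT, Finset.sum_eq_zero fun k hk' => ?_, zero_mul]
    rw [← d.ph_P hφ hk hT hi, cfun_apply_sum_cfdot hΓ, cfun_apply_sum_cfdot hΓ (xp x i)]
    refine Finset.sum_congr rfl fun θ hθ => ?_
    have hθ := mem_Irr.1 hθ
    by_cases i1 : θ ∈ I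
    · rw [b.valI i1 hi (mem_elts.1 hk'), ← b.valI i1 hi (one_mem K), mul_one]
    by_cases i2 : θ ∈ Set.range ξ
    · obtain ⟨j, rfl⟩ := i2
      rw [b.valξ j hi (mem_elts.1 hk'), ← b.valξ j hi (one_mem K), mul_one]
    · rw [hc θ hθ, hn θ hθ i1 i2]; simp
  obtain ⟨θ0, i1, i2, i3, i4⟩ := h3
  have h4 : ∑ θ ∈ Irr ⊤, c θ ^ 2 = 1 + dg φ ^ 2 := by
    have := d.ph_norm hφ hk hT h1
    rw [cfdot_sum_irr hΓ, Finset.sum_congr rfl fun θ hθ => by
      rw [hc θ (mem_Irr.1 hθ), map_intCast, ← sq]] at this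
    exact_mod_cast this
  have h5 := b.sum_le' (fun θ => if θ = θ0 then 0 else c θ ^ 2) fun θ => by
    split_ifs; exacts [le_rfl, sq_nonneg _]
  rw [Finset.sum_congr (s₁ := I) rfl fun θ h => if_neg fun e : θ = θ0 => i2 (e ▸ h),
    Finset.sum_congr (s₁ := Finset.univ) rfl fun j _ => if_neg fun e => i3 ⟨j, e⟩,
    ← Finset.add_sum_erase _ _ (mem_Irr.2 i1), if_pos rfl,
    Finset.sum_congr (s₁ := Finset.erase _ _) rfl fun θ h => if_neg (Finset.ne_of_mem_erase h)] at h5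
  rw [← Finset.add_sum_erase _ _ (mem_Irr.2 i1)] at h4
  have h6 : ∀ j, c (ξ j) ^ 2 = ((if 1 = j then (dg φ : ℤ) else 0) - ∑ θ ∈ I, δ θ * c θ) ^ 2 := fun j => by
    have := h2 j
    rw [b.eq, cfdotDr, cfdot_sumr, Finset.sum_congr rfl fun θ h => by
      rw [cfdotZr, hc θ (b.irrI θ h), map_intCast], cfdotZr, hc _ (b.irrξ j), map_intCast] at this
    have h7 : ∑ θ ∈ I, δ θ * c θ + δ0 * c (ξ j) = if 1 = j then (dg φ : ℤ) else 0 := by
      exact_mod_cast this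
    rw [← h7]; rcases b.sign0 with e | e <;> simp [e]
  simp only [h6, sub_sq, Finset.sum_add_distrib, Finset.sum_sub_distrib, ite_pow, mul_ite, ite_mul,
    Finset.sum_ite_eq, Finset.mem_univ, if_true, Finset.sum_const, Finset.card_univ, zero_mul,
    mul_zero, ← Nat.card_eq_fintype_card, nsmul_eq_mul, ne_eq, OfNat.ofNat_ne_zero,
    not_false_eq_true, zero_pow] at h5
  have h7 : 1 ≤ c θ0 ^ 2 := (one_le_sq_iff_one_le_abs _).2 (Int.one_le_abs i4)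
  generalize ∑ θ ∈ I, δ θ * c θ = S at h5
  have h8 : ∑ θ ∈ I, c θ ^ 2 ≤ 2 * dg φ * S - Nat.card d.J * S ^ 2 := by linarith
  have h9 := mul_le_mul_of_nonneg_left h8 (Int.natCast_nonneg (Nat.card d.J))
  nlinarith [sq_nonneg (dg φ - Nat.card d.J * S)]

omit hφ in
theorem Brauer.key (b : d.Brauer I δ ξ δ0) (hT : NormedTI (sharp 𝐂[x]) ⊤ 𝐍(zpowers x)) :
    ∃ w : (G → ℂ) → ℤ, (∀ θ, 0 ≤ w θ) ∧ Nat.card d.J * ∑ θ ∈ I, w θ ≤ ♯K - 1 ∧
      ∀ θ ∈ I, ∀ σ : ℤ, dg θ - δ θ = p * σ → ∃ μ : ℤ, (σ - ♯K * μ) ^ 2 ≤ (♯K - 1) * w θ := by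
  classical
  have hP : zpowers x ⊴ 𝐂[x] := ⟨P_le_C, C_le_N⟩
  have hi : (zpowers x).relIndex 𝐂[x] = ♯K := by
    have := Core.card_mul_relIndex_of_le (P_le_C (x := x))
    rw [d.cardP, d.cardC] at this
    exact Nat.eq_of_mul_eq_mul_left hp.out.pos this
  let S := (Irr 𝐂[x]).filter fun φ => zpowers x ≤ cfker 𝐂[x] φ
  have hS : ∀ φ ∈ S, IsIrr 𝐂[x] φ ∧ zpowers x ≤ cfker 𝐂[x] φ := fun φ h => by simpa [S] using h
  have h1 : cf1 𝐂[x] ∈ S := Finset.mem_filter.2 ⟨cf1_mem_Irr _, P_le_C.trans (cfker_cf1 _).ge⟩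
  have hc : ∀ φ ∈ S, ∀ θ, IsIrr ⊤ θ → ∃ c : ℤ, ⟪cfInd ⊤ 𝐂[x] (ph p x K φ), θ⟫[⊤] = c :=
    fun φ h θ hθ => Cint_cfdot_vchar_irr (cfInd_vchar le_top (d.ph_vchar (hS φ h).1)) hθ
  choose! c hc using hc
  have h2 : ∑ φ ∈ S, φ 1 ^ 2 = ♯K := hi ▸ sum_irr_cfker_square hP
  have h3 : ∑ φ ∈ S.erase (cf1 𝐂[x]), (dg φ : ℤ) ^ 2 = ♯K - 1 := by
    rw [← Finset.add_sum_erase _ _ h1, cf1_one, Finset.sum_congr rfl fun φ h => by
      rw [dg_eq (hS φ (Finset.mem_of_mem_erase h)).1.isChar]] at h2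
    have : ∑ φ ∈ S.erase (cf1 𝐂[x]), (dg φ : ℂ) ^ 2 = ♯K - 1 := by linear_combination h2
    exact_mod_cast this
  refine ⟨fun θ => ∑ φ ∈ S.erase (cf1 𝐂[x]), c φ θ ^ 2,
    fun θ => Finset.sum_nonneg fun _ _ => sq_nonneg _, ?_, fun θ hθ σ hσ => ?_⟩
  · rw [Finset.sum_comm, Finset.mul_sum, ← h3]
    refine Finset.sum_le_sum fun φ h => ?_
    have h' := Finset.mem_of_mem_erase h
    exact b.ph_bound (hS φ h').1 (hS φ h').2 hT (Finset.ne_of_mem_erase h) (hc φ h')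
  have hθ' := b.irrI θ hθ
  obtain ⟨μ, hμ⟩ := Cnat_cfdot_char (d.lin_lam 1).isChar (hθ'.isChar.cfRes le_top)
  rw [cfdot_cfRes_right] at hμ
  refine ⟨μ, ?_⟩
  rw [← h3]
  suffices σ - ♯K * μ = ∑ φ ∈ S.erase (cf1 𝐂[x]), dg φ * c φ θ from
    this ▸ Finset.sum_mul_sq_le_sq_mul_sq _ _ _
  have h4 : ∑ φ ∈ S, φ 1 • ph p x K φ =
      (♯K : ℂ) • (lam x K (1 : ZMod p) * cf1 (zpowers x)) - (♯K : ℂ) • lam x K (1 : ZMod p) := by
    simp only [ph, ← mul_smul_comm, ← Finset.mul_sum, smul_sub, Finset.sum_sub_distrib, smul_smul,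
      ← sq, ← Finset.sum_smul, h2]
    rw [sum_irr_cfker hP, hi, mul_sub, mul_smul_comm _ _ (cf1 𝐂[x]), mul_cf1 (d.lin_lam 1).mem_CF]
  have h5 := congrArg (⟪·, θ⟫[𝐂[x]]) h4
  have hp0 : (p : ℂ) ≠ 0 := by exact_mod_cast hp.out.ne_zero
  have h6 : ⟪lam x K (1 : ZMod p) * cf1 (zpowers x), θ⟫[zpowers x] = σ := by
    have e : ∀ i : ZMod p, (lam x K (1 : ZMod p) * cf1 (zpowers x)) (xp x i) = ψ (1 * i) := fun i => by
      rw [Pi.mul_apply, cf1E (xp_mem i), mul_one, ← d.lam_val 1 i (one_mem K), mul_one]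
    have e' : ∀ a : (ZMod p)ˣ, θ (xp x (a : ZMod p)) = δ θ := fun a => by
      rw [← b.valI hθ a.ne_zero (one_mem K), mul_one]
    have h7 := sum_units_ψ (1 : (ZMod p)ˣ)
    rw [Units.val_one] at h7
    have h8 : (dg θ : ℂ) - δ θ = p * σ := by exact_mod_cast hσ
    rw [cfdotE, d.sumP', sum_units]
    simp only [e, e', map_intCast, ← Finset.sum_mul, h7, xp_zero, dg_eq hθ'.isChar, map_natCast, d.cardP]
    rw [← xp_zero (x := x) (p := p), e]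
    simp only [mul_zero, AddChar.map_zero_eq_one]
    field_simp
    linear_combination h8
  simp only [cfdot_suml, cfdotZl, cfdotBl, hμ] at h5
  rw [← hi, cfdot_of_suppOn P_le_C (fun g hg => by
    rw [Pi.mul_apply, cf1_of_not_mem hg, mul_zero]), h6, hi, ← Finset.add_sum_erase _ _ h1,
    show ph p x K (cf1 𝐂[x]) = 0 by simp [ph, cf1_one], cfdot0l, mul_zero, zero_add,
    Finset.sum_congr rfl fun φ h => by
      have h' := Finset.mem_of_mem_erase h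
      rw [← cfdot_cfInd_left le_top (vchar_mem_CF (d.ph_vchar (hS φ h').1)).1 hθ'.mem_CF,
        hc φ h' θ hθ', dg_eq (hS φ h').1.isChar]] at h5
  exact_mod_cast h5.symm

omit hφ d in
theorem K_of_deg (d : Dat p x y K H) (s : NS G) {χ : G → ℂ} (hχ : IsIrr ⊤ χ) (h1 : dg χ = p + 1)
    (hv : ∀ i : ZMod p, i ≠ 0 → ∀ k ∈ K, χ (xp x i * k) = 1) : K = ⊥ := by
  have hp0 : (p : ℂ) ≠ 0 := by exact_mod_cast hp.out.ne_zero
  have h2 : χ 1 = p + 1 := by rw [dg_eq hχ.isChar, h1]; simp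
  have hθ := fixP_char (P := zpowers x) ⟨P_le_C, C_le_N⟩
    ((d.lin_lam 1).isChar.mul (hχ.isChar.cfRes le_top))
  have h3 : ∀ k ∈ K, χ k = 1 + p * fixP (zpowers x) 𝐂[x] (lam x K (1 : ZMod p) * cfRes 𝐂[x] χ) k :=
    fun k hk => by
      have h7 := sum_units_ψ (1 : (ZMod p)ˣ)
      rw [Units.val_one] at h7
      rw [fixP_apply _ (d.KC hk), d.sumP', Finset.sum_congr rfl fun i _ => by
        rw [Pi.mul_apply, d.lam_val _ _ hk, cfResE χ (d.mem_C.2 ⟨i, k, hk, rfl⟩)], sum_units,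
        Finset.sum_congr rfl fun a _ => by rw [hv _ a.ne_zero k hk, mul_one], h7, d.cardP,
        mul_inv_cancel_left₀ hp0, xp_zero]
      simp
  generalize fixP (zpowers x) _ _ = θ at hθ h3
  have hl : IsLinChar 𝐂[x] θ := ⟨hθ, mul_left_cancel₀ hp0 (by
    linear_combination h2 - h3 1 (one_mem K))⟩
  have h4 := s.ker_eq_bot hχ fun e => by
    rw [e, dg_one (G := G)] at h1; have := hp.out.pos; omega
  refine eq_bot_iff.2 fun k hk => h4 ▸ (cfkerEchar hχ.isChar).2 ⟨mem_top _, ?_⟩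
  have hE : IsEig χ k (1 ::ₘ Multiset.replicate p (θ k)) := fun j => by
    simp [h3 _ (pow_mem hk j), lin_charX hl (d.KC hk)]
  have h5 := cfDetE (mem_top k) hE
  rw [s.lin_eq _ (cfDet_lin_char hχ.isChar), cf1E (mem_top _), Multiset.prod_cons, one_mul,
    Multiset.prod_replicate] at h5
  rw [h3 k hk, h2, (pow_eq_one_iff_of_coprime (hp.out.coprime_iff_not_dvd.2 fun h =>
    d.copK (h.trans (orderOf_dvd_natCard _ hk)))).1 ⟨h5.symm, lin_char_unity_root hl (d.KC hk)⟩]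
  ring

end Dat

theorem CaseB.eqs {p r a c X : ℕ} (h : CaseB p (1 + r * p) a c X) :
    (p : ℤ) = a * c + 1 ∧ (r : ℤ) = a * c + a - c ∧ (X : ℤ) = a * c + 1 - c := by
  obtain ⟨ha, hab, hp, hX, hn⟩ := h
  have h1 : (p : ℤ) = a * c + 1 := by exact_mod_cast hp.symm
  have h2 : (X : ℤ) = a * c + 1 - c := by omega
  refine ⟨h1, mul_right_cancel₀ (by omega : (p : ℤ) ≠ 0) ?_, h2⟩
  have h3 : (1 : ℤ) + r * p = X * (p + a) := by exact_mod_cast hn
  rw [h2, h1] at h3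
  rw [h1]; linear_combination h3

theorem arithK {a c r e t α β ε κ W : ℤ} (ha : 3 ≤ a) (hc : a ≤ c) (hr : r = a * c + a - c)
    (he : e * t = a * c) (h1 : e = 1 + (α + β + ε)) (h2 : 2 ≤ e) (ht : 0 < t) (hα : 0 ≤ α)
    (hβ : 0 ≤ β) (hε : 0 ≤ ε) (hT : t * (α * r + β * (a - 1) - ε * (c + 1)) ≤ 0 ∨
      t * (α * r + β * (a - 1) - ε * (c + 1)) = c) (hW : t * W ≤ κ - 1)
    (h : β + ε ≤ W ∧ 2 * κ ≤ r ∨ β + 2 * ε ≤ W ∧ κ = r) : False := by
  have h3 : α * r + β * (a - 1) - ε * (c + 1) ≤ c := by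
    generalize α * r + β * (a - 1) - ε * (c + 1) = T at hT
    rcases hT with h | h <;> nlinarith
  have h4 : 2 * α ≤ ε := by
    have : (2 * α) * (c + 1) < (ε + 1) * (c + 1) := by
      have := mul_nonneg hβ (by omega : 0 ≤ a - 1)
      have := mul_nonneg (mul_nonneg hα (by omega : 0 ≤ a - 3)) (by omega : 0 ≤ c + 1)
      subst hr; nlinarith
    have := lt_of_mul_lt_mul_right this (by omega)
    omega
  rcases eq_or_lt_of_le hε with rfl | h5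
  · obtain rfl : α = 0 := by omega
    have h6 : 0 < β * (a - 1) := mul_pos (by omega) (by omega)
    rcases hT with h | h
    · nlinarith
    · have : e * t * (a - 1) ≤ 2 * β * t * (a - 1) := by gcongr <;> omega
      have : 3 * 2 * c ≤ a * (a - 1) * c :=
        mul_le_mul_of_nonneg_right (by nlinarith) (by omega)
      nlinarith
  · have : e * t ≤ (β + 2 * ε) * t := by gcongr; omega
    rcases h with ⟨h6, h7⟩ | ⟨h6, h7⟩ <;> nlinarith

theorem arithW {a c r μ w : ℤ} (ha : 3 ≤ a) (hc : a ≤ c) (hr : r = a * c + a - c)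
    (h : (c + 1 - r * μ) ^ 2 ≤ (r - 1) * w) : 2 ≤ w := by
  by_contra i5
  have i0 : 2 * (c + 1) < r := by nlinarith
  have i6 : (c + 1 - r * μ) ^ 2 ≤ r - 1 := by nlinarith
  have i7 : r - 1 < (c + 1) ^ 2 := by nlinarith
  have i8 := abs_lt.1 (abs_lt_of_sq_lt_sq (i6.trans_lt i7) (by omega))
  have : 0 < μ := by nlinarith
  nlinarith

namespace Dat.Brauer
variable {d : Dat p x y K H} {I : Finset (G → ℂ)} {δ : (G → ℂ) → ℤ} {ξ : d.J → G → ℂ} {δ0 : ℤ}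
  (b : d.Brauer I δ ξ δ0) (s : NS G) {r : ℕ} (hn : (𝐍(zpowers x)).index = 1 + r * p) (hr : r < p)
  {a c X : ℕ} (hB : CaseB p (1 + r * p) a c X)
include b s hn hr hB

theorem cenB : ∃ S1 S2 S3 S4, Cen I δ (1 + r * p) (a * X) (p - 1) (c * (p + a)) S1 S2 S3 S4 ∧
    ∀ T : ℤ, T = S1.card * r + S2.card * (a - 1) - S3.card - S4.card * (c + 1) →
    δ0 = 1 ∧ Nat.card d.J * dg (ξ 1) = 1 + r * p ∧ Nat.card d.J * T + 1 + r = 0 ∨
    δ0 = 1 ∧ Nat.card d.J * dg (ξ 1) = a * X ∧ Nat.card d.J * T + a = 0 ∨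
    δ0 = -1 ∧ dg (ξ 1) = Nat.card d.E ∧ T = 0 ∨
    δ0 = -1 ∧ Nat.card d.J * dg (ξ 1) = c * (p + a) ∧ Nat.card d.J * T = c := by
  obtain ⟨S1, S2, S3, S4, h⟩ := exists_cen (δ := δ) (f1 := 1 + r * p) (f2 := a * X) (f3 := p - 1)
    (f4 := c * (p + a)) b.one fun θ h h1 => (b.sign θ h).imp
      (fun e => ⟨e, (b.posI s hn hr h h1 e).imp_right fun ⟨_, _, _, h2, h3⟩ => by
        obtain ⟨rfl, rfl, rfl⟩ := hB.unique h2; exact h3⟩)
      fun e => ⟨e, (b.negI s hn hr h e).imp_right fun ⟨_, _, _, h2, h3⟩ => by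
        obtain ⟨rfl, rfl, rfl⟩ := hB.unique h2; exact h3⟩
  refine ⟨S1, S2, S3, S4, h, fun T hT => ?_⟩
  have h1 := b.cen_deg h 1
  have h2 := b.cen_card h
  have h3 := d.e_mul_t
  obtain ⟨e1, e2, e3⟩ := hB.eqs
  have hp0 : (p : ℤ) ≠ 0 := by exact_mod_cast hp.out.ne_zero
  zify [hp.out.one_le] at h1 h2 h3
  have h4 : (Nat.card d.E : ℤ) + p * T + δ0 * dg (ξ 1) = 0 := by
    rw [hT, h2, ← h1, e3, e1]; ring
  rcases b.sign0 with e | e <;> rw [e] at h4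
  · rcases b.posξ s hn hr 1 e with h5 | ⟨_, _, _, h6, h5⟩
    · refine .inl ⟨e, h5, mul_left_cancel₀ hp0 ?_⟩
      zify at h5; linear_combination (Nat.card d.J : ℤ) * h4 - h5 - h3
    · obtain ⟨rfl, rfl, rfl⟩ := hB.unique h6
      refine .inr (.inl ⟨e, h5, mul_left_cancel₀ hp0 ?_⟩)
      zify at h5; linear_combination (Nat.card d.J : ℤ) * h4 - h5 - h3 - a * e3 + (a - 1) * e1
  · rcases b.negξ s hn hr 1 e with h5 | ⟨_, _, _, h6, h5⟩
    · refine .inr (.inr (.inl ⟨e, h5, mul_left_cancel₀ hp0 ?_⟩))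
      zify at h5; linear_combination h4 + h5
    · obtain ⟨rfl, rfl, rfl⟩ := hB.unique h6
      refine .inr (.inr (.inr ⟨e, h5, mul_left_cancel₀ hp0 ?_⟩))
      zify at h5; linear_combination (Nat.card d.J : ℤ) * h4 + h5 - h3 - e1

theorem K_bot : K = ⊥ := by
  classical
  by_contra hK
  obtain ⟨S1, S2, S3, S4, h, hT⟩ := b.cenB s hn hr hB
  obtain rfl : S3 = ∅ := Finset.eq_empty_of_forall_notMem fun θ hθ =>
    hK (b.K_of_I s (h.h3 θ hθ).1 (h.h3 θ hθ).2.1 (h.h3 θ hθ).2.2)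
  replace hT := hT _ rfl
  obtain ⟨e1, e2, e3⟩ := hB.eqs
  have h2 := b.cen_card h
  have h3 := d.e_mul_t
  have h4 := b.two_le_e s
  have ht : 0 < Nat.card d.J := Nat.card_pos
  have ha := hB.ha
  have hc := hB.hab
  zify [hp.out.one_le] at h2 h3 h4 ht
  simp only [Finset.card_empty, Nat.cast_zero, sub_zero, zero_add] at hT h2
  rcases eq_or_lt_of_le ha with rfl | ha3
  · have h5 : 2 * X = p + 1 := by omega
    rcases S2.eq_empty_or_nonempty with rfl | ⟨θ, hθ⟩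
    swap
    · obtain ⟨i1, i2, i3⟩ := h.h2 θ hθ
      exact hK (d.K_of_deg s (b.irrI θ i1) (i3.trans h5) fun i hi k hk => by
        rw [b.valI i1 hi hk, i2, Int.cast_one])
    simp only [Finset.card_empty, Nat.cast_zero, zero_mul, add_zero, Nat.cast_ofNat] at hT h2 e1 e2
    have key : ∀ u m : ℤ, 0 ≤ u → u ≤ Nat.card d.J → (2 * c + 3) * m = u → u = 0 := fun u m i1 i2 i3 => by
      have : m < 1 := by nlinarith
      have : -1 < m := by nlinarith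
      rw [← i3, show m = 0 by omega, mul_zero]
    rcases hT with ⟨-, -, i⟩ | ⟨e, i', i⟩ | ⟨e, i, -⟩ | ⟨-, -, i⟩
    · have := key _ (Nat.card d.J * (S1.card - S4.card) + 2) ht.le le_rfl (by
        rw [e2] at i; linear_combination 2 * i - h3 - e1 + Nat.card d.J * h2)
      omega
    · have := key (Nat.card d.J - 1) (Nat.card d.J * (S1.card - S4.card) + 1) (by omega) (by omega)
        (by rw [e2] at i; linear_combination 2 * i - h3 - e1 + Nat.card d.J * h2)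
      have h6 : Nat.card d.J = 1 := by omega
      rw [h6, one_mul] at i'
      have : Subsingleton d.J := (Nat.card_eq_one_iff_unique.1 h6).1
      refine hK (d.K_of_deg s (b.irrξ 1) (i'.trans h5) fun i hi k hk => ?_)
      have := sum_units_ψ (Units.mk0 i hi)
      rw [b.valξ 1 hi hk, Finset.filter_true_of_mem fun _ _ => Subsingleton.elim _ _, e]
      simp only [Units.val_mk0, mul_comm i] at this
      rw [this]; simp
    · exact hK (b.K_of_ξ s 1 e i)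
    · have := key _ (Nat.card d.J * (S1.card - S4.card)) ht.le le_rfl (by
        rw [e2] at i; linear_combination 2 * i - h3 - e1 + Nat.card d.J * h2)
      omega
  obtain ⟨w, w0, hw, hw'⟩ := b.key (d.tiC s hn hr)
  have hκ := d.cardK_dvd s hn hr
  have hκ2 : 1 < ♯K := (one_lt_card_iff_ne_bot _).2 hK
  have h5 : ∀ θ ∈ I, ∀ σ : ℤ, dg θ - δ θ = p * σ → σ ∣ r - 1 → 1 ≤ w θ := fun θ hθ σ i1 i2 => by
    obtain ⟨μ, i3⟩ := hw' θ hθ σ i1
    refine (w0 θ).lt_of_ne fun e => ?_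
    rw [← e, mul_zero, sq_nonpos_iff, sub_eq_zero] at i3
    have := Int.le_of_dvd one_pos ((dvd_sub_right (Int.natCast_dvd_natCast.2 hκ)).1
      ((Dvd.intro _ i3.symm).trans i2))
    omega
  have i2 : ∀ θ ∈ S2, (dg θ : ℤ) - δ θ = p * (a - 1) := fun θ hθ => by
    rw [(h.h2 θ hθ).2.1, (h.h2 θ hθ).2.2]; push_cast; rw [e3, e1]; ring
  have i4 : ∀ θ ∈ S4, (dg θ : ℤ) - δ θ = p * (c + 1) := fun θ hθ => by
    rw [(h.h4 θ hθ).2.1, (h.h4 θ hθ).2.2]; push_cast; rw [e1]; ring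
  have h6 : (S2.card : ℤ) ≤ ∑ θ ∈ S2, w θ := by
    simpa using Finset.card_nsmul_le_sum S2 w 1 fun θ hθ =>
      h5 θ (h.h2 θ hθ).1 _ (i2 θ hθ) ⟨c + 1, by rw [e2]; ring⟩
  have h7 := w0 (cf1 ⊤)
  have h8 : 0 ≤ ∑ θ ∈ S1, w θ := Finset.sum_nonneg fun θ _ => w0 θ
  refine arithK (by omega) (by omega) e2 (by omega) (by rw [h2]) h4 ht (by positivity)
    (by positivity) (by positivity) ?_ hw ?_
  · rcases hT with ⟨-, -, i⟩ | ⟨e, i', i⟩ | ⟨e, i, -⟩ | ⟨-, -, i⟩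
    exacts [.inl (by omega), .inl (by omega), absurd (b.K_of_ξ s 1 e i) hK, .inr i]
  rw [h.sum, Finset.sum_empty]
  rcases (Nat.le_of_dvd (r_pos s hn d) hκ).eq_or_lt with e | e
  · refine .inr ⟨?_, by omega⟩
    have : S4.card * 2 ≤ ∑ θ ∈ S4, w θ := by
      simpa using Finset.card_nsmul_le_sum S4 w 2 fun θ hθ => by
        obtain ⟨μ, i3⟩ := hw' θ (h.h4 θ hθ).1 _ (i4 θ hθ)
        exact arithW (by omega) (by omega) e2 (e ▸ i3)
    omega
  · refine .inl ⟨?_, by have := Nat.le_of_dvd (by omega) (Nat.dvd_sub hκ dvd_rfl); omega⟩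
    have : (S4.card : ℤ) ≤ ∑ θ ∈ S4, w θ := by
      simpa using Finset.card_nsmul_le_sum S4 w 1 fun θ hθ =>
        h5 θ (h.h4 θ hθ).1 _ (i4 θ hθ) ⟨a - 1, by rw [e2]; ring⟩
    omega

end Dat.Brauer
end Cfsg.Agent.BR
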