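import Cfsg.Agent.Lib.BR.Herb

/-!
# Tate cohomology of an irreducible lattice for a Sylow subgroup of order `p`
-/

set_option autoImplicit false

namespace Cfsg.Agent.BR

open Module LinearMap Subgroup

/-- `x` generates a Sylow subgroup of order `p`, `H` is a complement in its normaliser,
`K = C_H(x)`, and `y` generates `H` modulo `K`. -/
structure Dat {G : Type*} [Group G] (p : ℕ) (x y : G) (K H : Subgroup G) : Prop where
  ord : orderOf x = p
  cop : ¬ p ∣ Nat.card H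
  norm : H ≤ normalizer (zpowers x : Set G)
  gen : ∀ g ∈ normalizer (zpowers x : Set G), ∃ h ∈ H, ∃ u ∈ zpowers x, g = h * u
  defK : K = H ⊓ centralizer {x}
  yH : y ∈ H
  cyc : ∀ h ∈ H, ∃ j : ℕ, ∃ k ∈ K, h = y ^ j * k
  ypow : y ^ (p - 1) ∈ K

variable {G : Type*} [Group G] {p : ℕ} [hp : Fact p.Prime] {x y : G} {K H : Subgroup G}

theorem sumP {V : Type*} [AddCommMonoid V] [Fintype (zpowers x)] (hx : orderOf x = p)
    (f : G → V) : ∑ u : zpowers x, f u = ∑ i ∈ Finset.range p, f (x ^ i) := by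
  classical
  symm
  refine Finset.sum_bij (fun i _ => ⟨x ^ i, npow_mem_zpowers x i⟩) (fun _ _ => Finset.mem_univ _)
    ?_ ?_ (fun _ _ => rfl)
  · intro a ha b hb hab
    exact pow_injOn_Iio_orderOf (by simpa [hx] using ha) (by simpa [hx] using hb)
      (congrArg Subtype.val hab)
  · rintro ⟨u, hu⟩ -
    have hfin : IsOfFinOrder x := orderOf_pos_iff.1 (hx ▸ hp.out.pos)
    rw [hfin.mem_zpowers_iff_mem_range_orderOf, Finset.mem_image] at hu
    obtain ⟨i, hi, rfl⟩ := hu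
    exact ⟨i, hx ▸ hi, rfl⟩

namespace Dat
variable (d : Dat p x y K H)
include d

omit hp in
theorem KH : K ≤ H := d.defK ▸ inf_le_left
omit hp in
theorem Kx {k : G} (hk : k ∈ K) : Commute k x := by
  rw [d.defK] at hk
  exact (mem_centralizer_singleton_iff.1 hk.2)
omit hp in
theorem KP {k u : G} (hk : k ∈ K) (hu : u ∈ zpowers x) : Commute k u := by
  obtain ⟨i, rfl⟩ := hu
  exact (d.Kx hk).zpow_right i
omit hp in
theorem Knorm {h k : G} (hh : h ∈ H) (hk : k ∈ K) : h⁻¹ * k * h ∈ K := by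
  have h1 := d.KP hk ((mem_normalizer_iff.1 (d.norm hh) x).1 (mem_zpowers x))
  have hk' := d.KH hk
  rw [d.defK]
  refine ⟨H.mul_mem (H.mul_mem (H.inv_mem hh) hk') hh, mem_centralizer_singleton_iff.2 ?_⟩
  calc h⁻¹ * k * h * x = h⁻¹ * (k * (h * x * h⁻¹)) * h := by group
    _ = h⁻¹ * ((h * x * h⁻¹) * k) * h := by rw [h1.eq]
    _ = _ := by group

omit hp in
theorem cardP : Nat.card (zpowers x) = p := by rw [Nat.card_zpowers, d.ord]

theorem eq_one [Finite G] {u : G} (hu : u ∈ zpowers x) (hh : u ∈ H) : u = 1 := by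
  have h1 : orderOf u ∣ p := d.cardP ▸ orderOf_dvd_natCard _ hu
  have h2 : orderOf u ∣ Nat.card H := orderOf_dvd_natCard _ hh
  rcases (Nat.dvd_prime hp.out).1 h1 with h | h
  · exact orderOf_eq_one_iff.1 h
  · exact absurd (h ▸ h2) d.cop

theorem zpowers_eq [Finite G] {u : G} (hu : u ∈ zpowers x) (h1 : u ≠ 1) :
    zpowers u = zpowers x := by
  refine eq_of_le_of_card_ge (zpowers_le.2 hu) ?_
  have h2 : orderOf u ∣ p := d.cardP ▸ orderOf_dvd_natCard _ hu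
  rcases (Nat.dvd_prime hp.out).1 h2 with h | h
  · exact absurd (orderOf_eq_one_iff.1 h) h1
  · rw [d.cardP, Nat.card_zpowers, h]

theorem mem_norm [Finite G] {u g : G} (hu : u ∈ zpowers x) (h1 : u ≠ 1)
    (hg : g * u * g⁻¹ ∈ zpowers x) : g ∈ normalizer (zpowers x : Set G) := by
  refine mem_normalizer_fintype fun n hn => ?_
  rw [← d.zpowers_eq hu h1] at hn
  obtain ⟨i, rfl⟩ := hn
  have := (zpowers x).zpow_mem hg i
  rwa [conj_zpow] at this

theorem sumN {V : Type*} [AddCommMonoid V] [Fintype G] [Fintype H] [Fintype (zpowers x)]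
    [DecidablePred (· ∈ normalizer (zpowers x : Set G))] (F : G → V) :
    ∑ g ∈ Finset.univ.filter (· ∈ normalizer (zpowers x : Set G)), F g =
      ∑ h : H, ∑ u : zpowers x, F (h * u) := by
  rw [← Fintype.sum_prod_type']
  symm
  refine Finset.sum_bij (fun a _ => (a.1 : G) * a.2) ?_ ?_ ?_ (fun _ _ => rfl)
  · intro a _
    exact Finset.mem_filter.2 ⟨Finset.mem_univ _, mul_mem (d.norm a.1.2) (le_normalizer a.2.2)⟩
  · intro a _ b _ hab
    have h1 : (b.1 : G)⁻¹ * a.1 = b.2 * (a.2 : G)⁻¹ := by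
      rw [inv_mul_eq_iff_eq_mul, ← mul_assoc, ← hab]; group
    have h2 := d.eq_one (h1 ▸ mul_mem b.2.2 (inv_mem a.2.2)) (mul_mem (inv_mem b.1.2) a.1.2)
    have h3 : a.1 = b.1 := Subtype.ext (inv_mul_eq_one.1 h2).symm
    refine Prod.ext h3 (Subtype.ext ?_)
    rw [h3] at hab
    exact mul_left_cancel hab
  · intro g hg
    obtain ⟨h, hh, u, hu, rfl⟩ := d.gen g (Finset.mem_filter.1 hg).2
    exact ⟨(⟨h, hh⟩, ⟨u, hu⟩), Finset.mem_univ _, rfl⟩

variable {M : Type*} [AddCommGroup M] [Module ℤ_[p] M] [Module.Free ℤ_[p] M]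
  [Module.Finite ℤ_[p] M] (ρ : G →* End ℤ_[p] M)

omit [Module.Finite ℤ_[p] M] in
theorem transfer [Finite G] [Fintype H] (φ : End ℤ_[p] M) (hφ : Commute φ (ρ x)) :
    ∃ Φ η : End ℤ_[p] M, (∀ g, Commute Φ (ρ g)) ∧ Φ = ∑ h : H, ρ h * φ * ρ (h : G)⁻¹ +
      ∑ i ∈ Finset.range p, ρ (x ^ i) * η * ρ (x ^ i)⁻¹ := by
  classical
  have := Fintype.ofFinite G
  have hP : ∀ u ∈ zpowers x, ρ u * φ * ρ u⁻¹ = φ := by
    intro u hu
    obtain ⟨i, rfl⟩ := (mem_powers_iff_mem_zpowers.2 hu)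
    simp only
    rw [map_pow, ← (hφ.pow_right i).eq, ← map_pow, mul_assoc, ← map_mul]; simp
  let F : G → End ℤ_[p] M := fun g => ρ g * φ * ρ g⁻¹
  have hF : ∀ g, ∀ u ∈ zpowers x, F (g * u) = F g := fun g u hu => by
    simp only [F]
    conv_rhs => rw [← hP u hu]
    simp [mul_assoc]
  have hT : ∀ g, Commute (∑ a, F a) (ρ g) := fun g => by
    change (∑ a, F a) * ρ g = ρ g * ∑ a, F a
    rw [Finset.sum_mul, Finset.mul_sum, ← Equiv.sum_comp (Equiv.mulLeft g)]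
    refine Finset.sum_congr rfl fun a _ => ?_
    simp only [F, Equiv.coe_mulLeft, mul_assoc, ← map_mul]
    simp [mul_assoc]
  let tr : End ℤ_[p] M →+ End ℤ_[p] M := AddMonoidHom.mk'
    (fun η => (p : ℤ_[p]) • ∑ u : zpowers x, ρ u * η * ρ (u : G)⁻¹) (fun a b => by
      simp [mul_add, add_mul, Finset.sum_add_distrib])
  letI : MulAction (zpowers x × zpowers x) G :=
    { smul := fun a g => a.1 * g * (a.2 : G)⁻¹
      one_smul := fun g => by change (1 : G) * g * (1 : G)⁻¹ = g; simp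
      mul_smul := fun a b g => by
        change (a.1 * b.1 : G) * g * (a.2 * b.2 : G)⁻¹ = a.1 * (b.1 * g * (b.2 : G)⁻¹) * (a.2 : G)⁻¹
        group }
  have hs : ∀ (a : zpowers x × zpowers x) (g : G), a • g = a.1 * g * (a.2 : G)⁻¹ := fun _ _ => rfl
  obtain ⟨η, hη⟩ := free_sum (H := zpowers x × zpowers x)
    (Finset.univ.filter (· ∉ normalizer (zpowers x : Set G))) (fun a g hg => by
      refine Finset.mem_filter.2 ⟨Finset.mem_univ _, fun h => (Finset.mem_filter.1 hg).2 ?_⟩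
      rw [hs, mul_mem_cancel_right (le_normalizer (inv_mem a.2.2)),
        mul_mem_cancel_left (le_normalizer a.1.2)] at h
      exact h) (fun a g hg h => by
      rw [hs] at h
      have h2 : g * a.2 * g⁻¹ = a.1 := by rw [mul_inv_eq_iff_eq_mul] at h; rw [← h]; group
      have h3 : (a.2 : G) = 1 := by
        by_contra hn
        exact (Finset.mem_filter.1 hg).2 (d.mem_norm a.2.2 hn (h2 ▸ a.1.2))
      rw [h3, mul_one, mul_inv_cancel] at h2
      exact Prod.ext (Subtype.ext h2.symm) (Subtype.ext h3)) tr.range F (fun g _ => by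
      refine ⟨F g, ?_⟩
      rw [Fintype.sum_prod_type]
      simp only [tr, AddMonoidHom.mk'_apply, hs, Finset.smul_sum]
      refine Finset.sum_congr rfl fun u _ => ?_
      rw [Finset.sum_congr rfl fun v _ => hF _ _ (inv_mem v.2), Finset.sum_const, Finset.card_univ,
        ← Nat.card_eq_fintype_card, d.cardP, Nat.cast_smul_eq_nsmul]
      simp [F, mul_assoc])
  have h1 : ∑ a, F a = (p : ℤ_[p]) • (∑ h : H, ρ h * φ * ρ (h : G)⁻¹ +
      ∑ i ∈ Finset.range p, ρ (x ^ i) * η * ρ (x ^ i)⁻¹) := by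
    rw [← Finset.sum_filter_add_sum_filter_not Finset.univ (· ∈ normalizer (zpowers x : Set G)),
      ← hη, smul_add, ← sumP d.ord (fun u => ρ u * η * ρ u⁻¹), d.sumN, Finset.smul_sum]
    congr 1
    refine Finset.sum_congr rfl fun h _ => ?_
    rw [Finset.sum_congr rfl fun v _ => hF _ _ v.2, Finset.sum_const, Finset.card_univ,
        ← Nat.card_eq_fintype_card, d.cardP, Nat.cast_smul_eq_nsmul]
  refine ⟨_, η, fun g => p_smul_inj_end (p := p) ?_, rfl⟩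
  rw [← smul_mul_assoc, ← mul_smul_comm, ← h1]
  exact hT g

end Dat

variable {M : Type*} [AddCommGroup M] [Module ℤ_[p] M] (ρ : G →* End ℤ_[p] M)

theorem side [Fintype H] (hH : ¬ p ∣ Nat.card H) (S Q S' Q' : Submodule ℤ_[p] M)
    (hSp : ∀ m, (p : ℤ_[p]) • m ∈ S → (p : ℤ_[p]) • m ∈ Q)
    (hSp2 : ∀ m ∈ S, (p : ℤ_[p]) • m ∈ Q)
    (hSp' : ∀ m, (p : ℤ_[p]) • m ∈ S' → (p : ℤ_[p]) • m ∈ Q') (hQS : Q ≤ S)
    (hHS : ∀ h ∈ H, ∀ m ∈ S, ρ h m ∈ S) (hHQ : ∀ h ∈ H, ∀ m ∈ Q, ρ h m ∈ Q)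
    {v : M} (hv : v ∈ S) (hvQ : v ∉ Q) (heig : ∀ h ∈ H, ∃ c : ℤ_[p], ρ h v - c • v ∈ Q)
    (φ : End ℤ_[p] M) (F : M →ₗ[ℤ_[p]] ℤ_[p]) (hF1 : F v = 1) (hFQ : ∀ q ∈ Q, (p : ℤ_[p]) ∣ F q)
    (hφ : ∀ m ∈ S, φ m - F m • v ∈ Q) (Φ : End ℤ_[p] M)
    (hS : ∀ m ∈ S, Φ m ∈ S) (hQ : ∀ m ∈ Q, Φ m ∈ Q) (hS' : ∀ m ∈ S', Φ m ∈ S')
    (hΦS : ∀ m ∈ S, Φ m - (∑ h : H, ρ h * φ * ρ (h : G)⁻¹) m ∈ Q) (hΦS' : ∀ m ∈ S', Φ m ∈ Q')
    (hloc : ∃ n, 0 < n ∧ ∃ ψ : End ℤ_[p] M,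
      Φ ^ n = (p : ℤ_[p]) • ψ ∨ Φ ^ n = 1 + (p : ℤ_[p]) • ψ) :
    Cyc S Q ∧ S' ≤ Q' := by
  obtain ⟨n, hn, ψ, hψ⟩ := hloc
  have hpow : ∀ (T : Submodule ℤ_[p] M), (∀ m ∈ T, Φ m ∈ T) → ∀ k, ∀ m ∈ T, (Φ ^ k) m ∈ T := by
    intro T hT k m hm
    induction k with
    | zero => exact hm
    | succ k ih => rw [pow_succ', End.mul_apply]; exact hT _ ih
  have hφQ : ∀ q ∈ Q, φ q ∈ Q := fun q hq => by
    obtain ⟨c, hc⟩ := hFQ q hq
    have := Q.add_mem (hφ q (hQS hq)) (Q.smul_mem c (hSp2 v hv))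
    rwa [hc, mul_comm, mul_smul, sub_add_cancel] at this
  have h1 : ∀ m ∈ S, ∃ c : ℤ_[p], Φ m - c • v ∈ Q := fun m hm => by
    choose c hc using heig
    refine ⟨∑ h : H, F (ρ (h : G)⁻¹ m) * c h h.2, ?_⟩
    have h2 : (∑ h : H, ρ h * φ * ρ (h : G)⁻¹) m - (∑ h : H, F (ρ (h : G)⁻¹ m) * c h h.2) • v ∈ Q := by
      rw [LinearMap.sum_apply, Finset.sum_smul, ← Finset.sum_sub_distrib]
      refine Q.sum_mem fun h _ => ?_
      have := Q.add_mem (hHQ h h.2 _ (hφ _ (hHS _ (inv_mem h.2) m hm)))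
        (Q.smul_mem (F (ρ (h : G)⁻¹ m)) (hc h h.2))
      convert this using 1
      simp only [End.mul_apply, map_sub, map_smul, smul_sub, mul_smul]; abel
    have := Q.add_mem (hΦS m hm) h2
    rwa [sub_add_sub_cancel] at this
  have h2 : Φ v - (Nat.card H : ℤ_[p]) • v ∈ Q := by
    have h2 : (∑ h : H, ρ h * φ * ρ (h : G)⁻¹) v - (Nat.card H : ℤ_[p]) • v ∈ Q := by
      rw [LinearMap.sum_apply, Nat.cast_smul_eq_nsmul, Nat.card_eq_fintype_card,
        ← Finset.card_univ, ← Finset.sum_const, ← Finset.sum_sub_distrib]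
      refine Q.sum_mem fun h _ => ?_
      obtain ⟨c, hc⟩ := heig _ (inv_mem h.2)
      have h3 := hφ v hv
      rw [hF1, one_smul] at h3
      have := hHQ h h.2 _ (Q.sub_mem (Q.add_mem (hφQ _ hc) (Q.smul_mem c h3)) hc)
      convert this using 1
      have h4 : ρ h (ρ (h : G)⁻¹ v) = v := by rw [← End.mul_apply, ← map_mul]; simp
      simp only [End.mul_apply, map_sub, map_add, map_smul, smul_sub, h4]; abel
    have := Q.add_mem (hΦS v hv) h2
    rwa [sub_add_sub_cancel] at this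
  have h3 : ∀ k, (Φ ^ k) v - (Nat.card H : ℤ_[p]) ^ k • v ∈ Q := fun k => by
    induction k with
    | zero => simp
    | succ k ih =>
      have := Q.add_mem (hQ _ ih) (Q.smul_mem ((Nat.card H : ℤ_[p]) ^ k) h2)
      convert this using 1
      simp only [pow_succ', End.mul_apply, map_sub, map_smul, smul_sub, mul_smul,
        smul_comm (Nat.card H : ℤ_[p])]; abel
  have hu : IsUnit (Nat.card H : ℤ_[p]) := by
    rw [PadicInt.isUnit_iff]
    exact PadicInt.norm_natCast_eq_one_iff.2 ((Nat.Prime.coprime_iff_not_dvd hp.out).2 hH)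
  obtain ⟨n, rfl⟩ : ∃ k, n = k + 1 := ⟨n - 1, by omega⟩
  rcases hψ with hψ | hψ
  · exfalso
    have h4 := hSp (ψ v) (by have := hpow S hS (n + 1) v hv; rwa [hψ] at this)
    have h5 := Q.sub_mem h4 (h3 (n + 1))
    rw [hψ, LinearMap.smul_apply, sub_sub_cancel] at h5
    exact hvQ ((Q.smul_mem_iff_of_isUnit (hu.pow _)).1 h5)
  · have h6 : ∀ m, (p : ℤ_[p]) • ψ m = (Φ ^ (n + 1)) m - m := fun m => by simp [hψ]
    refine ⟨⟨v, hv, fun m hm => ?_⟩, fun m hm => ?_⟩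
    · obtain ⟨c, hc⟩ := h1 _ (hpow S hS n m hm)
      have h4 := hSp (ψ m) (by rw [h6]; exact S.sub_mem (hpow S hS _ m hm) hm)
      refine ⟨c, ?_⟩
      have := Q.sub_mem hc h4
      rw [h6, pow_succ', End.mul_apply] at this
      convert this using 1; abel
    · have h4 := hSp' (ψ m) (by rw [h6]; exact S'.sub_mem (hpow S' hS' _ m hm) hm)
      have := Q'.sub_mem (hΦS' _ (hpow S' hS' n m hm)) h4
      rw [h6, pow_succ', End.mul_apply] at this
      convert this using 1; abel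

end Cfsg.Agent.BR
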