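import Cfsg.Agent.Lib.BR.Tate

/-!
# Tate cohomology of an irreducible lattice, II
-/

set_option autoImplicit false

namespace Cfsg.Agent.BR

open Module LinearMap Subgroup

variable {G : Type*} [Group G] [Finite G] {p : ℕ} [hp : Fact p.Prime] {x y : G} {K H : Subgroup G}
  {M : Type*} [AddCommGroup M] [Module ℤ_[p] M] (ρ : G →* End ℤ_[p] M)

/-- fixed points of `K` -/
def fixK (K : Subgroup G) : Submodule ℤ_[p] M where
  carrier := {m | ∀ k ∈ K, ρ k m = m}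
  add_mem' ha hb k hk := by rw [map_add, ha k hk, hb k hk]
  zero_mem' k _ := map_zero _
  smul_mem' c m hm k hk := by rw [map_smul, hm k hk]

omit [Finite G] in
theorem comm_fixK {f : End ℤ_[p] M} (hf : ∀ k ∈ K, Commute f (ρ k)) {m : M} (hm : m ∈ fixK ρ K) :
    f m ∈ fixK ρ K := fun k hk => by
  rw [← End.mul_apply, ← (hf k hk).eq, End.mul_apply, hm k hk]

omit [Finite G] in
theorem comm_ker {f g : End ℤ_[p] M} (h : Commute f g) {m : M} (hm : m ∈ ker g) :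
    f m ∈ ker g := by
  rw [mem_ker, ← End.mul_apply, ← h.eq, End.mul_apply, mem_ker.1 hm, map_zero]

omit [Finite G] in
theorem comm_range {f g : End ℤ_[p] M} (h : Commute f g) {m : M} (hm : m ∈ range g) :
    f m ∈ range g := by
  obtain ⟨a, rfl⟩ := hm
  exact ⟨f a, by rw [← End.mul_apply, ← h.eq, End.mul_apply]⟩

omit [Finite G] in
theorem comm_Nm {f X : End ℤ_[p] M} (h : Commute f X) : Commute f (Nm X) :=
  Commute.sum_right _ _ _ fun i _ => h.pow_right i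

namespace Dat
variable (d : Dat p x y K H)
include d

omit [Finite G] in
theorem X_pow : ρ x ^ p = 1 := by
  have : x ^ p = 1 := d.ord ▸ pow_orderOf_eq_one x
  rw [← map_pow, this, map_one]

omit hp in
theorem conj_pow {h : G} (hh : h ∈ H) : ∃ i : ℕ, h * x * h⁻¹ = x ^ i := by
  obtain ⟨i, hi⟩ := mem_powers_iff_mem_zpowers.2
    ((mem_normalizer_iff.1 (d.norm hh) x).1 (mem_zpowers x))
  exact ⟨i, hi.symm⟩

theorem H_Nm {h : G} (hh : h ∈ H) : Commute (ρ h) (Nm (ρ x)) := by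
  have := Fintype.ofFinite (zpowers x)
  have h1 : Nm (ρ x) = ∑ u : zpowers x, ρ u := by
    rw [sumP d.ord (fun u => ρ u)]; simp [Nm]
  let e : zpowers x ≃ zpowers x := ((zpowers x).normalizerMonoidHom ⟨h, d.norm hh⟩).toEquiv
  have he : ∀ u, (e u : G) = h * u * h⁻¹ := fun u => rfl
  change _ * _ = _ * _
  rw [h1, Finset.mul_sum, Finset.sum_mul, ← Equiv.sum_comp e (fun u => ρ u * ρ h)]
  refine Finset.sum_congr rfl fun u _ => ?_
  rw [he, ← map_mul, ← map_mul]; simp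

omit [Finite G] in
theorem H_fix {h : G} (hh : h ∈ H) {m : M} (hm : m ∈ fixK ρ K) : ρ h m ∈ fixK ρ K := fun k hk => by
  conv_rhs => rw [← hm _ (d.Knorm hh hk)]
  rw [← End.mul_apply, ← End.mul_apply, ← map_mul, ← map_mul]; congr 2; group

theorem H_ker {h : G} (hh : h ∈ H) {m : M} (hm : m ∈ ker (ρ x - 1)) : ρ h m ∈ ker (ρ x - 1) := by
  obtain ⟨i, hi⟩ := d.conj_pow (inv_mem hh)
  have h1 : ρ x m = m := by simpa [sub_eq_zero] using hm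
  have h2 := pow_fixed h1 i
  rw [← map_pow, ← hi] at h2
  rw [mem_ker, LinearMap.sub_apply, End.one_apply, sub_eq_zero]
  conv_rhs => rw [← h2]
  rw [← End.mul_apply, ← End.mul_apply, ← map_mul, ← map_mul]; congr 2; group

theorem H_range {h : G} (hh : h ∈ H) {m : M} (hm : m ∈ range (ρ x - 1)) :
    ρ h m ∈ range (ρ x - 1) := by
  obtain ⟨i, hi⟩ := d.conj_pow hh
  obtain ⟨a, rfl⟩ := hm
  have := pow_sub_mem (ρ x) (ρ h a) i
  rw [← map_pow, ← hi] at this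
  convert this using 1
  rw [LinearMap.sub_apply, map_sub, End.one_apply, ← End.mul_apply, ← End.mul_apply, ← map_mul,
    ← map_mul]; congr 3; group

omit [Finite G] in
theorem X_fix {m : M} (hm : m ∈ fixK ρ K) : ρ x m ∈ fixK ρ K :=
  comm_fixK ρ (fun _ hk => (d.Kx hk).symm.map ρ) hm

omit [Finite G] in
theorem exists_eig (S Q : Submodule ℤ_[p] M) (hL : S ≤ fixK ρ K)
    (hHS : ∀ h ∈ H, ∀ m ∈ S, ρ h m ∈ S) (hHQ : ∀ h ∈ H, ∀ m ∈ Q, ρ h m ∈ Q)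
    (hp' : ∀ m ∈ S, (p : ℤ_[p]) • m ∈ Q) (h : ¬ S ≤ Q) :
    ∃ v ∈ S, v ∉ Q ∧ ∀ h ∈ H, ∃ c : ℤ_[p], ρ h v - c • v ∈ Q := by
  obtain ⟨v, hv, hvQ, c, hc⟩ := eig S Q (ρ y) (hHS y d.yH) hp' (fun m hm => by
    have : p = p - 1 + 1 := (Nat.sub_add_cancel hp.out.one_le).symm
    have h2 : ρ y ^ p = ρ y * ρ (y ^ (p - 1)) := by
      rw [map_pow, ← pow_succ', ← this]
    rw [h2, End.mul_apply, hL hm _ d.ypow]) h
  refine ⟨v, hv, hvQ, fun g hg => ?_⟩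
  obtain ⟨j, k, hk, rfl⟩ := d.cyc g hg
  refine ⟨c ^ j, ?_⟩
  rw [map_mul, End.mul_apply, hL hv k hk]
  clear hg
  induction j with
  | zero => simp
  | succ j ih =>
    have := Q.add_mem (hHQ y d.yH _ ih) (Q.smul_mem (c ^ j) hc)
    convert this using 1
    simp only [pow_succ', map_mul, End.mul_apply, map_sub, map_smul, smul_sub, mul_smul,
      smul_comm c]; abel

variable [Module.Free ℤ_[p] M]

omit [Finite G] d in
theorem pure_fix {m : M} (h : (p : ℤ_[p]) • m ∈ fixK ρ K) : m ∈ fixK ρ K := fun k hk =>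
  p_smul_inj (p := p) (by rw [← map_smul, h k hk])

omit [Finite G] d in
theorem pure_ker {f : End ℤ_[p] M} {m : M} (h : (p : ℤ_[p]) • m ∈ ker f) : m ∈ ker f :=
  p_smul_inj (p := p) (by rw [← map_smul, mem_ker.1 h, smul_zero])

omit [Finite G] d [Module.Free ℤ_[p] M] in
theorem pA {X : End ℤ_[p] M} {m : M} (h : m ∈ ker (X - 1)) : (p : ℤ_[p]) • m ∈ range (Nm X) :=
  ⟨m, Nm_fixed (by simpa [sub_eq_zero] using h)⟩

omit [Finite G] d [Module.Free ℤ_[p] M] in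
theorem pB {X : End ℤ_[p] M} {m : M} (h : m ∈ ker (Nm X)) : (p : ℤ_[p]) • m ∈ range (X - 1) := by
  have := (range (X - 1)).neg_mem (Nm_sub_mem X m)
  rwa [mem_ker.1 h, zero_sub, neg_neg] at this

omit [Finite G] d [Module.Free ℤ_[p] M] in
theorem trA (η : End ℤ_[p] M) {m : M} (h : m ∈ ker (ρ x - 1)) :
    (∑ i ∈ Finset.range p, ρ (x ^ i) * η * ρ (x ^ i)⁻¹) m ∈ range (Nm (ρ x)) := by
  refine ⟨η m, ?_⟩
  have h1 : ρ x m = m := by simpa [sub_eq_zero] using h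
  simp only [Nm, LinearMap.sum_apply, End.mul_apply]
  refine Finset.sum_congr rfl fun i _ => ?_
  have : ρ (x ^ i)⁻¹ m = m := by
    conv_lhs => rw [← pow_fixed h1 i]
    rw [← map_pow, ← End.mul_apply, ← map_mul]; simp
  rw [this, map_pow]

omit [Module.Free ℤ_[p] M] in
theorem sum_inv_Nm (m : M) : ∑ i ∈ Finset.range p, ρ (x ^ i)⁻¹ m = Nm (ρ x) m := by
  have := Fintype.ofFinite (zpowers x)
  rw [← sumP d.ord (fun u => ρ u⁻¹ m), ← Equiv.sum_comp (Equiv.inv _)]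
  simp only [Equiv.inv_apply, coe_inv, inv_inv]
  rw [sumP d.ord (fun u => ρ u m)]; simp [Nm]

omit [Module.Free ℤ_[p] M] in
theorem trB (η : End ℤ_[p] M) {m : M} (h : m ∈ ker (Nm (ρ x))) :
    (∑ i ∈ Finset.range p, ρ (x ^ i) * η * ρ (x ^ i)⁻¹) m ∈ range (ρ x - 1) := by
  have : (∑ i ∈ Finset.range p, ρ (x ^ i) * η * ρ (x ^ i)⁻¹) m = ∑ i ∈ Finset.range p,
      ((ρ x ^ i) (η (ρ (x ^ i)⁻¹ m)) - η (ρ (x ^ i)⁻¹ m)) := by
    rw [Finset.sum_sub_distrib, ← map_sum, d.sum_inv_Nm, mem_ker.1 h]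
    simp
  rw [this]
  exact Submodule.sum_mem _ fun i _ => pow_sub_mem _ _ i

variable [Module.Finite ℤ_[p] M]

theorem tate (hS : ∀ φ : End ℤ_[p] M, (∀ g, Commute φ (ρ g)) → φ = 0 ∨ Function.Injective φ) :
    (Cyc (fixK ρ K ⊓ ker (ρ x - 1)) (fixK ρ K ⊓ range (Nm (ρ x))) ∧
      fixK ρ K ⊓ ker (Nm (ρ x)) ≤ fixK ρ K ⊓ range (ρ x - 1)) ∨
    (Cyc (fixK ρ K ⊓ ker (Nm (ρ x))) (fixK ρ K ⊓ range (ρ x - 1)) ∧
      fixK ρ K ⊓ ker (ρ x - 1) ≤ fixK ρ K ⊓ range (Nm (ρ x))) := by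
  have := Fintype.ofFinite H
  have hX := d.X_pow ρ
  have hk : ∀ m, m ∈ ker (ρ x - 1) ↔ ρ x m = m := fun m => by simp [sub_eq_zero]
  have a1 : ∀ m, (p : ℤ_[p]) • m ∈ fixK ρ K ⊓ ker (ρ x - 1) →
    (p : ℤ_[p]) • m ∈ fixK ρ K ⊓ range (Nm (ρ x)) := fun m hm => ⟨hm.1, pA (pure_ker hm.2)⟩
  have b1 : ∀ m, (p : ℤ_[p]) • m ∈ fixK ρ K ⊓ ker (Nm (ρ x)) →
    (p : ℤ_[p]) • m ∈ fixK ρ K ⊓ range (ρ x - 1) := fun m hm => ⟨hm.1, pB (pure_ker hm.2)⟩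
  have a2 : ∀ h ∈ H, ∀ m ∈ fixK ρ K ⊓ ker (ρ x - 1), ρ h m ∈ fixK ρ K ⊓ ker (ρ x - 1) :=
    fun h hh m hm => ⟨d.H_fix ρ hh hm.1, d.H_ker ρ hh hm.2⟩
  have a3 : ∀ h ∈ H, ∀ m ∈ fixK ρ K ⊓ range (Nm (ρ x)), ρ h m ∈ fixK ρ K ⊓ range (Nm (ρ x)) :=
    fun h hh m hm => ⟨d.H_fix ρ hh hm.1, comm_range (d.H_Nm ρ hh) hm.2⟩
  have b2 : ∀ h ∈ H, ∀ m ∈ fixK ρ K ⊓ ker (Nm (ρ x)), ρ h m ∈ fixK ρ K ⊓ ker (Nm (ρ x)) :=
    fun h hh m hm => ⟨d.H_fix ρ hh hm.1, comm_ker (d.H_Nm ρ hh) hm.2⟩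
  have b3 : ∀ h ∈ H, ∀ m ∈ fixK ρ K ⊓ range (ρ x - 1), ρ h m ∈ fixK ρ K ⊓ range (ρ x - 1) :=
    fun h hh m hm => ⟨d.H_fix ρ hh hm.1, d.H_range ρ hh hm.2⟩
  have hc : ∀ Φ : End ℤ_[p] M, (∀ g, Commute Φ (ρ g)) → Commute Φ (ρ x - 1) := fun Φ h =>
    (h x).sub_right (Commute.one_right _)
  by_cases hA : fixK ρ K ⊓ ker (ρ x - 1) ≤ fixK ρ K ⊓ range (Nm (ρ x))
  swap
  · left
    obtain ⟨v, hv, hvQ, heig⟩ := d.exists_eig ρ _ _ inf_le_left a2 a3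
      (fun m hm => a1 m (Submodule.smul_mem _ _ hm)) hA
    obtain ⟨F, hF1, hF⟩ := sep (range (Nm (ρ x)) ⊔ range ((p : ℤ_[p]) • (1 : End ℤ_[p] M)))
      (fun m => Submodule.mem_sup_right ⟨m, rfl⟩) (v := v) (fun h => by
        obtain ⟨a, ha, _, ⟨b, rfl⟩, hab⟩ := Submodule.mem_sup.1 h
        have h1 : a ∈ ker (ρ x - 1) := by obtain ⟨c, rfl⟩ := ha; exact (hk _).2 (X_Nm hX c)
        have h2 : (p : ℤ_[p]) • b ∈ ker (ρ x - 1) := by
          have := Submodule.sub_mem _ hv.2 h1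
          rwa [← hab, add_sub_cancel_left] at this
        exact hvQ ⟨hv.1, hab ▸ Submodule.add_mem _ ha (pA (pure_ker h2))⟩)
    obtain ⟨F', hF'⟩ := exists_div (F ∘ₗ Nm (ρ x)) (fun m =>
      hF _ (Submodule.mem_sup_left ⟨m, rfl⟩))
    have hF2 : ∀ m, F (Nm (ρ x) m) = (p : ℤ_[p]) • F' m := fun m => LinearMap.congr_fun hF' m
    have hφ : Commute (F'.smulRight v) (ρ x) := by
      ext m
      have : F' (ρ x m) = F' m := p_smul_inj (p := p) (by rw [← hF2, ← hF2, Nm_X hX])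
      simp [this, (hk v).1 hv.2]
    obtain ⟨Φ, η, hΦ, hΦη⟩ := d.transfer ρ _ hφ
    have hsum : ∀ m, (∑ h : H, ρ h * F'.smulRight v * ρ (h : G)⁻¹) m ∈ fixK ρ K := fun m => by
      rw [LinearMap.sum_apply]
      exact Submodule.sum_mem _ fun h _ => d.H_fix ρ h.2 (Submodule.smul_mem _ _ hv.1)
    refine side ρ d.cop _ _ _ _ a1 (fun m hm => a1 m (Submodule.smul_mem _ _ hm)) b1
      (fun m hm => ⟨hm.1, by obtain ⟨c, rfl⟩ := hm.2; exact (hk _).2 (X_Nm hX c)⟩) a2 a3 hv hvQ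
      heig (F'.smulRight v) F hF1 (fun q hq => hF q (Submodule.mem_sup_left hq.2)) (fun m hm => ?_)
      Φ (fun m hm => ⟨comm_fixK ρ (fun k _ => hΦ k) hm.1, comm_ker (hc Φ hΦ) hm.2⟩)
      (fun m hm => ⟨comm_fixK ρ (fun k _ => hΦ k) hm.1, comm_range (comm_Nm (hΦ x)) hm.2⟩)
      (fun m hm => ⟨comm_fixK ρ (fun k _ => hΦ k) hm.1, comm_ker (comm_Nm (hΦ x)) hm.2⟩)
      (fun m hm => ⟨Submodule.sub_mem _ (comm_fixK ρ (fun k _ => hΦ k) hm.1) (hsum m), ?_⟩)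
      (fun m hm => ⟨comm_fixK ρ (fun k _ => hΦ k) hm.1, ?_⟩) (loc (fun g => ρ g) hS Φ hΦ)
    · have : F' m = F m := p_smul_inj (p := p) (by rw [← hF2, Nm_fixed ((hk m).1 hm.2), map_smul])
      simp [this]
    · rw [hΦη, LinearMap.add_apply, add_sub_cancel_left]
      exact trA ρ η hm.2
    · rw [hΦη, LinearMap.add_apply, LinearMap.sum_apply, Finset.sum_eq_zero, zero_add]
      · exact d.trB ρ η hm.2
      · intro h _
        have : F' (ρ (h : G)⁻¹ m) = 0 := p_smul_inj (p := p) (by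
          rw [← hF2, mem_ker.1 (b2 _ (inv_mem h.2) m hm).2, map_zero, smul_zero])
        simp [this]
  by_cases hB : fixK ρ K ⊓ ker (Nm (ρ x)) ≤ fixK ρ K ⊓ range (ρ x - 1)
  · left
    exact ⟨⟨0, Submodule.zero_mem _, fun m hm => ⟨0, by simpa using hA hm⟩⟩, hB⟩
  right
  obtain ⟨v, hv, hvQ, heig⟩ := d.exists_eig ρ _ _ inf_le_left b2 b3
    (fun m hm => b1 m (Submodule.smul_mem _ _ hm)) hB
  have hNu : ∀ a ∈ range (ρ x - 1), a ∈ ker (Nm (ρ x)) := by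
    rintro _ ⟨c, rfl⟩
    change Nm (ρ x) (ρ x c - c) = 0
    rw [map_sub, Nm_X hX, sub_self]
  obtain ⟨F, hF1, hF⟩ := sep (range (ρ x - 1) ⊔ range ((p : ℤ_[p]) • (1 : End ℤ_[p] M)))
    (fun m => Submodule.mem_sup_right ⟨m, rfl⟩) (v := v) (fun h => by
      obtain ⟨a, ha, _, ⟨b, rfl⟩, hab⟩ := Submodule.mem_sup.1 h
      have h2 : (p : ℤ_[p]) • b ∈ ker (Nm (ρ x)) := by
        have := Submodule.sub_mem _ hv.2 (hNu a ha)
        rwa [← hab, add_sub_cancel_left] at this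
      exact hvQ ⟨hv.1, hab ▸ Submodule.add_mem _ ha (pB (pure_ker h2))⟩)
  have ha : ∀ (i : ℕ) m, ∃ a, F (ρ (x ^ i)⁻¹ m) = F m - p * a := fun i m => by
    obtain ⟨a, ha⟩ := hF _ (Submodule.mem_sup_left (pow_sub_mem (ρ x) (ρ (x ^ i)⁻¹ m) i))
    rw [← map_pow, ← End.mul_apply, ← map_mul, mul_inv_cancel, map_one, End.one_apply,
      map_sub] at ha
    exact ⟨a, by rw [← ha]; ring⟩
  choose a ha using ha
  have hT : ∀ m, (-∑ i ∈ Finset.range p, ρ (x ^ i) * F.smulRight v * ρ (x ^ i)⁻¹) m =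
      (p : ℤ_[p]) • ∑ i ∈ Finset.range p, a i m • (ρ x ^ i) v := fun m => by
    have h0 : ∑ i ∈ Finset.range p, (ρ x ^ i) v = 0 := by
      have := mem_ker.1 hv.2
      simpa [Nm] using this
    simp only [LinearMap.neg_apply, LinearMap.sum_apply, End.mul_apply, smulRight_apply, ha,
      map_smul, sub_smul, Finset.sum_sub_distrib, map_pow, map_sub, ← Finset.smul_sum, h0,
      mul_smul]
    simp
  obtain ⟨φ, hφd⟩ := exists_div _ (fun m => ⟨_, hT m⟩)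
  have hφ1 : ∀ m, φ m = ∑ i ∈ Finset.range p, a i m • (ρ x ^ i) v := fun m =>
    p_smul_inj (p := p) (by rw [← hT, hφd]; rfl)
  have hφ : Commute φ (ρ x) := by
    refine p_smul_inj_end (p := p) ?_
    rw [← smul_mul_assoc, ← mul_smul_comm, ← hφd, neg_mul, mul_neg, neg_inj]
    have := Fintype.ofFinite (zpowers x)
    rw [← sumP d.ord (fun u => ρ u * F.smulRight v * ρ u⁻¹), Finset.sum_mul, Finset.mul_sum,
      ← Equiv.sum_comp (Equiv.mulLeft ⟨x, mem_zpowers x⟩)]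
    refine Finset.sum_congr rfl fun u _ => ?_
    simp only [Equiv.coe_mulLeft, mul_assoc, ← map_mul, coe_mul]
    simp [mul_assoc]
  obtain ⟨Φ, η, hΦ, hΦη⟩ := d.transfer ρ _ hφ
  have hφL : ∀ m, φ m ∈ fixK ρ K := fun m => by
    rw [hφ1]
    exact Submodule.sum_mem _ fun i _ => Submodule.smul_mem _ _
      (comm_fixK ρ (fun _ hk => ((d.Kx hk).symm.map ρ).pow_left i) hv.1)
  have hsum : ∀ m, (∑ h : H, ρ h * φ * ρ (h : G)⁻¹) m ∈ fixK ρ K := fun m => by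
    rw [LinearMap.sum_apply]
    exact Submodule.sum_mem _ fun h _ => d.H_fix ρ h.2 (hφL _)
  refine side ρ d.cop _ _ _ _ b1 (fun m hm => b1 m (Submodule.smul_mem _ _ hm)) a1
    (fun m hm => ⟨hm.1, hNu m hm.2⟩) b2 b3 hv hvQ
    heig φ F hF1 (fun q hq => hF q (Submodule.mem_sup_left hq.2)) (fun m hm => ?_)
    Φ (fun m hm => ⟨comm_fixK ρ (fun k _ => hΦ k) hm.1, comm_ker (comm_Nm (hΦ x)) hm.2⟩)
    (fun m hm => ⟨comm_fixK ρ (fun k _ => hΦ k) hm.1, comm_range (hc Φ hΦ) hm.2⟩)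
    (fun m hm => ⟨comm_fixK ρ (fun k _ => hΦ k) hm.1, comm_ker (hc Φ hΦ) hm.2⟩)
    (fun m hm => ⟨Submodule.sub_mem _ (comm_fixK ρ (fun k _ => hΦ k) hm.1) (hsum m), ?_⟩)
    (fun m hm => ⟨comm_fixK ρ (fun k _ => hΦ k) hm.1, ?_⟩) (loc (fun g => ρ g) hS Φ hΦ)
  · refine ⟨Submodule.sub_mem _ (hφL m) (Submodule.smul_mem _ _ hv.1), ?_⟩
    have h1 : ∑ i ∈ Finset.range p, a i m = F m := by
      apply mul_left_cancel₀ (p_ne (p := p))
      have := congrArg F (d.sum_inv_Nm ρ m)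
      rw [mem_ker.1 hm.2, map_zero, map_sum] at this
      simp only [ha, Finset.sum_sub_distrib, Finset.sum_const, Finset.card_range, nsmul_eq_mul,
        ← Finset.mul_sum] at this
      linear_combination -this
    rw [hφ1, ← h1, Finset.sum_smul, ← Finset.sum_sub_distrib]
    exact Submodule.sum_mem _ fun i _ => by
      rw [← smul_sub]; exact Submodule.smul_mem _ _ (pow_sub_mem _ _ i)
  · rw [hΦη, LinearMap.add_apply, add_sub_cancel_left]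
    exact d.trB ρ η hm.2
  · exact (hA ⟨comm_fixK ρ (fun k _ => hΦ k) hm.1, comm_ker (hc Φ hΦ) hm.2⟩).2

theorem trace_eq [Fintype K]
    (hS : ∀ φ : End ℤ_[p] M, (∀ g, Commute φ (ρ g)) → φ = 0 ∨ Function.Injective φ) :
    ∃ δ : ℤ, (δ = 0 ∨ δ = 1 ∨ δ = -1) ∧
      ∑ i ∈ Finset.range p, ∑ k : K, trace ℤ_[p] M (ρ (x ^ i * k)) - ∑ k : K, trace ℤ_[p] M (ρ k) =
        Nat.card K * (δ * (p - 1)) := by
  let E : End ℤ_[p] M := ∑ k : K, ρ k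
  have hE1 : ∀ m, E m ∈ fixK ρ K := fun m k hk => by
    simp only [E, LinearMap.sum_apply, map_sum]
    rw [← Equiv.sum_comp (Equiv.mulLeft ⟨k, hk⟩) (fun u : K => ρ u m)]
    simp
  have hE2 : ∀ m ∈ fixK ρ K, E m = (Nat.card K : ℤ_[p]) • m := fun m hm => by
    simp only [E, LinearMap.sum_apply]
    rw [Finset.sum_congr rfl fun (k : K) _ => hm k k.2]
    simp [Nat.cast_smul_eq_nsmul]
  have hEX : Commute E (ρ x) := Commute.sum_left _ _ _ fun k _ => (d.Kx k.2).map ρ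
  have hu : IsUnit (Nat.card K : ℤ_[p]) := by
    rw [PadicInt.isUnit_iff]
    exact PadicInt.norm_natCast_eq_one_iff.2 ((Nat.Prime.coprime_iff_not_dvd hp.out).2
      fun h => d.cop (h.trans (card_dvd_of_le d.KH)))
  obtain ⟨u, hu⟩ := hu
  let Y : End ℤ_[p] (fixK ρ K) := (ρ x).restrict fun _ hm => d.X_fix ρ hm
  have hY : ∀ m, (Y m : M) = ρ x m := fun _ => rfl
  have hYp : Y ^ p = 1 := by ext m; rw [pow_coe hY, d.X_pow]; rfl
  have hr : ∀ (f : End ℤ_[p] M) (g : End ℤ_[p] (fixK ρ K)), (∀ m, (g m : M) = f m) → Commute E f →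
      ∀ m : fixK ρ K, (m : M) ∈ range f → m ∈ range g := by
    rintro f g hfg hc m ⟨a, ha⟩
    refine ⟨(u⁻¹ : ℤ_[p]ˣ) • ⟨E a, hE1 a⟩, Subtype.ext ?_⟩
    rw [hfg, Units.smul_def, Submodule.coe_smul, map_smul, ← End.mul_apply, ← hc.eq, End.mul_apply,
      ha, hE2 _ m.2, ← hu, smul_smul]; simp
  have r1 := hr _ _ (Nm_coe hY) (comm_Nm hEX)
  have r2 := hr (ρ x - 1) (Y - 1) (fun _ => rfl) (hEX.sub_right (Commute.one_right _))
  have k1 : ∀ m : fixK ρ K, m ∈ ker (Nm Y) ↔ (m : M) ∈ ker (Nm (ρ x)) := fun m => by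
    rw [mem_ker, mem_ker, ← Nm_coe hY]; simp
  have k2 : ∀ m : fixK ρ K, m ∈ ker (Y - 1) ↔ (m : M) ∈ ker (ρ x - 1) := fun m => by
    rw [mem_ker, mem_ker, ← Subtype.coe_inj]; rfl
  obtain ⟨δ, hδ, h⟩ := herb_trace hYp (by
    rcases d.tate ρ hS with ⟨⟨v, hv, h1⟩, h2⟩ | ⟨⟨v, hv, h1⟩, h2⟩
    · refine Or.inl ⟨⟨⟨v, hv.1⟩, (k2 _).2 hv.2, fun m hm => ?_⟩, fun m hm =>
        r2 m (h2 ⟨m.2, (k1 m).1 hm⟩).2⟩
      obtain ⟨c, hc⟩ := h1 m ⟨m.2, (k2 m).1 hm⟩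
      exact ⟨c, r1 _ hc.2⟩
    · refine Or.inr ⟨⟨⟨v, hv.1⟩, (k1 _).2 hv.2, fun m hm => ?_⟩, fun m hm =>
        r1 m (h2 ⟨m.2, (k2 m).1 hm⟩).2⟩
      obtain ⟨c, hc⟩ := h1 m ⟨m.2, (k1 m).1 hm⟩
      exact ⟨c, r2 _ hc.2⟩)
  refine ⟨δ, hδ, ?_⟩
  have hm : ∀ m, ((Nm (ρ x) - 1) * E) m ∈ fixK ρ K := fun m =>
    comm_fixK ρ (fun k hk => ((comm_Nm ((d.Kx hk).map ρ)).sub_right (Commute.one_right _)).symm)
      (hE1 m)
  have h1 := trace_restrict_eq_of_forall_mem _ _ hm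
  have h2 : ((Nm (ρ x) - 1) * E).restrict (fun m _ => hm m) =
      (Nat.card K : ℤ_[p]) • (Nm Y - 1) := by
    ext m
    simp [hE2 m m.2, Nm_coe hY]
  rw [h2, map_smul, h, smul_eq_mul] at h1
  rw [h1, sub_mul, one_mul, map_sub, Nm, Finset.sum_mul]
  simp only [E, Finset.mul_sum, map_sum, map_mul, map_pow]

end Dat
end Cfsg.Agent.BR
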