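import Cfsg.Agent.Lib.BR.Geo
import Cfsg.Agent.Lib.Blk.Weak

/-!
# Character theoretic tools
-/

set_option autoImplicit false

namespace Cfsg.Agent.BR

open Subgroup Cfsg.Agent.OO
open scoped ComplexConjugate Pointwise

universe u

variable {G : Type u} [Group G] [Finite G] {p : ℕ} [hp : Fact p.Prime] {x y : G} {K H : Subgroup G}

omit hp in
/-- characters of defect zero vanish on singular elements -/
theorem dz {χ : G → ℂ} (hχ : IsIrr ⊤ χ) {m l : ℕ} (h : Nat.card G = dg χ * m) (hl : l.Prime)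
    (hm : ¬ l ∣ m) {g : G} (hg : l ∣ orderOf g) : χ g = 0 := by
  classical
  have := Fact.mk hl
  have := Fintype.ofFinite G
  have h0 := irr1_neq0 hχ
  have h1 := Blk.weak_orth_of_zi (p := l) (B := {χ}) (H := ⊤) (by simpa using hχ) (fun z => by
    rw [Blk.zf_apply, Finset.sum_eq_single_of_mem χ (mem_Irr.2 hχ) fun θ _ e => by
      rw [Blk.ind_of_not_mem (by simpa using e), zero_mul, zero_mul],
      Blk.ind_of_mem (by simp), card_top, h, Nat.cast_mul, ← dg_eq hχ.isChar, one_mul,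
      mul_inv, mul_comm (χ 1)⁻¹, mul_assoc, inv_mul_cancel_left₀ h0]
    exact ((Blk.pInt_natCast m).inv fun h => hm (Blk.pSm_natCast.1 h)).mul
      (Blk.pInt_of_isIntegral (Aint_conj (Aint_char hχ.isChar z))))
    (mem_top 1) (mem_top g) (by rw [orderOf_one]; exact hl.not_dvd_one) hg
  simpa [h0] using h1

/-- the part of `χ` with `P` in the kernel -/
noncomputable def fixP (P L : Subgroup G) (χ : G → ℂ) : G → ℂ :=
  cfRes L fun g => (♯P : ℂ)⁻¹ * ∑ u ∈ elts (P : Set G), χ (u * g)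

omit hp in
theorem fixP_apply {P L : Subgroup G} (χ : G → ℂ) {g : G} (hg : g ∈ L) :
    fixP P L χ g = (♯P : ℂ)⁻¹ * ∑ u ∈ elts (P : Set G), χ (u * g) := cfResE _ hg

omit hp in
theorem fixP_char {P L : Subgroup G} (hP : P ⊴ L) {φ : G → ℂ} (hφ : IsChar L φ) :
    IsChar L (fixP P L φ) := by
  refine hφ.induction (P := fun φ => IsChar L (fixP P L φ)) ?_ (fun θ hθ => ?_)
    fun a b _ _ ha hb => ?_
  · have : fixP P L 0 = 0 := by
      ext g; by_cases hg : g ∈ L <;> simp [fixP, cfResE, cfRes_of_not_mem, hg]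
    exact this.symm ▸ isChar_zero
  · by_cases hk : P ≤ cfker L θ
    · have : fixP P L θ = θ := by
        rw [fixP, ← cfRes_id hθ.mem_CF]
        refine cfRes_ext fun g _ => ?_
        rw [cfRes_id hθ.mem_CF, Finset.sum_congr rfl fun u hu => cfkerMl (hk (mem_elts.1 hu)) g,
          sum_elts_const, nsmul_eq_mul, inv_mul_cancel_left₀ (cardC_ne_zero P)]
      exact this.symm ▸ hθ.isChar
    · have : fixP P L θ = 0 := by
        rw [fixP, ← (cfRes L).map_zero]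
        refine cfRes_ext fun g _ => ?_
        have hf : cf1 P ∈ CF L := by
          have := cfInd_mem_CF L P (cf1 P)
          rw [cfInd_cfun1 hP] at this
          exact (Submodule.smul_mem_iff _ (relIndexC_ne_zero P L)).1 this
        have e : ∀ F : G → ℂ, ∑ u ∈ elts (L : Set G), cf1 P u * F u =
            ∑ u ∈ elts (P : Set G), F u := fun F => by
          rw [← sum_elts_subset hP.1 fun u _ hu => by rw [cf1_of_not_mem hu, zero_mul]]
          exact Finset.sum_congr rfl fun u hu => by rw [cf1E (mem_elts.1 hu), one_mul]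
        have := irr_conv hθ hf g
        rw [e, e, hθ.sum_eq_zero_of_not_cfker hP hk, zero_mul] at this
        rw [(mul_eq_zero.1 this).resolve_left (irr1_neq0 hθ), mul_zero, Pi.zero_apply]
      exact this.symm ▸ isChar_zero
  · have : fixP P L (a + b) = fixP P L a + fixP P L b := by
      rw [fixP, fixP, fixP, ← map_add]
      exact cfRes_ext fun g _ => by simp [Finset.sum_add_distrib, mul_add]
    exact this ▸ ha.add hb

omit hp in
theorem fixP_char' {P L : Subgroup G} (hP : P ⊴ L) {χ : G → ℂ} (h : IsChar ⊤ χ) :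
    IsChar L (fixP P L χ) := by
  have : fixP P L (cfRes L χ) = fixP P L χ := cfRes_ext fun g hg => by
    rw [Finset.sum_congr rfl fun u hu => cfResE _ (mul_mem (hP.1 (mem_elts.1 hu)) hg)]
  exact this ▸ fixP_char hP (h.cfRes le_top)

omit hp in
theorem eq_of_le {L : Subgroup G} {Ψ : G → ℂ} (h : IsChar L Ψ) {S : Finset (G → ℂ)}
    (hS : ∀ θ ∈ S, IsIrr L θ) {c : ℕ} (h1 : ∀ θ ∈ S, ∃ m : ℕ, ⟪Ψ, θ⟫[L] = m ∧ c ≤ m)
    (h2 : Ψ 1 = c * ∑ θ ∈ S, θ 1) : Ψ = ∑ θ ∈ S, (c : ℂ) • θ := by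
  have h3 : IsChar L (Ψ - ∑ θ ∈ S, (c : ℂ) • θ) := by
    refine isChar_of_cfdot (sub_mem h.mem_CF (sum_smul_irr_mem_CF hS _)) fun θ hθ => ?_
    rw [cfdotBl]
    by_cases e : θ ∈ S
    · obtain ⟨m, i1, i2⟩ := h1 θ e
      rw [cfdot_sum_smul_irr hS _ e, i1, ← Nat.cast_sub i2]
      exact isCnat_natCast _
    · rw [cfdot_sum_smul_irr_of_not_mem hS _ hθ e, sub_zero]
      exact Cnat_cfdot_char h hθ.isChar
  rw [← sub_eq_zero, ← char1_eq0 h3, Pi.sub_apply, h2, Finset.sum_apply, Finset.mul_sum]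
  simp

omit hp in
theorem sum_sq_le {S : Finset (G → ℂ)} (hS : ∀ θ ∈ S, IsIrr ⊤ θ) :
    ∑ θ ∈ S, dg θ ^ 2 ≤ Nat.card G := by
  have h := irr_sum_square (⊤ : Subgroup G)
  rw [card_top, Finset.sum_congr rfl fun θ hθ => by rw [dg_eq (mem_Irr.1 hθ).isChar]] at h
  have h' : ∑ θ ∈ Irr (⊤ : Subgroup G), dg θ ^ 2 = Nat.card G := by exact_mod_cast h
  exact h' ▸ Finset.sum_le_sum_of_subset fun θ hθ => mem_Irr.2 (hS θ hθ)

/-- the non-exceptional characters sorted by degree -/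
structure Cen (I : Finset (G → ℂ)) (δ : (G → ℂ) → ℤ) (f1 f2 f3 f4 : ℕ)
    (S1 S2 S3 S4 : Finset (G → ℂ)) : Prop where
  h1 : ∀ θ ∈ S1, θ ∈ I ∧ δ θ = 1 ∧ dg θ = f1
  h2 : ∀ θ ∈ S2, θ ∈ I ∧ δ θ = 1 ∧ dg θ = f2
  h3 : ∀ θ ∈ S3, θ ∈ I ∧ δ θ = -1 ∧ dg θ = f3
  h4 : ∀ θ ∈ S4, θ ∈ I ∧ δ θ = -1 ∧ dg θ = f4
  sum : ∀ (M : Type) [AddCommMonoid M] (F : (G → ℂ) → M), ∑ θ ∈ I, F θ =
    F (cf1 ⊤) + (∑ θ ∈ S1, F θ + ∑ θ ∈ S2, F θ + (∑ θ ∈ S3, F θ + ∑ θ ∈ S4, F θ))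

omit hp [Finite G] in
theorem exists_cen {I : Finset (G → ℂ)} {δ : (G → ℂ) → ℤ} {f1 f2 f3 f4 : ℕ} (h1 : cf1 ⊤ ∈ I)
    (h : ∀ θ ∈ I, θ ≠ cf1 ⊤ → δ θ = 1 ∧ (dg θ = f1 ∨ dg θ = f2) ∨
      δ θ = -1 ∧ (dg θ = f3 ∨ dg θ = f4)) : ∃ S1 S2 S3 S4, Cen I δ f1 f2 f3 f4 S1 S2 S3 S4 := by
  classical
  refine ⟨((I.erase (cf1 ⊤)).filter (δ · = 1)).filter (dg · = f1),
    ((I.erase (cf1 ⊤)).filter (δ · = 1)).filter (¬ dg · = f1),
    ((I.erase (cf1 ⊤)).filter (¬ δ · = 1)).filter (dg · = f3),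
    ((I.erase (cf1 ⊤)).filter (¬ δ · = 1)).filter (¬ dg · = f3), ?_, ?_, ?_, ?_, fun M _ F => ?_⟩
  iterate 4
    intro θ hθ
    simp only [Finset.mem_filter, Finset.mem_erase] at hθ
    have := h θ hθ.1.1.2 hθ.1.1.1
    refine ⟨hθ.1.1.2, ?_⟩
    omega
  simp only [Finset.sum_filter_add_sum_filter_not, Finset.add_sum_erase _ _ h1]

namespace Dat
variable (d : Dat p x y K H)

/-- the Sylow subgroup `⟨x⟩` -/
def syl : Sylow p G :=
  (IsPGroup.of_card (n := 1) (by rw [d.cardP, pow_one])).toSylow d.not_dvd_index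

theorem Cs_syl : Cs d.syl = 𝐂[x] := by
  change 𝐂(zpowers x) = _
  rw [zpowers_eq_closure, centralizer_closure]

include d in
theorem sm {r : ℕ} (hn : (𝐍(zpowers x)).index = 1 + r * p) (hr : r < p) : Sm p G r where
  card Q := by rw [Q.card_eq_multiplicity, ← d.syl.card_eq_multiplicity]; exact d.cardP
  hn := d.card_sylow.trans hn
  hr := hr

omit [Finite G] in
include d in
theorem conj_C {g c : G} (hg : g ∈ 𝐍(zpowers x)) (hc : c ∈ 𝐂[x]) : g * c * g⁻¹ ∈ 𝐂[x] := by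
  obtain ⟨i, k, hk, rfl⟩ := d.mem_C.1 hc
  exact d.mem_C.2 ⟨_, _, d.Knorm' hg hk, d.conj_mul ⟨g, hg⟩ i k⟩

include d in
theorem tiC (s : NS G) {r : ℕ} (hn : (𝐍(zpowers x)).index = 1 + r * p) (hr : r < p) :
    NormedTI (sharp 𝐂[x]) ⊤ 𝐍(zpowers x) where
  nonempty := ⟨x, mem_centralizer_singleton_iff.2 rfl, d.tiP.nonempty.elim fun _ _ e =>
    hp.out.ne_one (by rw [← d.ord, orderOf_eq_one_iff]; exact e)⟩
  le := le_top
  conj_mem g hg a ha := ⟨d.conj_C hg ha.1, fun h => ha.2 (by simpa using h)⟩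
  mem_of_conj g _ a ha h := by
    refine (Sylow.smul_eq_iff_mem_normalizer (P := d.syl)).1 (by_contra fun e => h.2 ?_)
    refine mem_bot.1 ((d.sm hn hr).ti s.simple e ▸ ⟨mem_Cs_smul.2 ?_, d.Cs_syl ▸ h.1⟩)
    rw [d.Cs_syl]; simpa [mul_assoc] using ha.1

include d in
theorem cardK_dvd (s : NS G) {r : ℕ} (hn : (𝐍(zpowers x)).index = 1 + r * p) (hr : r < p) :
    ♯K ∣ r := by
  have := (d.sm hn hr).card_Cs_dvd s.simple d.syl
  rw [d.Cs_syl, d.cardC, mul_comm] at this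
  exact Nat.dvd_of_mul_dvd_mul_right hp.out.pos this

omit d hp [Finite G] in
theorem P_normal : zpowers x ⊴ 𝐍(zpowers x) := ⟨le_normalizer, le_rfl⟩

omit d hp [Finite G] in
theorem P_le_C : zpowers x ≤ 𝐂[x] := zpowers_le.2 (mem_centralizer_singleton_iff.2 rfl)

variable {d} {I : Finset (G → ℂ)} {δ : (G → ℂ) → ℤ} {ξ : d.J → G → ℂ} {δ0 : ℤ}

namespace Brauer
variable (b : d.Brauer I δ ξ δ0)
include b

theorem sum_Irr {M : Type} [AddCommMonoid M] (F : (G → ℂ) → M)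
    (h : ∀ θ, IsIrr ⊤ θ → θ ∉ I → θ ∉ Set.range ξ → F θ = 0) :
    ∑ θ ∈ Irr ⊤, F θ = ∑ θ ∈ I, F θ + ∑ j, F (ξ j) := by
  classical
  rw [← Finset.sum_image (s := Finset.univ) (g := ξ) (f := F) fun _ _ _ _ e => b.inj e,
    ← Finset.sum_union (Finset.disjoint_right.2 fun θ h => by
      obtain ⟨j, -, rfl⟩ := Finset.mem_image.1 h; exact b.notI j)]
  refine (Finset.sum_subset (fun θ hθ => mem_Irr.2 ?_) fun θ hθ h' => h θ (mem_Irr.1 hθ)
    (fun e => h' (Finset.mem_union_left _ e)) fun ⟨j, e⟩ => h' (Finset.mem_union_right _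
      (Finset.mem_image.2 ⟨j, Finset.mem_univ _, e⟩))).symm
  rcases Finset.mem_union.1 hθ with h | h
  · exact b.irrI θ h
  · obtain ⟨j, -, rfl⟩ := Finset.mem_image.1 h; exact b.irrξ j

theorem sum_le' (F : (G → ℂ) → ℤ) (h : ∀ θ, 0 ≤ F θ) :
    ∑ θ ∈ I, F θ + ∑ j, F (ξ j) ≤ ∑ θ ∈ Irr ⊤, F θ := by
  classical
  have := b.sum_Irr (fun θ => if θ ∈ I ∨ θ ∈ Set.range ξ then F θ else 0) fun θ _ h1 h2 =>
    if_neg (not_or.2 ⟨h1, h2⟩)
  rw [Finset.sum_congr (s₁ := I) rfl fun θ h => if_pos (.inl h),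
    Finset.sum_congr (s₁ := Finset.univ) rfl fun j _ => if_pos (.inr ⟨j, rfl⟩)] at this
  rw [← this]
  exact Finset.sum_le_sum fun θ _ => by split_ifs; exacts [le_rfl, h θ]

theorem sq_le : ∑ θ ∈ I, dg θ ^ 2 + Nat.card d.J * dg (ξ 1) ^ 2 ≤ Nat.card G := by
  have h1 := b.sum_le' (fun θ => (dg θ ^ 2 : ℕ)) fun _ => Int.natCast_nonneg _
  have h2 := sum_sq_le (S := Irr (⊤ : Subgroup G)) fun θ h => mem_Irr.1 h
  rw [Finset.sum_congr (s₁ := Finset.univ) rfl fun j _ => by rw [b.dgξ j 1], Finset.sum_const,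
    Finset.card_univ, ← Nat.card_eq_fintype_card, nsmul_eq_mul] at h1
  exact le_trans (by exact_mod_cast h1) h2

theorem ξ_reg (j k : d.J) {g : G} (hg : ¬ p ∣ orderOf g) : ξ j g = ξ k g := by
  have h1 := b.reg_eq j hg
  have h2 := b.reg_eq k hg
  have h3 : (δ0 : ℂ) ≠ 0 := by rcases b.sign0 with e | e <;> simp [e]
  exact mul_left_cancel₀ h3 (by linear_combination h1 - h2)

variable {f1 f2 f3 f4 : ℕ} {S1 S2 S3 S4 : Finset (G → ℂ)} (c : Cen I δ f1 f2 f3 f4 S1 S2 S3 S4)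
include c

theorem cen_card : Nat.card d.E = 1 + (S1.card + S2.card + (S3.card + S4.card)) := by
  simpa [b.card] using c.sum ℕ fun _ => 1

theorem cen_deg (j : d.J) : (1 : ℤ) + (S1.card * f1 + S2.card * f2 - S3.card * f3 - S4.card * f4) +
    δ0 * dg (ξ j) = 0 := by
  have h := b.deg_eq' j
  rw [c.sum, b.δ_one, dg_one,
    Finset.sum_congr (s₁ := S1) rfl fun θ h => by rw [(c.h1 θ h).2.1, (c.h1 θ h).2.2],
    Finset.sum_congr (s₁ := S2) rfl fun θ h => by rw [(c.h2 θ h).2.1, (c.h2 θ h).2.2],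
    Finset.sum_congr (s₁ := S3) rfl fun θ h => by rw [(c.h3 θ h).2.1, (c.h3 θ h).2.2],
    Finset.sum_congr (s₁ := S4) rfl fun θ h => by rw [(c.h4 θ h).2.1, (c.h4 θ h).2.2]] at h
  simp only [Finset.sum_const, nsmul_eq_mul] at h
  push_cast at h
  linear_combination h

theorem cen_sq : 1 + (S1.card * f1 ^ 2 + S2.card * f2 ^ 2 + (S3.card * f3 ^ 2 + S4.card * f4 ^ 2)) +
    Nat.card d.J * dg (ξ 1) ^ 2 ≤ Nat.card G := by
  have h := b.sq_le
  rw [c.sum, dg_one,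
    Finset.sum_congr (s₁ := S1) rfl fun θ h => by rw [(c.h1 θ h).2.2],
    Finset.sum_congr (s₁ := S2) rfl fun θ h => by rw [(c.h2 θ h).2.2],
    Finset.sum_congr (s₁ := S3) rfl fun θ h => by rw [(c.h3 θ h).2.2],
    Finset.sum_congr (s₁ := S4) rfl fun θ h => by rw [(c.h4 θ h).2.2]] at h
  simpa only [Finset.sum_const, smul_eq_mul, one_pow] using h

theorem cen_reg (j : d.J) {g : G} (hg : ¬ p ∣ orderOf g) :
    1 + (∑ θ ∈ S1, θ g + ∑ θ ∈ S2, θ g - ∑ θ ∈ S3, θ g - ∑ θ ∈ S4, θ g) + δ0 * ξ j g = 0 := by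
  have h := b.reg_eq j hg
  rw [c.sum, b.δ_one, cf1E (mem_top _),
    Finset.sum_congr (s₁ := S1) rfl fun θ h => by rw [(c.h1 θ h).2.1],
    Finset.sum_congr (s₁ := S2) rfl fun θ h => by rw [(c.h2 θ h).2.1],
    Finset.sum_congr (s₁ := S3) rfl fun θ h => by rw [(c.h3 θ h).2.1],
    Finset.sum_congr (s₁ := S4) rfl fun θ h => by rw [(c.h4 θ h).2.1]] at h
  simp only [Int.cast_one, one_mul, Int.cast_neg, neg_mul, Finset.sum_neg_distrib] at h
  linear_combination h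

end Brauer
end Dat
end Cfsg.Agent.BR
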